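import Groth.Agent.Variety.K432.CurveLift
import Groth.Agent.CurvesB.DimPts
import Groth.Agent.S1585
import Mathlib.RingTheory.DiscreteValuationRing.TFAE
import Mathlib.AlgebraicGeometry.ZariskisMainTheorem

/-!
# Curves over a field: finiteness of dominant morphisms, regular models

* `dim_eq_iff`: the dimension of an irreducible scheme of finite type over a field is the transcendence degree at
  the generic point.
* `isFinite_of_dominant`: a dominant morphism of proper integral curves is finite.
* `exists_regular_model`: normalization of a proper integral curve.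
* `exists_factor`: a morphism from an integral curve factors through the closure of the image of its generic point.
-/

set_option autoImplicit false
universe u

open AlgebraicGeometry CategoryTheory TopologicalSpace

namespace K432.CurveNorm

open Groth.Agent Groth.Agent.CycB K432.CurveLift

theorem dim_eq_iff {k : Type u} [Field k] {X : Scheme.{u}} [IrreducibleSpace X] (p : X ⟶ Spec (CommRingCat.of k))
    [LocallyOfFiniteType p] (n : ℕ) : topologicalKrullDim X = n ↔ RelDim.rtd p (genericPoint X) = n := by
  rw [← dim_closure_iff, genericPoint_closure]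
  have : topologicalKrullDim (Set.univ : Set X) = topologicalKrullDim X :=
    IsHomeomorph.topologicalKrullDim_eq _ (Homeomorph.Set.univ X).isHomeomorph
  rw [this]

theorem rtd_le_of_dim {k : Type u} [Field k] {X : Scheme.{u}} (p : X ⟶ Spec (CommRingCat.of k))
    [LocallyOfFiniteType p] (n : ℕ) (h : topologicalKrullDim X ≤ n) (x : X) : RelDim.rtd p x ≤ n := by
  obtain ⟨m, hm, hm'⟩ := exists_dim_closure p x
  have h1 : topologicalKrullDim (closure {x} : Set X) ≤ n := (topologicalKrullDim_subspace_le X _).trans h
  rw [hm'] at h1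
  rw [hm]
  exact_mod_cast h1

theorem map_genericPoint {X Y : Scheme.{u}} [IrreducibleSpace X] [IrreducibleSpace Y] (f : X ⟶ Y) [IsDominant f] :
    f (genericPoint X) = genericPoint Y := by
  have h1 : IsGenericPoint (f (genericPoint X)) (closure (f '' Set.univ)) :=
    (genericPoint_spec X).image f.continuous
  rw [Set.image_univ, f.denseRange.closure_range] at h1
  exact h1.eq (genericPoint_spec Y)

theorem rtd_eq_zero_of_locallyQuasiFinite {X Y : Scheme.{u}} (f : X ⟶ Y) [LocallyOfFiniteType f]
    [LocallyQuasiFinite f] (x : X) : RelDim.rtd f x = 0 := by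
  obtain ⟨z, hz⟩ : x ∈ Set.range (f.fiberι (f x)) := by
    rw [Scheme.Hom.range_fiberι]; rfl
  obtain ⟨n, hn, hn'⟩ := RelDim.exists_dim_closure_fiber f (f x) z
  have h0 : topologicalKrullDim (closure {z} : Set (f.fiber (f x))) ≤ 0 :=
    topologicalKrullDim_zero_of_discreteTopology _
  rw [hn'] at h0
  have : n = 0 := by
    have h1 : (n : ℕ∞) ≤ 0 := by exact_mod_cast h0
    exact_mod_cast nonpos_iff_eq_zero.mp h1
  rw [hz, this] at hn
  simpa using hn

/-- A proper morphism with algebraic residue field extensions is finite. -/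
theorem isFinite_of_rtd_eq_zero {X Y : Scheme.{u}} (f : X ⟶ Y) [IsProper f]
    (h : ∀ x : X, RelDim.rtd f x = 0) : IsFinite f := by
  have : LocallyQuasiFinite f := by
    refine LocallyQuasiFinite.of_finite_preimage_singleton f fun y => ?_
    have hlft : LocallyOfFiniteType (f.fiberToSpecResidueField y) :=
      inferInstanceAs (LocallyOfFiniteType (Limits.pullback.snd f (Y.fromSpecResidueField y)))
    have hN : IsLocallyNoetherian (f.fiber y) :=
      LocallyOfFiniteType.isLocallyNoetherian (f.fiberToSpecResidueField y)
    have hdim : topologicalKrullDim (f.fiber y) ≤ 0 := by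
      rw [CurvesB.DimPts.krullDim_eq, Order.krullDim_nonpos_iff_forall_isMax]
      intro z w hzw
      -- `w ⤳ z`
      have h1 : w ⤳ z := hzw
      by_contra hne
      have hne' : w ≠ z := by rintro rfl; exact hne le_rfl
      have h2 := RelDim.rtd_lt_of_specializes f (x := f.fiberι y z) (x' := f.fiberι y w)
        (h1.map (f.fiberι y).continuous) (fun h => hne' ((f.fiberι y).isEmbedding.injective h)) (by
          have e1 : ∀ t : f.fiber y, f (f.fiberι y t) = y := fun t => by
            have : f.fiberι y t ∈ Set.range (f.fiberι y) := ⟨t, rfl⟩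
            rw [Scheme.Hom.range_fiberι] at this
            exact this
          rw [e1, e1])
      rw [h, h] at h2
      exact lt_irrefl _ h2
    have hA := IsLocallyArtinian.of_topologicalKrullDim_le_zero hdim
    have hc : CompactSpace (f.fiber y) := inferInstance
    have hA' : IsArtinianScheme (f.fiber y) := { }
    have : Finite (f.fiber y) := inferInstance
    have := Set.finite_range (f.fiberι y)
    rwa [Scheme.Hom.range_fiberι] at this
  exact IsFinite.of_isProper_of_locallyQuasiFinite f

/-- A dominant morphism of integral curves over a field, proper, is finite. -/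
theorem isFinite_of_dominant {k : Type u} [Field k] {X Y : Scheme.{u}} [IrreducibleSpace X] [IrreducibleSpace Y]
    (p : Y ⟶ Spec (CommRingCat.of k)) [LocallyOfFiniteType p] (f : X ⟶ Y) [IsProper f] [IsDominant f]
    (hX : topologicalKrullDim X = 1) (hY : topologicalKrullDim Y = 1) : IsFinite f := by
  refine isFinite_of_rtd_eq_zero f fun x => ?_
  have hY' := (dim_eq_iff p 1).mp (by rw [hY]; rfl)
  have hX' := (dim_eq_iff (f ≫ p) 1).mp (by rw [hX]; rfl)
  by_cases hx : x = genericPoint X
  · subst hx
    rw [RelDim.rtd_comp, map_genericPoint, hY'] at hX'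
    have h1 : RelDim.rtd f (genericPoint X) < Cardinal.aleph0 := RelDim.rtd_lt_aleph0 f _
    obtain ⟨n, hn⟩ := Cardinal.lt_aleph0.mp h1
    rw [hn] at hX' ⊢
    have h2 : 1 + n = 1 := by exact_mod_cast hX'
    have h3 : n = 0 := by omega
    rw [h3]; rfl
  · have h1 : RelDim.rtd (f ≫ p) x < RelDim.rtd (f ≫ p) (genericPoint X) :=
      RelDim.rtd_lt_of_specializes (f ≫ p) (genericPoint_specializes x) (Ne.symm hx) (Subsingleton.elim _ _)
    rw [hX', RelDim.rtd_comp] at h1
    have h2 : RelDim.rtd p (f x) + RelDim.rtd f x < 1 := by exact_mod_cast h1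
    have h3 := Cardinal.lt_one_iff.mp h2
    exact (add_eq_zero.mp h3).2

theorem isRegularLocalRing_of_isIntegrallyClosed (R : Type u) [CommRing R] [IsDomain R] [IsLocalRing R]
    [IsNoetherianRing R] [IsIntegrallyClosed R] (h : ringKrullDim R ≤ 1) : IsRegularLocalRing R := by
  have h1 : Ring.KrullDimLE 1 R := Ring.krullDimLE_iff.mpr h
  have h3 : IsPrincipalIdealRing R ↔
      IsIntegrallyClosed R ∧ ∀ P : Ideal R, P ≠ ⊥ → P.IsPrime → P = IsLocalRing.maximalIdeal R :=
    (tfae_of_isNoetherianRing_of_isLocalRing_of_isDomain R).out 0 3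
  have h2 : IsPrincipalIdealRing R := by
    refine h3.mpr ⟨inferInstance, fun P hP hP' => ?_⟩
    exact IsLocalRing.eq_maximalIdeal (hP'.isMaximal_of_ne_bot hP)
  infer_instance

/-- Normalization of an integral curve over a field. -/
theorem exists_regular_model {k : Type u} [Field k] {C : Scheme.{u}} [IsIntegral C]
    (c : C ⟶ Spec (CommRingCat.of k)) [LocallyOfFiniteType c] (hdim : topologicalKrullDim C = 1) :
    ∃ (D : Scheme.{u}) (ν : D ⟶ C), IsFinite ν ∧ Surjective ν ∧ IsIntegral D ∧ topologicalKrullDim D = 1 ∧
      (∀ x : D, IsRegularLocalRing (D.presheaf.stalk x)) ∧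
      (∃ V : C.Opens, (V : Set C).Nonempty ∧ IsIso (ν ∣_ V)) := by
  let : C.Over (Spec (CommRingCat.of k)) := ⟨c⟩
  have : LocallyOfFiniteType (C ↘ (Spec (CommRingCat.of k))) := ‹LocallyOfFiniteType c›
  have : QuasiCompact (C.fromSpecStalk (genericPoint C)) := by
    have : Finite (Spec (C.presheaf.stalk (genericPoint C))) := by
      have h : IsField (C.presheaf.stalk (genericPoint C)) := Field.toIsField (C.functionField)
      let := h.toField
      exact inferInstanceAs (Finite (PrimeSpectrum (C.presheaf.stalk (genericPoint C))))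
    exact ⟨fun U _ _ => Set.Finite.isCompact (Set.toFinite _)⟩
  obtain ⟨h1, h2, ⟨V, hV, hV'⟩, h4, h5⟩ := S1585.result k C
  have hs : Surjective (Curv2.normalizationι C) := by
    have h6 := (Curv2.normalizationι C).isClosedMap.isClosed_range
    have h7 := (Curv2.normalizationι C).denseRange
    exact ⟨Set.range_eq_univ.1 (h6.closure_eq.symm.trans h7.closure_eq)⟩
  have hD : topologicalKrullDim (Curv2.normalization C) = 1 := by
    have h3 := (dim_eq_iff c 1).mp (by rw [hdim]; rfl)
    refine (dim_eq_iff (Curv2.normalizationι C ≫ c) 1).mpr ?_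
    rw [RelDim.rtd_comp, map_genericPoint, h3, rtd_eq_zero_of_locallyQuasiFinite, add_zero]
  refine ⟨Curv2.normalization C, Curv2.normalizationι C, h1, hs, h4, hD, fun x => ?_, ⟨V, hV, hV'⟩⟩
  obtain ⟨hd, hi⟩ := h5 x
  have : IsLocallyNoetherian (Curv2.normalization C) := by
    have : LocallyOfFiniteType (Curv2.normalizationι C ≫ c) := inferInstance
    exact LocallyOfFiniteType.isLocallyNoetherian (Curv2.normalizationι C ≫ c)
  exact isRegularLocalRing_of_isIntegrallyClosed _ ((CurvesB.DimPts.ringKrullDim_stalk_le x).trans hD.le)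

end K432.CurveNorm
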