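import Groth.Agent.Variety.K433.GrowthId
import Groth.Agent.Fga.HodgeModel
import Groth.Agent.Fga.HodgePush
import Groth.Agent.S0027
import Groth.Agent.VarietyB.ProjForm
import Groth.Agent.VarietyB.ClosedInter
import Groth.Agent.Variety.K434.DevIrred
import Groth.Agent.CohqA.DevSub

/-!
# Growth of `h⁰` on a proper scheme

`X` proper over a field `k`, `g : Pic X`.
* `hq_push`: `h⁰(X, f_* G ⊗ c) = h⁰(Y, G ⊗ f^* c)`.
* `hq_zero_mono`: `h⁰(F ⊗ c) ≤ h⁰(G ⊗ c)` for a monomorphism `F ⟶ G` with `G` coherent.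
* `growth`: `dim Supp F ≤ e` implies `h⁰(F ⊗ g^m) ≤ C (m+1)^e` (Chow's lemma and dévissage).
* `growth_lt`: `dim Supp F < d` implies `h⁰(F ⊗ g^m) ≤ C phi d m`.
-/

set_option autoImplicit false
universe u
open CategoryTheory CategoryTheory.Limits AlgebraicGeometry Opposite TopologicalSpace

namespace K432.ProperGrowth

open Groth.Agent Groth.Agent.Ega2 Groth.Agent.Grpsch.PicGrp K433.Hq Groth.Agent.Fdesc.LocGen
open Groth.Agent.Fga.PicMon Groth.Agent.CohqB.SerTw

variable {X Y : Scheme.{u}}

theorem mono_toPush (f : Y ⟶ X) [IsDominant f] [QuasiCompact f] [IsReduced X] : Mono (CohqA.DevSub.toPush f) := by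
  rw [Ega1.SubSheaf.mono_iff_injective]
  intro U
  have := IsSchemeTheoreticallyDominant.of_isDominant f
  exact f.app_injective U

variable (k : Type u) [Field k] [X.Over (Spec (CommRingCat.of k))] [Y.Over (Spec (CommRingCat.of k))]

theorem hq_push (f : Y ⟶ X) (hf : f ≫ (X ↘ (Spec (CommRingCat.of k))) = Y ↘ (Spec (CommRingCat.of k)))
    (G : Y.Modules) (c : Pic X) :
    hq k 0 ((Scheme.Modules.pushforward f).obj G) c = hq k 0 G (pull f c) := by
  have h1 : hq k 0 ((Scheme.Modules.pushforward f).obj G) c =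
      hh k ((Scheme.Modules.pushforward f).obj
        (CohB1.tensorMod ((Scheme.Modules.pullback f).obj (rep c)) G)) 0 :=
    hh_iso k (Tens.swap _ _ ≪≫ VarietyB.ProjForm.projIso f (Fga.HodgePush.hasBases_of_isInvertible (rep_inv c)) G) 0
  rw [h1]
  refine (VarietyB.ClosedInter.finrank_hZero_push k f hf _).trans ?_
  have h2 : pull f c = mk ((Scheme.Modules.pullback f).obj (rep c)) (isInvertible_pullback f (rep_inv c)) := by
    conv_lhs => rw [← mk_rep c]
    exact pull_mk f _
  rw [h2, hq_mk]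
  exact hh_iso k (Tens.swap _ _) 0

section

variable [IsProper (X ↘ Spec (CommRingCat.of k))]

theorem hq_zero_mono {F G : X.Modules} (φ : F ⟶ G) [Mono φ] (hG : Coh.IsCoh G) (c : Pic X) :
    hq k 0 F c ≤ hq k 0 G c := by
  have hS : (ShortComplex.mk φ (cokernel.π φ) (cokernel.condition φ)).ShortExact :=
    { exact := ShortComplex.exact_of_g_is_cokernel _ (cokernelIsCokernel φ) }
  exact hh_left_aux_zero k ((ShortComplex.mk φ (cokernel.π φ) (cokernel.condition φ)).map (tw (rep c)))
    (shortExact_tw (rep_inv c) hS) (S0002.result k X _ (Fga.TwistCoh.isCoh_tensor hG (rep_inv c)) 0)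

/-- growth of `h⁰` for ideals of an integral proper scheme. -/
theorem growth_integral [IsIntegral X] (g : Pic X) {e : ℕ} (hX : topologicalKrullDim X ≤ e)
    {I : X.Modules} (ι : I ⟶ Coh.structureModule X) [Mono ι] :
    ∃ C : ℕ, ∀ m : ℕ, hq k 0 I (g ^ m) ≤ C * K433.Growth.phi (e + 1) m := by
  obtain ⟨Z, _, f, hZ, hZp, hf, hs, hdim, A, hA⟩ := Fga.HodgeModel.exists_model k X
  have hpf : IsProper f := by
    have : IsProper (f ≫ (X ↘ (Spec (CommRingCat.of k)))) := by rw [hf]; exact hZp
    exact IsProper.of_comp f (X ↘ (Spec (CommRingCat.of k)))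
  have hNX : IsLocallyNoetherian X := LocallyOfFiniteType.isLocallyNoetherian (X ↘ Spec (CommRingCat.of k))
  have hNZ : IsLocallyNoetherian Z := LocallyOfFiniteType.isLocallyNoetherian (Z ↘ Spec (CommRingCat.of k))
  have hO : Coh.IsCoh (Coh.structureModule Z) :=
    VarietyA.CurveFin.isCoh_of_isInvertible isInvertible_structureModule
  have hm := mono_toPush f
  have hdZ : topologicalKrullDim (CohB1.support (Coh.structureModule Z)) ≤ e :=
    (Fga.DimLt.topologicalKrullDim_mono (Set.subset_univ _)).trans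
      ((IsHomeomorph.topologicalKrullDim_eq _ (Homeomorph.Set.univ Z).isHomeomorph).le.trans (hdim.trans hX))
  obtain ⟨C, hC⟩ := K433.Growth.growth_pow k hA (pull f g) hO hdZ 0
  refine ⟨C, fun m => ?_⟩
  have h1 := hq_zero_mono k (ι ≫ CohqA.DevSub.toPush f) (Fga.HodgePush.isCoh_push f hO) (g ^ m)
  refine h1.trans ?_
  have h2 := hq_push k f hf (Coh.structureModule Z) (g ^ m)
  rw [map_pow] at h2
  exact h2.le.trans (hC m)

/-- `dim Supp F ≤ e` implies `h⁰(F ⊗ g^m) ≤ C (m+1)^e`. -/
theorem growth (g : Pic X) {e : ℕ} {F : X.Modules} (hF : Coh.IsCoh F)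
    (hd : topologicalKrullDim (CohB1.support F) ≤ e) :
    ∃ C : ℕ, ∀ m : ℕ, hq k 0 F (g ^ m) ≤ C * K433.Growth.phi (e + 1) m := by
  have hNX : IsNoetherian X := Fga.HypSec.isNoetherian k X
  rcases isEmpty_or_nonempty X with hemp | hne
  · exact ⟨0, fun m => by rw [hq_eq_zero k 0 (Set.eq_empty_of_isEmpty _)]; exact Nat.zero_le _⟩
  refine S0027.result X (fun F => topologicalKrullDim (CohB1.support F) ≤ e →
    ∃ C : ℕ, ∀ m : ℕ, hq k 0 F (g ^ m) ≤ C * K433.Growth.phi (e + 1) m) ?_ ?_ ?_ F hF hd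
  · rintro M N ⟨a⟩ h hN
    obtain ⟨C, hC⟩ := h (by rwa [CohqB.DevSupport.support_congr a])
    exact ⟨C, fun m => by rw [← hq_congr k 0 ⟨a⟩]; exact hC m⟩
  · intro S hS c1 c2 c3 h1 h3 h2
    have hsub := CohqB.DevSupport.support_shortExact hS
    obtain ⟨C1, hC1⟩ := h1 ((Fga.DimLt.topologicalKrullDim_mono (by rw [hsub]; exact Set.subset_union_left)).trans h2)
    obtain ⟨C3, hC3⟩ := h3 ((Fga.DimLt.topologicalKrullDim_mono (by rw [hsub]; exact Set.subset_union_right)).trans h2)
    refine ⟨C1 + C3, fun m => ?_⟩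
    have := hq_mid_le k hS c1 c2 c3 0 (g ^ m)
    have a1 := hC1 m
    have a3 := hC3 m
    rw [add_mul]
    omega
  · intro Z i hi hZ I ι hι hI hdim
    by_cases hg : genericPoint Z ∈ CohB1.support I
    · have hZN : IsLocallyNoetherian Z := LocallyOfFiniteType.isLocallyNoetherian i
      have hO : Coh.IsCoh (Coh.structureModule Z) :=
        VarietyA.CurveFin.isCoh_of_isInvertible isInvertible_structureModule
      have hIc : Coh.IsCoh I := S0046.result Z _ _ ι hO hI
      have h1 := K434.DevIrred.support_push_eq_closure i hIc hg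
      let _ : Z.Over (Spec (CommRingCat.of k)) := ⟨i ≫ (X ↘ (Spec (CommRingCat.of k)))⟩
      have hZt : Z ↘ Spec (CommRingCat.of k) = i ≫ (X ↘ Spec (CommRingCat.of k)) := rfl
      have hZp : IsProper (Z ↘ Spec (CommRingCat.of k)) := by rw [hZt]; infer_instance
      have hdZ : topologicalKrullDim Z ≤ e := by
        refine le_trans ?_ hdim
        rw [CohqB.DevSimple.support_push]
        have h2 : CohB1.support I = Set.univ := by
          have hc : IsClosed (CohB1.support I) := S0020.result Z I hIc.2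
          rw [Set.eq_univ_iff_forall]
          intro z
          exact (genericPoint_specializes z).mem_closed hc hg
        rw [h2, Set.image_univ]
        have e1 := i.isClosedEmbedding.isEmbedding.toHomeomorph
        exact (IsHomeomorph.topologicalKrullDim_eq _ e1.isHomeomorph).le
      obtain ⟨C, hC⟩ := growth_integral k (pull i g) hdZ ι
      refine ⟨C, fun m => ?_⟩
      have h2 := hq_push k i hZt.symm I (g ^ m)
      rw [map_pow] at h2
      exact h2.le.trans (hC m)
    · have hz : IsZero ((Coh.push i).obj I) := (Coh.push i).map_isZero (K434.DevIrred.isZero_of_torsion ι hg)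
      refine ⟨0, fun m => ?_⟩
      have h3 : hq k 0 ((Coh.push i).obj I) (g ^ m) = 0 := by
        refine hh_zero k ?_ 0
        exact (tw (rep (g ^ m))).map_isZero hz
      rw [h3]
      exact Nat.zero_le _

theorem growth_lt (g : Pic X) {d : ℕ} {F : X.Modules} (hF : Coh.IsCoh F)
    (hd : topologicalKrullDim (CohB1.support F) < d) :
    ∃ C : ℕ, ∀ m : ℕ, hq k 0 F (g ^ m) ≤ C * K433.Growth.phi d m := by
  cases d with
  | zero =>
    have h1 : CohB1.support F = ∅ := by
      by_contra hne
      have hne' : (CohB1.support F).Nonempty := Set.nonempty_iff_ne_empty.mpr hne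
      have : Nonempty (CohB1.support F) := hne'.to_subtype
      exact absurd hd (not_lt.mpr (by simpa using K433.Growth.topologicalKrullDim_nonneg))
    exact ⟨0, fun m => by rw [hq_eq_zero k 0 h1]; exact Nat.zero_le _⟩
  | succ e => exact growth k g hF (K434.DevIrred.withBot_le_of_lt_succ hd)

end

end K432.ProperGrowth
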