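import Groth.Agent.Variety.K432.AmpCurve
import Groth.Agent.Pic13.H946.Main
import Groth.Agent.VarietyB.GlobGen
import Groth.Agent.EtpbcA.CdFinDim
import Groth.Agent.S11559

/-!
# Ampleness from sections of powers and ampleness on proper closed subschemes

* `exists_gg_pow`: if every point lies in the generating locus of a section of a positive power of `L`, some
  positive power of `L` is globally generated.
* `van_of_torsion`: if `L` is ample on all integral closed subschemes different from the integral scheme `X`, then the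
  higher cohomology of `F ⊗ L^n` vanishes for `F` coherent and zero at the generic point, and `n` large.
* `isAmple_of_restrict`: `X` integral and proper over a field, `L` invertible, ample on all integral closed subschemes
  different from `X`, some positive power of `L` with a nonzero section (and `deg L > 0` if `dim X = 1`): `L` is ample.
-/

set_option autoImplicit false
universe u

open AlgebraicGeometry CategoryTheory TopologicalSpace Limits

namespace K432.SemiAmp

open Groth.Agent Groth.Agent.CycB K432.CurveLift K432.CurveNorm K432.CurveDeg K432.NefBasic K432.Contract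
open Groth.Agent.Fdesc.LocGen Groth.Agent.Grpsch.PicGrp K432.AmpCurve
open Groth.Agent.Pic13.H946.Core Groth.Agent.Pic13.H946.Main

/-- A common power of invertible modules with sections of various powers. -/
theorem exists_gg_pow {X : Scheme.{u}} [CompactSpace X] {L : X.Modules} (hL : PicF.IsInvertible L)
    (h : ∀ x : X, ∃ (n : ℕ) (t : Coh.structureModule X ⟶ CohB1.tensorPow L (n + 1)), x ∈ CohB1.genLocus _ t) :
    ∃ m : ℕ, 0 < m ∧ Curv2.IsGloballyGenerated (CohB1.tensorPow L m) := by
  choose n t ht using h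
  obtain ⟨T, hT⟩ := isCompact_univ.elim_finite_subcover
    (fun x : X => (CohB1.genLocus (CohB1.tensorPow L (n x + 1)) (t x) : Set X))
    (fun x => (CohB1.genLocus _ (t x)).isOpen) (fun x _ => Set.mem_iUnion.mpr ⟨x, ht x⟩)
  let N : ℕ := ∏ x ∈ T, (n x + 1)
  have hN : 0 < N := Finset.prod_pos fun x _ => Nat.succ_pos _
  have key : ∀ y : X, ∃ s : Coh.structureModule X ⟶ CohB1.tensorPow L N, y ∈ CohB1.genLocus _ s := by
    intro y
    obtain ⟨x, hx⟩ := Set.mem_iUnion.mp (hT (Set.mem_univ y))
    obtain ⟨hxT, hyx⟩ := Set.mem_iUnion.mp hx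
    obtain ⟨c, hc⟩ : n x + 1 ∣ N := Finset.dvd_prod_of_mem (fun x => n x + 1) hxT
    have hc0 : 0 < c := by
      rcases Nat.eq_zero_or_pos c with h0 | h0
      · rw [h0, mul_zero] at hc; omega
      · exact h0
    have hLx := isInvertible_tensorPow hL (n x + 1)
    obtain ⟨e⟩ : Nonempty (CohB1.tensorPow (CohB1.tensorPow L (n x + 1)) c ≅ CohB1.tensorPow L N) := by
      rw [← mk_eq_iff (isInvertible_tensorPow hLx c) (isInvertible_tensorPow hL N), mk_tensorPow hLx,
        mk_tensorPow hL, mk_tensorPow hL, ← pow_mul, hc]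
    refine ⟨Ega2.Weight.powHom (t x) c ≫ e.hom, ?_⟩
    rw [Ega2.Weight.genLocus_comp, Ega2.Weight.genLocus_powHom hLx _ hc0]
    exact hyx
  choose s hs using key
  exact ⟨N, hN, VarietyB.GlobGen.isGloballyGenerated_of_cover (κ := X) s (fun x => ⟨x, hs x⟩)⟩

section

variable (k : Type u) [Field k] {X : Scheme.{u}} [X.Over (Spec (CommRingCat.of k))]
  [IsProper (X ↘ Spec (CommRingCat.of k))]

include k in
/-- Torsion vanishing. -/
theorem van_of_torsion [IsIntegral X] {L : X.Modules} (hL : PicF.IsInvertible L)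
    (hZ : ∀ (Z : Scheme.{u}) (i : Z ⟶ X) [IsClosedImmersion i] [IsIntegral Z], Set.range i ≠ Set.univ →
      CohB1.IsAmple ((Scheme.Modules.pullback i).obj L)) (F : X.Modules) (hF : Coh.IsCoh F)
    (hη : genericPoint X ∉ CohB1.support F) : Van L F := by
  have hNoeth : IsNoetherian X := VarietyA.TwistExist.isNoetherian k X
  refine S0027.result X (fun F => genericPoint X ∉ CohB1.support F → Van L F)
    ?_ ?_ ?_ F hF hη
  · rintro M N ⟨e⟩ h hN
    exact van_congr (h (by rwa [CohqB.DevSupport.support_congr e])) e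
  · intro S hS _ _ _ h1 h3 h2
    rw [CohqB.DevSupport.support_shortExact hS] at h2
    exact van_of_shortExact hL hS (h1 fun h => h2 (Or.inl h)) (h3 fun h => h2 (Or.inr h))
  · intro Z i hi hZi I ι hι hI h
    by_cases hr : Set.range i = Set.univ
    · -- then `I` is zero
      have h1 : i (genericPoint Z) = genericPoint X := by
        have h2 : IsGenericPoint (i (genericPoint Z)) (Set.univ : Set X) := by
          have := Fga.MultInt.closure_generic X Z i
          rw [hr] at this
          exact this
        exact h2.eq (genericPoint_spec X)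
      have h2 : genericPoint Z ∉ CohB1.support I := by
        intro h3
        apply h
        rw [CohqB.DevSimple.support_push, ← h1]
        exact ⟨_, h3, rfl⟩
      exact van_of_isZero ((Coh.push i).map_isZero (isZero_of_torsion ι h2))
    · have hZN : IsLocallyNoetherian Z := LocallyOfFiniteType.isLocallyNoetherian i
      have hO : Coh.IsCoh (Coh.structureModule Z) :=
        VarietyA.CurveFin.isCoh_of_isInvertible isInvertible_structureModule
      exact van_push k i hL (hZ Z i hr) (S0046.result Z _ _ ι hO hI)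

/-- Ampleness from ampleness on the proper closed subschemes and one section. -/
theorem isAmple_of_restrict [IsIntegral X] {L : X.Modules} (hL : PicF.IsInvertible L)
    (hZ : ∀ (Z : Scheme.{u}) (i : Z ⟶ X) [IsClosedImmersion i] [IsIntegral Z], Set.range i ≠ Set.univ →
      CohB1.IsAmple ((Scheme.Modules.pullback i).obj L))
    (hs : ∃ (m : ℕ) (s : Coh.structureModule X ⟶ CohB1.tensorPow L (m + 1)), s ≠ 0)
    (hpos : topologicalKrullDim X = 1 → 0 < dg (X ↘ Spec (CommRingCat.of k)) L) : CohB1.IsAmple L := by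
  have hNoeth : IsNoetherian X := VarietyA.TwistExist.isNoetherian k X
  obtain ⟨a, s, hs⟩ := hs
  have hvan := van_of_torsion k hL hZ
  have key : ∀ x : X, ∃ (n : ℕ) (t : Coh.structureModule X ⟶ CohB1.tensorPow L (n + 1)),
      x ∈ CohB1.genLocus _ t := by
    intro x
    obtain ⟨P, hPx, hP⟩ : ∃ P : X, x ⤳ P ∧ IsClosed ({P} : Set X) := by
      obtain ⟨P, hP1, hP2⟩ := (isClosed_closure (s := ({x} : Set X))).exists_closed_singleton
        ⟨x, subset_closure rfl⟩
      exact ⟨P, specializes_iff_mem_closure.mpr hP1, hP2⟩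
    obtain ⟨m, t, ht⟩ := exists_section_at k L hL hvan a s hs P hP
    exact ⟨m, t, hPx.mem_open (CohB1.genLocus _ t).isOpen ht⟩
  obtain ⟨m, hm, hg⟩ := exists_gg_pow hL key
  refine isAmple_of_semiample (X ↘ Spec (CommRingCat.of k)) hL hm hg fun C hC hdim => ?_
  have hdim' : topologicalKrullDim C.subscheme = 1 := by rw [topologicalKrullDim_subscheme, hdim]
  by_cases hr : Set.range C.subschemeι = Set.univ
  · -- the curve is all of `X`
    have hX1 : topologicalKrullDim X = 1 := by
      rw [← hdim, ← Scheme.IdealSheafData.range_subschemeι, hr]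
      exact (IsHomeomorph.topologicalKrullDim_eq _ (Homeomorph.Set.univ X).isHomeomorph).symm
    have hdom : IsDominant C.subschemeι := ⟨by rw [DenseRange, hr]; exact dense_univ⟩
    obtain ⟨n, hn, hn'⟩ := exists_dg_pullback_dominant (X ↘ Spec (CommRingCat.of k)) C.subschemeι hdim' hX1
    rw [hn' L hL]
    exact mul_pos hn (hpos hX1)
  · have hA := hZ C.subscheme C.subschemeι hr
    let : C.subscheme.Over (Spec (CommRingCat.of k)) := ⟨C.subschemeι ≫ (X ↘ Spec (CommRingCat.of k))⟩
    have : IsProper (C.subscheme ↘ (Spec (CommRingCat.of k))) :=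
      inferInstanceAs (IsProper (C.subschemeι ≫ (X ↘ Spec (CommRingCat.of k))))
    exact (Groth.Agent.S1530.result k C.subscheme hdim' _ hA.1).mp hA

end

/-- Positivity of degrees on integral closed curves. -/
def Pos {k : Type u} [Field k] {X : Scheme.{u}} (p : X ⟶ Spec (CommRingCat.of k)) (L : X.Modules) : Prop :=
  ∀ (C : Scheme.{u}) (i : C ⟶ X) [IsClosedImmersion i] [IsIntegral C], topologicalKrullDim C = 1 →
    0 < dg (i ≫ p) ((Scheme.Modules.pullback i).obj L)

/-- Every integral closed subscheme carries a nonzero section of a positive power. -/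
def Eff {X : Scheme.{u}} (L : X.Modules) : Prop :=
  ∀ (Z : Scheme.{u}) (i : Z ⟶ X) [IsClosedImmersion i] [IsIntegral Z],
    ∃ (m : ℕ) (s : Coh.structureModule Z ⟶ CohB1.tensorPow ((Scheme.Modules.pullback i).obj L) (m + 1)), s ≠ 0

theorem Pos.pullback {k : Type u} [Field k] {X Y : Scheme.{u}} {p : X ⟶ Spec (CommRingCat.of k)} {L : X.Modules}
    (h : Pos p L) (f : Y ⟶ X) [IsClosedImmersion f] : Pos (f ≫ p) ((Scheme.Modules.pullback f).obj L) := by
  intro C i _ _ hC
  have h1 := h C (i ≫ f) hC
  rw [dg_congr _ ((Scheme.Modules.pullbackComp i f).symm.app L), Category.assoc] at h1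
  exact h1

/-- Transport of nonzero sections of powers along an isomorphism of modules. -/
theorem exists_section_congr {Z : Scheme.{u}} {M N : Z.Modules} (hM : PicF.IsInvertible M) (hN : PicF.IsInvertible N)
    (e : M ≅ N) {m : ℕ} (h : ∃ s : Coh.structureModule Z ⟶ CohB1.tensorPow M m, s ≠ 0) :
    ∃ s : Coh.structureModule Z ⟶ CohB1.tensorPow N m, s ≠ 0 := by
  obtain ⟨s, hs⟩ := h
  obtain ⟨e'⟩ : Nonempty (CohB1.tensorPow M m ≅ CohB1.tensorPow N m) := by
    rw [← mk_eq_iff (isInvertible_tensorPow hM m) (isInvertible_tensorPow hN m), mk_tensorPow hM, mk_tensorPow hN,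
      mk_congr (hL := hM) (hM := hN) e]
  refine ⟨s ≫ e'.hom, fun h0 => hs ?_⟩
  rw [← cancel_mono e'.hom, h0, zero_comp]

theorem Eff.pullback {X Y : Scheme.{u}} {L : X.Modules} (hL : PicF.IsInvertible L) (h : Eff L) (f : Y ⟶ X)
    [IsClosedImmersion f] : Eff ((Scheme.Modules.pullback f).obj L) := by
  intro Z i _ _
  obtain ⟨m, hs⟩ := h Z (i ≫ f)
  refine ⟨m, exists_section_congr ?_ ?_ ((Scheme.Modules.pullbackComp i f).symm.app L) hs⟩
  · exact isInvertible_pullback _ hL
  · exact isInvertible_pullback _ (isInvertible_pullback _ hL)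

/-- The statement for integral schemes, by induction on the dimension. -/
theorem isAmple_int (k : Type u) [Field k] (n : ℕ) : ∀ (X : Scheme.{u}) [X.Over (Spec (CommRingCat.of k))]
    [IsProper (X ↘ Spec (CommRingCat.of k))] [IsIntegral X], topologicalKrullDim X < (n : WithBot ℕ∞) →
    ∀ L : X.Modules, PicF.IsInvertible L → Pos (X ↘ Spec (CommRingCat.of k)) L → Eff L → CohB1.IsAmple L := by
  induction n with
  | zero =>
    intro X _ _ _ hX
    exfalso
    have := Fga.IntNum0.topologicalKrullDim_nonneg X
    exact absurd hX (not_lt.mpr (by exact_mod_cast this))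
  | succ n ih =>
    intro X _ _ _ hX L hL hpos heff
    refine isAmple_of_restrict k hL (fun Z i _ _ hr => ?_) ?_ fun hdim => ?_
    · let _ : Z.Over (Spec (CommRingCat.of k)) := ⟨i ≫ (X ↘ Spec (CommRingCat.of k))⟩
      have hZp : IsProper (Z ↘ Spec (CommRingCat.of k)) :=
        inferInstanceAs (IsProper (i ≫ (X ↘ Spec (CommRingCat.of k))))
      exact ih Z (dim_lt_of_range_ne hX i hr) _ (isInvertible_pullback i hL) (hpos.pullback i) (heff.pullback hL i)
    · obtain ⟨m, hs⟩ := heff X (𝟙 X)
      exact ⟨m, exists_section_congr (isInvertible_pullback _ hL) hL ((Scheme.Modules.pullbackId X).app L) hs⟩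
    · have h1 := hpos X (𝟙 X) hdim
      rw [dg_congr _ ((Scheme.Modules.pullbackId X).app L), Category.id_comp] at h1
      exact h1

/-- Positivity tested on closed subschemes given by ideals. -/
theorem Pos.of_ideal {k : Type u} [Field k] {X : Scheme.{u}} {p : X ⟶ Spec (CommRingCat.of k)} [IsProper p]
    {L : X.Modules} (hL : PicF.IsInvertible L)
    (h : ∀ C : X.IdealSheafData, IsIntegral C.subscheme → topologicalKrullDim (C.support : Set X) = 1 →
      0 < dg (C.subschemeι ≫ p) ((Scheme.Modules.pullback C.subschemeι).obj L)) : Pos p L := by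
  intro C i _ _ hC
  have hne : Nonempty i.ker.subscheme := ⟨(i.toImage : C ⟶ i.image) (genericPoint C)⟩
  have hint : IsIntegral i.ker.subscheme := isIntegral_of_isOpenImmersion (inv i.toImage : i.image ⟶ C)
  have hdim : topologicalKrullDim i.ker.subscheme = 1 := by
    rw [← hC]
    exact (IsHomeomorph.topologicalKrullDim_eq _ (Scheme.homeoOfIso (asIso i.toImage)).isHomeomorph).symm
  have hdom : IsDominant i.toImage := inferInstance
  let g : C ⟶ i.ker.subscheme := i.toImage
  have hg : g ≫ i.ker.subschemeι = i := i.toImage_imageι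
  have hgd : IsDominant g := hdom
  have hgi : IsIso g := inferInstanceAs (IsIso i.toImage)
  obtain ⟨n, hn, hn'⟩ := exists_dg_pullback_dominant (i.ker.subschemeι ≫ p) g hC hdim
  have h1 := hn' _ (isInvertible_pullback i.ker.subschemeι hL)
  have e1 : (Scheme.Modules.pullback g).obj ((Scheme.Modules.pullback i.ker.subschemeι).obj L) ≅
      (Scheme.Modules.pullback i).obj L :=
    (Scheme.Modules.pullbackComp g _).app L ≪≫ (Scheme.Modules.pullbackCongr hg).app L
  rw [dg_congr _ e1, ← Category.assoc, hg] at h1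
  rw [h1]
  exact mul_pos hn (h i.ker hint (by rw [← topologicalKrullDim_subscheme, hdim]))

/-- Effectivity of powers tested on closed subschemes given by ideals. -/
theorem Eff.of_ideal {X : Scheme.{u}} {L : X.Modules} (hL : PicF.IsInvertible L)
    (h : ∀ Z : X.IdealSheafData, IsIntegral Z.subscheme →
      ∃ (m : ℕ) (s : Coh.structureModule Z.subscheme ⟶
          CohB1.tensorPow ((Scheme.Modules.pullback Z.subschemeι).obj L) (m + 1)), s ≠ 0) : Eff L := by
  intro Z i _ _
  have hne : Nonempty i.ker.subscheme := ⟨(i.toImage : Z ⟶ i.image) (genericPoint Z)⟩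
  have hint : IsIntegral i.ker.subscheme := isIntegral_of_isOpenImmersion (inv i.toImage : i.image ⟶ Z)
  let g : Z ⟶ i.ker.subscheme := i.toImage
  have hg : g ≫ i.ker.subschemeι = i := i.toImage_imageι
  have hgi : IsIso g := inferInstanceAs (IsIso i.toImage)
  obtain ⟨m, s, hs⟩ := h i.ker hint
  have hM : PicF.IsInvertible ((Scheme.Modules.pullback i.ker.subschemeι).obj L) := isInvertible_pullback _ hL
  refine ⟨m, exists_section_congr (isInvertible_pullback g hM) (isInvertible_pullback i hL)
    ((Scheme.Modules.pullbackComp g _).app L ≪≫ (Scheme.Modules.pullbackCongr hg).app L) ?_⟩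
  have hMm := isInvertible_tensorPow hM (m + 1)
  obtain ⟨e⟩ : Nonempty ((Scheme.Modules.pullback g).obj (CohB1.tensorPow
      ((Scheme.Modules.pullback i.ker.subschemeι).obj L) (m + 1)) ≅
      CohB1.tensorPow ((Scheme.Modules.pullback g).obj ((Scheme.Modules.pullback i.ker.subschemeι).obj L)) (m + 1)) :=
    Ega3B.PullTensor.nonempty_pullPowIso g hM (m + 1)
  obtain ⟨y, hy⟩ := VarietyA.TwistExist.genLocus_nonempty hMm s hs
  obtain ⟨z, rfl⟩ := g.surjective y
  refine ⟨Ega2.Weight.pullHom g s ≫ e.hom, ne_zero_of_mem (x := z) _ ?_⟩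
  rw [Ega2.Weight.genLocus_comp, Ega2.Weight.genLocus_pullHom g hMm]
  exact hy

/-- Strict nefness and effectivity of powers on integral closed subschemes imply ampleness. -/
theorem isAmple_of_pos_eff (k : Type u) [Field k] (X : Scheme.{u}) [X.Over (Spec (CommRingCat.of k))]
    [IsProper (X ↘ Spec (CommRingCat.of k))] (L : X.Modules) (hL : PicF.IsInvertible L)
    (hpos : Pos (X ↘ Spec (CommRingCat.of k)) L) (heff : Eff L) : CohB1.IsAmple L := by
  rw [S11559.result k X L hL]
  intro Z hZ
  let Y := (Scheme.IdealSheafData.vanishingIdeal Z).subscheme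
  let i : Y ⟶ X := (Scheme.IdealSheafData.vanishingIdeal Z).subschemeι
  have hint : IsIntegral Y := by
    obtain ⟨y, hy⟩ : ∃ y : X, Z = ⟨closure {y}, isClosed_closure⟩ :=
      ⟨hZ.1.genericPoint, Closeds.ext (hZ.1.closure_genericPoint Z.isClosed).symm⟩
    subst hy
    exact isIntegral_ptIdeal y
  let _ : Y.Over (Spec (CommRingCat.of k)) := ⟨i ≫ (X ↘ Spec (CommRingCat.of k))⟩
  have hYp : IsProper (Y ↘ Spec (CommRingCat.of k)) :=
    inferInstanceAs (IsProper (i ≫ (X ↘ Spec (CommRingCat.of k))))
  obtain ⟨d, hd⟩ := EtpbcA.CdFinDim.exists_dim_le (Y ↘ Spec (CommRingCat.of k))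
  refine isAmple_int k (d + 1) Y (lt_of_le_of_lt hd ?_) _ (isInvertible_pullback i hL) (hpos.pullback i)
    (heff.pullback hL i)
  exact_mod_cast Nat.lt_succ_self d

end K432.SemiAmp
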