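import Groth.Agent.CycB.RelDim2
import Groth.Agent.Ega1.ReducedSub
import Mathlib.AlgebraicGeometry.Morphisms.Proper

/-!
# Lifting curves along surjective morphisms

* `isIntegral_of_point`, `support_of_point`: the reduced closed subscheme with generic point `y`.
* `exists_dim_closure`: the dimension of the closure of a point of a finite type scheme over a field.
* `exists_closedSub_lift`: an integral closed subscheme of dimension one of the target of a surjective morphism of
  proper schemes over a field is the image of an integral closed subscheme of dimension one of the source.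
-/

set_option autoImplicit false
universe u

open AlgebraicGeometry CategoryTheory TopologicalSpace

namespace K432.CurveLift

open Groth.Agent Groth.Agent.CycB

variable {X Y : Scheme.{u}}

/-- The quasi-coherent ideal of the closure of a point, with its reduced structure. -/
noncomputable abbrev ptIdeal (y : Y) : Y.IdealSheafData :=
  Scheme.IdealSheafData.vanishingIdeal ⟨closure ({y} : Set Y), isClosed_closure⟩

theorem support_ptIdeal (y : Y) : ((ptIdeal y).support : Set Y) = closure {y} := by
  rw [Scheme.IdealSheafData.coe_support_vanishingIdeal]
  rfl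

theorem range_ptIdeal (y : Y) : Set.range (ptIdeal y).subschemeι = closure {y} := by
  rw [Scheme.IdealSheafData.range_subschemeι, support_ptIdeal]

instance isIntegral_ptIdeal (y : Y) : IsIntegral (ptIdeal y).subscheme := by
  have hred : IsReduced (ptIdeal y).subscheme := Ega1.ReducedSub.isReduced_subscheme_vanishingIdeal _
  have hcl : Topology.IsClosedEmbedding (ptIdeal y).subschemeι := (ptIdeal y).subschemeι.isClosedEmbedding
  have hirr : IrreducibleSpace (ptIdeal y).subscheme := by
    have h1 : IsIrreducible (Set.range (ptIdeal y).subschemeι) := by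
      rw [range_ptIdeal]; exact isIrreducible_singleton.closure
    have := Subtype.irreducibleSpace h1
    exact hcl.isEmbedding.toHomeomorph.irreducibleSpace_iff.mpr this
  exact isIntegral_of_irreducibleSpace_of_isReduced _

/-- The generic point of an integral closed subscheme, in the ambient scheme. -/
noncomputable def gpt (C : Y.IdealSheafData) [IsIntegral C.subscheme] : Y :=
  C.subschemeι (genericPoint C.subscheme)

theorem closure_gpt (C : Y.IdealSheafData) [IsIntegral C.subscheme] :
    closure {gpt C} = (C.support : Set Y) := by
  have hcl : Topology.IsClosedEmbedding C.subschemeι := C.subschemeι.isClosedEmbedding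
  have h3 : closure {genericPoint C.subscheme} = Set.univ := genericPoint_closure _
  rw [← Scheme.IdealSheafData.range_subschemeι, ← Set.image_univ, ← h3, ← hcl.closure_image_eq, Set.image_singleton]
  rfl

theorem exists_dim_closure {k : Type u} [Field k] (p : X ⟶ Spec (CommRingCat.of k)) [LocallyOfFiniteType p] (x : X) :
    ∃ n : ℕ, RelDim.rtd p x = n ∧ topologicalKrullDim (closure {x} : Set X) = n :=
  RelDim.exists_dim_closure p (isAffineOpen_top _)
    ((Scheme.ΓSpecIso (CommRingCat.of k)).commRingCatIsoToRingEquiv.toMulEquiv.isField
      (Field.toIsField _)) x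

theorem dim_closure_iff {k : Type u} [Field k] (p : X ⟶ Spec (CommRingCat.of k)) [LocallyOfFiniteType p] (x : X)
    (n : ℕ) : topologicalKrullDim (closure {x} : Set X) = n ↔ RelDim.rtd p x = n := by
  obtain ⟨m, hm, hm'⟩ := exists_dim_closure p x
  rw [hm, hm']
  constructor
  · intro h
    have : m = n := by exact_mod_cast h
    rw [this]
  · intro h
    have : m = n := by exact_mod_cast h
    rw [this]

/-- A point of the fibre of a surjective finite type morphism which is algebraic over the base point. -/
theorem exists_rtd_eq_zero (f : Y ⟶ X) [LocallyOfFiniteType f] [QuasiCompact f] (x : X) (hx : ∃ y, f y = x) :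
    ∃ y : Y, f y = x ∧ RelDim.rtd f y = 0 := by
  have : CompactSpace (f.fiber x) := inferInstance
  have hne : Nonempty (f.fiber x) := by
    obtain ⟨y, hy⟩ := hx
    have : y ∈ Set.range (f.fiberι x) := by
      rw [Scheme.Hom.range_fiberι]
      exact hy
    obtain ⟨z, -⟩ := this
    exact ⟨z⟩
  obtain ⟨z, -, hz⟩ := (isClosed_univ (X := f.fiber x)).exists_closed_singleton Set.univ_nonempty
  obtain ⟨n, hn, hn'⟩ := RelDim.exists_dim_closure_fiber f x z
  refine ⟨f.fiberι x z, ?_, ?_⟩
  · have : f.fiberι x z ∈ Set.range (f.fiberι x) := ⟨z, rfl⟩
    rw [Scheme.Hom.range_fiberι] at this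
    exact this
  · rw [hz.closure_eq] at hn'
    have h0 : topologicalKrullDim ({z} : Set (f.fiber x)) ≤ 0 :=
      topologicalKrullDim_zero_of_discreteTopology _
    rw [hn'] at h0
    have : n = 0 := by
      have h1 : (n : ℕ∞) ≤ 0 := by exact_mod_cast h0
      exact_mod_cast nonpos_iff_eq_zero.mp h1
    rw [hn, this]
    rfl

/-- Lifting of a point along a surjective morphism of schemes of finite type over a field, with the same
transcendence degree. -/
theorem exists_point_lift {k : Type u} [Field k] (p : X ⟶ Spec (CommRingCat.of k)) (f : Y ⟶ X)
    [LocallyOfFiniteType p] [LocallyOfFiniteType f] [QuasiCompact f] (x : X) (hx : ∃ y, f y = x) :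
    ∃ y : Y, f y = x ∧ topologicalKrullDim (closure {y} : Set Y) = topologicalKrullDim (closure {x} : Set X) := by
  obtain ⟨y, hy, hy0⟩ := exists_rtd_eq_zero f x hx
  refine ⟨y, hy, ?_⟩
  obtain ⟨n, hn, hn'⟩ := exists_dim_closure p x
  rw [hn', dim_closure_iff (f ≫ p), RelDim.rtd_comp, hy, hn, hy0, add_zero]

/-- An integral closed subscheme of dimension one of the target of a surjective morphism of
proper schemes over a field is the image of an integral closed subscheme of dimension one of the source. -/
theorem exists_closedSub_lift {k : Type u} [Field k] (p : X ⟶ Spec (CommRingCat.of k)) (f : Y ⟶ X)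
    [LocallyOfFiniteType p] [IsProper f] [Surjective f] (C : X.IdealSheafData) [IsIntegral C.subscheme] (n : ℕ)
    (hC : topologicalKrullDim (C.support : Set X) = n) :
    ∃ y : Y, f y = gpt C ∧ topologicalKrullDim (closure {y} : Set Y) = n ∧
      f.base '' (closure {y} : Set Y) = (C.support : Set X) := by
  obtain ⟨y, hy, hy'⟩ := exists_point_lift p f (gpt C) (f.surjective _)
  refine ⟨y, hy, ?_, ?_⟩
  · rw [hy', closure_gpt, hC]
  · have hcl : IsClosedMap f := f.isClosedMap
    rw [← closure_gpt, ← hy, ← Set.image_singleton, hcl.closure_image_eq_of_continuous f.continuous]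

end K432.CurveLift
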