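import Groth.Agent.Variety.K432.CurveDeg
import Groth.Agent.VarietyB.DegComp
import Groth.Agent.S1641

/-!
# Nefness tested on curves

* `Nef p L`: `deg (L|_C) ≥ 0` for every integral closed subscheme `C` of dimension one.
* `nef_iff_hyp`: the form used in the milestones.
* `Nef.dg_nonneg`: a nef invertible module has nonnegative degree on every proper integral curve mapping to `X`.
* `CNef p E`: for every proper integral curve `f : C ⟶ X` every invertible quotient of `f^*E` has degree `≥ 0`;
  `cnef_of_regular`: it is enough to test regular curves.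
* `dg_nonneg_of_components`: degrees on proper schemes of dimension one.
-/

set_option autoImplicit false
universe u

open AlgebraicGeometry CategoryTheory TopologicalSpace Limits

namespace K432.NefBasic

open Groth.Agent Groth.Agent.CycB K432.CurveLift K432.CurveNorm K432.CurveDeg

variable {k : Type u} [Field k]

/-- Nefness tested on integral closed subschemes of dimension one. -/
def Nef {X : Scheme.{u}} (p : X ⟶ Spec (CommRingCat.of k)) (L : X.Modules) : Prop :=
  ∀ C : X.IdealSheafData, IsIntegral C.subscheme → topologicalKrullDim (C.support : Set X) = 1 →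
    0 ≤ dg (C.subschemeι ≫ p) ((Scheme.Modules.pullback C.subschemeι).obj L)

theorem nef_iff_hyp {X : Scheme.{u}} [X.Over (Spec (CommRingCat.of k))] (L : X.Modules) (hL : PicF.IsInvertible L) :
    (∀ C : X.IdealSheafData, IsIntegral C.subscheme →
      topologicalKrullDim (C.support : Set X) = 1 →
        0 ≤ Curv2.euler k X (CohB1.tensorMod (ClSub.quotMod C) L) - Curv2.euler k X (ClSub.quotMod C)) ↔
      Nef (X ↘ (Spec (CommRingCat.of k))) L := by
  refine forall_congr' fun C => forall_congr' fun _ => forall_congr' fun _ => ?_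
  rw [euler_quotMod_sub C L hL]

theorem topologicalKrullDim_subscheme {X : Scheme.{u}} (C : X.IdealSheafData) :
    topologicalKrullDim C.subscheme = topologicalKrullDim (C.support : Set X) := by
  rw [← VarietyB.DegComp.topologicalKrullDim_range_eq C.subschemeι, Scheme.IdealSheafData.range_subschemeι]

/-- The factorization of a morphism from an integral scheme through the closure of the image of the generic point. -/
theorem exists_factor {C X : Scheme.{u}} [IsIntegral C] (f : C ⟶ X) :
    ∃ g : C ⟶ (ptIdeal (f (genericPoint C))).subscheme, g ≫ (ptIdeal (f (genericPoint C))).subschemeι = f ∧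
      IsDominant g := by
  have hr : Set.range f ⊆ Set.range (ptIdeal (f (genericPoint C))).subschemeι := by
    rw [range_ptIdeal]
    rintro _ ⟨x, rfl⟩
    have h1 : genericPoint C ⤳ x := genericPoint_specializes x
    exact (h1.map f.continuous).mem_closure
  obtain ⟨g, hg⟩ := Ega1.ReducedSub.exists_factor_of_range_subset f (ptIdeal (f (genericPoint C))).subschemeι hr
  refine ⟨g, hg, ⟨?_⟩⟩
  have hcl : Topology.IsClosedEmbedding (ptIdeal (f (genericPoint C))).subschemeι :=
    (ptIdeal (f (genericPoint C))).subschemeι.isClosedEmbedding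
  have h2 : (ptIdeal (f (genericPoint C))).subschemeι (g (genericPoint C)) = f (genericPoint C) := by
    rw [← Scheme.Hom.comp_apply, hg]
  have h3 : closure {g (genericPoint C)} = Set.univ := by
    apply hcl.injective.image_injective
    rw [← hcl.closure_image_eq, Set.image_singleton, h2, Set.image_univ, range_ptIdeal]
  intro z
  have : z ∈ closure {g (genericPoint C)} := by rw [h3]; trivial
  exact closure_mono (Set.singleton_subset_iff.mpr (Set.mem_range_self (f := g) (genericPoint C))) this

theorem isProper_ptIdeal {X : Scheme.{u}} (p : X ⟶ Spec (CommRingCat.of k)) [IsProper p] (y : X) :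
    IsProper ((ptIdeal y).subschemeι ≫ p) := inferInstance

/-- A nef invertible module has nonnegative degree on every proper integral curve mapping to `X`. -/
theorem Nef.dg_nonneg {X : Scheme.{u}} {p : X ⟶ Spec (CommRingCat.of k)} [IsProper p] {L : X.Modules}
    (hL : PicF.IsInvertible L) (h : Nef p L) {C : Scheme.{u}} [IsIntegral C] (hC : topologicalKrullDim C = 1)
    (f : C ⟶ X) [IsProper (f ≫ p)] : 0 ≤ dg (f ≫ p) ((Scheme.Modules.pullback f).obj L) := by
  obtain ⟨g, hg, hdom⟩ := exists_factor f
  have hCr : RelDim.rtd (f ≫ p) (genericPoint C) = (1 : ℕ) := (dim_eq_iff (f ≫ p) 1).mp (by rw [hC]; rfl)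
  obtain ⟨n, hn, hn'⟩ := exists_dim_closure p (f (genericPoint C))
  have hn1 : n ≤ 1 := by
    rw [RelDim.rtd_comp, hn] at hCr
    have : (n : Cardinal.{u}) ≤ (1 : ℕ) := by rw [← hCr]; exact le_self_add
    exact_mod_cast this
  have hprop : IsProper g := by
    have : IsProper (g ≫ ((ptIdeal (f (genericPoint C))).subschemeι ≫ p)) := by
      rw [← Category.assoc, hg]; infer_instance
    exact IsProper.of_comp g ((ptIdeal (f (genericPoint C))).subschemeι ≫ p)
  rcases Nat.le_one_iff_eq_zero_or_eq_one.mp hn1 with h0 | h1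
  · -- the image is a point
    have hconst : ∀ x, f x = f (genericPoint C) := by
      intro x
      by_contra hne
      have h2 : f (genericPoint C) ⤳ f x := (genericPoint_specializes x).map f.continuous
      have h3 := RelDim.rtd_lt_of_specializes p h2 (Ne.symm hne) (Subsingleton.elim _ _)
      rw [hn, h0] at h3
      exact absurd h3 (by simp)
    rw [dg_pullback_const (f ≫ p) f _ hconst L hL]
  · -- the image is a curve
    have hdimI : topologicalKrullDim (ptIdeal (f (genericPoint C))).subscheme = 1 := by
      rw [topologicalKrullDim_subscheme, support_ptIdeal, hn', h1]; rfl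
    obtain ⟨m, hm, hmL⟩ := exists_dg_pullback_dominant ((ptIdeal (f (genericPoint C))).subschemeι ≫ p) g hC hdimI
    have h4 := hmL _ (Fdesc.LocGen.isInvertible_pullback (ptIdeal (f (genericPoint C))).subschemeι hL)
    have e1 : (Scheme.Modules.pullback g).obj
        ((Scheme.Modules.pullback (ptIdeal (f (genericPoint C))).subschemeι).obj L) ≅
        (Scheme.Modules.pullback f).obj L :=
      (Scheme.Modules.pullbackComp g _).app L ≪≫ (Scheme.Modules.pullbackCongr hg).app L
    have e2 : g ≫ (ptIdeal (f (genericPoint C))).subschemeι ≫ p = f ≫ p := by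
      rw [← Category.assoc, hg]
    rw [dg_congr _ e1, e2] at h4
    rw [h4]
    refine mul_nonneg hm.le (h _ (isIntegral_ptIdeal _) ?_)
    rw [← topologicalKrullDim_subscheme, hdimI]

/-- The form of nefness for all maps from proper integral curves. -/
theorem nef_iff {X : Scheme.{u}} {p : X ⟶ Spec (CommRingCat.of k)} [IsProper p] {L : X.Modules}
    (hL : PicF.IsInvertible L) :
    Nef p L ↔ ∀ (C : Scheme.{u}) [IsIntegral C] (f : C ⟶ X) [IsProper (f ≫ p)], topologicalKrullDim C = 1 →
      0 ≤ dg (f ≫ p) ((Scheme.Modules.pullback f).obj L) := by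
  constructor
  · intro h C _ f _ hC
    exact h.dg_nonneg hL hC f
  · intro h C hC hdim
    exact h C.subscheme C.subschemeι (by rw [topologicalKrullDim_subscheme, hdim])

theorem nef_congr {X : Scheme.{u}} {p : X ⟶ Spec (CommRingCat.of k)} {L M : X.Modules} (e : L ≅ M) :
    Nef p L ↔ Nef p M := by
  refine forall_congr' fun C => forall_congr' fun _ => forall_congr' fun _ => ?_
  rw [dg_congr _ ((Scheme.Modules.pullback C.subschemeι).mapIso e)]

theorem Nef.pullback {X Y : Scheme.{u}} {p : X ⟶ Spec (CommRingCat.of k)} [IsProper p] {L : X.Modules}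
    (hL : PicF.IsInvertible L) (h : Nef p L) (f : Y ⟶ X) [IsProper (f ≫ p)] :
    Nef (f ≫ p) ((Scheme.Modules.pullback f).obj L) := by
  rw [nef_iff (Fdesc.LocGen.isInvertible_pullback f hL)]
  intro C _ g _ hC
  have hg : IsProper ((g ≫ f) ≫ p) := by rw [Category.assoc]; infer_instance
  have h1 := h.dg_nonneg hL hC (g ≫ f)
  rw [dg_congr _ ((Scheme.Modules.pullbackComp g f).symm.app L)] at h1
  rw [Category.assoc] at h1
  exact h1

/-- Curve-test nefness of a module: on every proper integral curve `f : C ⟶ X`, every invertible quotient of `f^*E`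
has nonnegative degree. -/
def CNef {X : Scheme.{u}} (p : X ⟶ Spec (CommRingCat.of k)) (E : X.Modules) : Prop :=
  ∀ (C : Scheme.{u}) [IsIntegral C] (f : C ⟶ X) [IsProper (f ≫ p)], topologicalKrullDim C = 1 →
    ∀ (M : C.Modules), PicF.IsInvertible M → ∀ (q : (Scheme.Modules.pullback f).obj E ⟶ M), Epi q → 0 ≤ dg (f ≫ p) M

/-- Curve-test nefness tested on regular curves. -/
def CNefReg {X : Scheme.{u}} (p : X ⟶ Spec (CommRingCat.of k)) (E : X.Modules) : Prop :=
  ∀ (C : Scheme.{u}) [IsIntegral C] (f : C ⟶ X) [IsProper (f ≫ p)], topologicalKrullDim C = 1 →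
    (∀ x : C, IsRegularLocalRing (C.presheaf.stalk x)) →
    ∀ (M : C.Modules), PicF.IsInvertible M → ∀ (q : (Scheme.Modules.pullback f).obj E ⟶ M), Epi q → 0 ≤ dg (f ≫ p) M

/-- The milestone form of the curve test. -/
theorem cnefReg_iff_hyp {X : Scheme.{u}} [X.Over (Spec (CommRingCat.of k))] (E : X.Modules) :
    (∀ (C : Scheme.{u}) [C.Over (Spec (CommRingCat.of k))] [IsProper (C ↘ (Spec (CommRingCat.of k)))] [IsIntegral C],
      topologicalKrullDim C = 1 → (∀ x : C, IsRegularLocalRing (C.presheaf.stalk x)) →
      ∀ (f : C ⟶ X), f ≫ (X ↘ (Spec (CommRingCat.of k))) = C ↘ (Spec (CommRingCat.of k)) →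
      ∀ (M : C.Modules), PicF.IsInvertible M →
      ∀ (q : (Scheme.Modules.pullback f).obj E ⟶ M), Epi q → 0 ≤ Curv2.deg k C M 1) ↔
    CNefReg (X ↘ (Spec (CommRingCat.of k))) E := by
  constructor
  · intro h C _ f hf hC hreg M hM q hq
    let : C.Over (Spec (CommRingCat.of k)) := ⟨f ≫ (X ↘ (Spec (CommRingCat.of k)))⟩
    have : IsProper (C ↘ (Spec (CommRingCat.of k))) := hf
    exact h C hC hreg f rfl M hM q hq
  · intro h C _ hprop _ hC hreg f hf M hM q hq
    have : IsProper (f ≫ (X ↘ (Spec (CommRingCat.of k)))) := by rw [hf]; exact hprop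
    have h1 := h C f hC hreg M hM q hq
    rw [hf] at h1
    exact h1

instance epi_pullback_map {X Y : Scheme.{u}} (f : X ⟶ Y) {E F : Y.Modules} (q : E ⟶ F) [Epi q] :
    Epi ((Scheme.Modules.pullback f).map q) := by
  have : (Scheme.Modules.pullback f).IsLeftAdjoint := (Scheme.Modules.pullbackPushforwardAdjunction f).isLeftAdjoint
  infer_instance

/-- It is enough to test regular curves. -/
theorem cnef_iff_reg {X : Scheme.{u}} {p : X ⟶ Spec (CommRingCat.of k)} [IsSeparated p] {E : X.Modules} :
    CNef p E ↔ CNefReg p E := by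
  constructor
  · intro h C _ f _ hC _ M hM q hq
    exact h C f hC M hM q hq
  · intro h C _ f hprop hC M hM q hq
    obtain ⟨D, ν, hν, hs, hD, hdim, hreg, -⟩ := exists_regular_model (f ≫ p) hC
    have hdom : IsDominant ν := ⟨hs.surj.denseRange⟩
    obtain ⟨n, hn, hn'⟩ := exists_dg_pullback_dominant (f ≫ p) ν hdim hC
    have h1 := hn' M hM
    have hpr : IsProper ((ν ≫ f) ≫ p) := by rw [Category.assoc]; infer_instance
    have h2 := h D (ν ≫ f) hdim hreg ((Scheme.Modules.pullback ν).obj M)
      (Fdesc.LocGen.isInvertible_pullback ν hM)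
      ((Scheme.Modules.pullbackComp ν f).inv.app E ≫ (Scheme.Modules.pullback ν).map q) (by
        have : Epi ((Scheme.Modules.pullback ν).map q) := epi_pullback_map ν q
        exact epi_comp _ _)
    rw [Category.assoc, h1] at h2
    exact nonneg_of_mul_nonneg_right h2 hn

/-- A component of dimension one of a Noetherian scheme of dimension at most one is an integral curve. -/
theorem isIntegral_component {X : Scheme.{u}} [IsNoetherian X] (hdim : topologicalKrullDim X ≤ 1)
    (Z : Set X) (hZ : Z ∈ irreducibleComponents (X : Type u)) (h1 : topologicalKrullDim Z = 1) :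
    IsIntegral (X.irreducibleComponentIdeal Z hZ).radical.subscheme ∧
      topologicalKrullDim (X.irreducibleComponentIdeal Z hZ).radical.subscheme = 1 := by
  let y := hZ.1.genericPoint
  have hy : closure {y} = Z := hZ.1.closure_genericPoint (isClosed_of_mem_irreducibleComponents Z hZ)
  have hdimI : topologicalKrullDim (ptIdeal y).subscheme = 1 := by
    rw [topologicalKrullDim_subscheme, support_ptIdeal, hy, h1]
  obtain ⟨C, hC, hC1, ⟨e, he⟩⟩ := VarietyB.DegComp.exists_component_iso hdim (ptIdeal y).subschemeι
    (by rw [hdimI]; simp)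
  have hCZ : C = ⟨Z, hZ⟩ := by
    apply Subtype.ext
    rw [hC, range_ptIdeal, hy]
  subst hCZ
  have hne : Nonempty (X.irreducibleComponentIdeal Z hZ).radical.subscheme := ⟨e.hom (genericPoint _)⟩
  refine ⟨isIntegral_of_isOpenImmersion e.inv, ?_⟩
  rw [← hdimI]
  exact (IsHomeomorph.topologicalKrullDim_eq _ (Scheme.homeoOfIso e).isHomeomorph).symm

/-- On a proper scheme of dimension one, the degree is nonnegative as soon as it is on the integral curves in it. -/
theorem dg_nonneg_of_dim_one {X : Scheme.{u}} (p : X ⟶ Spec (CommRingCat.of k)) [IsProper p]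
    (hdim : topologicalKrullDim X ≤ 1) (L : X.Modules) (hL : PicF.IsInvertible L) (hnef : Nef p L) :
    0 ≤ dg p L := by
  let : X.Over (Spec (CommRingCat.of k)) := ⟨p⟩
  have : IsProper (X ↘ (Spec (CommRingCat.of k))) := ‹IsProper p›
  have hN : IsNoetherian X := by
    have : IsLocallyNoetherian X := LocallyOfFiniteType.isLocallyNoetherian p
    have : CompactSpace X := QuasiCompact.compactSpace_of_compactSpace p
    exact { }
  have h := S1641.result k X hdim 1 L (Ega2.QCohLocal.isFinLocFreeOfRank_one_iff.mpr hL)
  change Curv2.deg k X L 1 = _ at h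
  change 0 ≤ Curv2.deg k X L 1
  rw [h]
  refine finsum_nonneg fun Z => ?_
  split_ifs with hZ
  · obtain ⟨hint, hd⟩ := isIntegral_component hdim Z.1 Z.2 hZ
    refine mul_nonneg (Int.natCast_nonneg _) ?_
    exact hnef.dg_nonneg hL hd (X.irreducibleComponentIdeal Z.1 Z.2).radical.subschemeι
  · exact le_rfl

end K432.NefBasic
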