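import Groth.Agent.Variety.K432.NefBasic
import Groth.Agent.CurvesB.VABaseChange
import Groth.Agent.S4642
import Groth.Agent.S0404
import Groth.Agent.PerfB.SemiNoeth
import Groth.Agent.PerfB.StructFlat
import Groth.Agent.Ega3B.FlatTensInv
import Groth.Agent.Models2.FlatIso
import Groth.Agent.VarietyA.CurveFin

/-!
# Degrees and nefness under extension of the base field and in flat families

* `dg_bc`: the degree is invariant under extension of the base field.
* `dg_restrict`: degrees over a subfield of finite index.
* `nef_of_bc`: an invertible module which is nef after extension of the base field is nef.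
* `dg_fiber_eq`: the degree is constant in the fibres of a proper flat family.
* `dim_fiber_le`: the fibres of a flat family over an irreducible base have dimension at most the dimension of
  the generic fibre.
-/

set_option autoImplicit false
universe u

open AlgebraicGeometry CategoryTheory TopologicalSpace Limits

namespace K432.NefBC

open Groth.Agent Groth.Agent.CycB K432.CurveLift K432.CurveNorm K432.CurveDeg K432.NefBasic

section BC

variable {k K : Type u} [Field k] [Field K] (φ : k →+* K)

/-- The degree is invariant under extension of the base field. -/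
theorem dg_bc {X X' : Scheme.{u}} {s : X ⟶ Spec (CommRingCat.of k)} [IsProper s]
    {s' : X' ⟶ Spec (CommRingCat.of K)} {g : X' ⟶ X}
    (h : IsPullback g s' s (Spec.map (CommRingCat.ofHom φ))) (L : X.Modules) (hL : PicF.IsInvertible L) :
    dg s' ((Scheme.Modules.pullback g).obj L) = dg s L := by
  let _ : Algebra k K := φ.toAlgebra
  let _ : X.Over (Spec (CommRingCat.of k)) := ⟨s⟩
  let _ : X'.Over (Spec (CommRingCat.of K)) := ⟨s'⟩
  have : IsProper (X ↘ Spec (CommRingCat.of k)) := ‹IsProper s›
  exact CurvesB.VABaseChange.deg_eq (k := k) (K := K) (p := g) h L (Ega2.QCohLocal.isQCoh_of_isInvertible hL) 1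

theorem topologicalKrullDim_bc {X X' : Scheme.{u}} {s : X ⟶ Spec (CommRingCat.of k)} [LocallyOfFiniteType s]
    {s' : X' ⟶ Spec (CommRingCat.of K)} {g : X' ⟶ X}
    (h : IsPullback g s' s (Spec.map (CommRingCat.ofHom φ))) : topologicalKrullDim X' = topologicalKrullDim X := by
  let _ : Algebra k K := φ.toAlgebra
  rw [← S4642.result (K := K) s]
  exact IsHomeomorph.topologicalKrullDim_eq _ (Scheme.homeoOfIso (h.isoPullback)).isHomeomorph

/-- An invertible module which is nef after extension of the base field is nef. -/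
theorem nef_of_bc {X X' : Scheme.{u}} {s : X ⟶ Spec (CommRingCat.of k)} [IsProper s]
    {s' : X' ⟶ Spec (CommRingCat.of K)} {g : X' ⟶ X}
    (h : IsPullback g s' s (Spec.map (CommRingCat.ofHom φ))) (L : X.Modules) (hL : PicF.IsInvertible L)
    (hnef : Nef s' ((Scheme.Modules.pullback g).obj L)) : Nef s L := by
  intro C _ hdim
  have hs' : IsProper s' := MorphismProperty.of_isPullback h ‹_›
  have h1 : IsPullback (pullback.fst C.subschemeι g) (pullback.snd C.subschemeι g ≫ s') (C.subschemeι ≫ s)
      (Spec.map (CommRingCat.ofHom φ)) :=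
    (IsPullback.of_hasPullback C.subschemeι g).paste_vert h
  have hcl : IsClosedImmersion (pullback.snd C.subschemeι g) := inferInstance
  have hd : topologicalKrullDim ↥(pullback C.subschemeι g) ≤ 1 := by
    rw [topologicalKrullDim_bc φ h1, topologicalKrullDim_subscheme, hdim]
  have hL' := Fdesc.LocGen.isInvertible_pullback g hL
  have h2 := dg_nonneg_of_dim_one (pullback.snd C.subschemeι g ≫ s') hd
    ((Scheme.Modules.pullback (pullback.snd C.subschemeι g)).obj ((Scheme.Modules.pullback g).obj L))
    (Fdesc.LocGen.isInvertible_pullback _ hL') (hnef.pullback hL' _)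
  rw [← dg_bc φ h1 ((Scheme.Modules.pullback C.subschemeι).obj L) (Fdesc.LocGen.isInvertible_pullback _ hL)]
  refine h2.trans_eq (dg_congr _ ?_)
  exact (Scheme.Modules.pullbackComp _ _).app L ≪≫
    (Scheme.Modules.pullbackCongr (pullback.condition (f := C.subschemeι) (g := g)).symm).app L ≪≫
    (Scheme.Modules.pullbackComp _ _).symm.app L

end BC

section Restrict

variable (k k₁ : Type u) [Field k] [Field k₁] [Algebra k k₁] {X : Scheme.{u}}

theorem toGlobal_comp (q : X ⟶ Spec (CommRingCat.of k₁)) (c : k) :
    Coh.toGlobal (q ≫ Spec.map (CommRingCat.ofHom (algebraMap k k₁))) c =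
      Coh.toGlobal q (algebraMap k k₁ c) := by
  have h := congr($((Scheme.ΓSpecIso_inv_naturality (CommRingCat.ofHom (algebraMap k k₁)))) c)
  change (q ≫ Spec.map (CommRingCat.ofHom (algebraMap k k₁))).appTop
    ((Scheme.ΓSpecIso (CommRingCat.of k)).inv c) = q.appTop _
  rw [Scheme.Hom.comp_appTop]
  exact congrArg q.appTop h.symm

/-- Euler characteristics over a subfield of finite index. -/
theorem euler_restrict (q : X ⟶ Spec (CommRingCat.of k₁)) (M : X.Modules) :
    @Curv2.euler k _ X ⟨q ≫ Spec.map (CommRingCat.ofHom (algebraMap k k₁))⟩ M =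
      Module.finrank k k₁ * @Curv2.euler k₁ _ X ⟨q⟩ M := by
  have h : ∀ i : ℕ, (@Module.finrank k (Coh.HH X M i) _ _
      (@Coh.moduleOver k _ X ⟨q ≫ Spec.map (CommRingCat.ofHom (algebraMap k k₁))⟩ M i)) =
      Module.finrank k k₁ * (@Module.finrank k₁ (Coh.HH X M i) _ _
      (@Coh.moduleOver k₁ _ X ⟨q⟩ M i)) := by
    intro i
    let _ : Module k (Coh.HH X M i) :=
      @Coh.moduleOver k _ X ⟨q ≫ Spec.map (CommRingCat.ofHom (algebraMap k k₁))⟩ M i
    let _ : Module k₁ (Coh.HH X M i) := @Coh.moduleOver k₁ _ X ⟨q⟩ M i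
    have : IsScalarTower k k₁ (Coh.HH X M i) := by
      refine IsScalarTower.of_algebraMap_smul fun c x => ?_
      change Coh.toGlobal q (algebraMap k k₁ c) • x =
        Coh.toGlobal (q ≫ Spec.map (CommRingCat.ofHom (algebraMap k k₁))) c • x
      rw [toGlobal_comp]
    exact (Module.finrank_mul_finrank k k₁ (Coh.HH X M i)).symm
  unfold Curv2.euler
  rw [← smul_eq_mul, smul_finsum]
  refine finsum_congr fun i => ?_
  rw [h i, smul_eq_mul]
  push_cast
  ring

/-- Degrees over a subfield of finite index. -/
theorem dg_restrict (q : X ⟶ Spec (CommRingCat.of k₁)) (M : X.Modules) :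
    dg (q ≫ Spec.map (CommRingCat.ofHom (algebraMap k k₁))) M = Module.finrank k k₁ * dg q M := by
  unfold dg Curv2.deg
  rw [euler_restrict k k₁ q M, euler_restrict k k₁ q (Coh.structureModule X)]
  ring

end Restrict

section Family

theorem isFlatOver_of_isInvertible {X S : Scheme.{u}} (f : X ⟶ S) [Flat f] {L : X.Modules}
    (hL : PicF.IsInvertible L) : FlatMod.IsFlatOver f L := by
  have h := Ega3B.FlatTensInv.isFlatOver_tensor f hL (PerfB.StructFlat.isFlatOver_structure f)
  intro x
  exact Models2.FlatIso.isFlatOverAt_of_iso f (Ega2.Tens.lunit L) x (h x)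

/-- The degree on the fibre. -/
noncomputable abbrev dgFib {N S : Scheme.{u}} (f : N ⟶ S) (L : N.Modules) (s : S) : ℤ :=
  @Curv2.deg (S.residueField s) _ (f.fiber s) ⟨f.fiberToSpecResidueField s⟩
    ((Scheme.Modules.pullback (f.fiberι s)).obj L) 1

theorem dgFib_eq {N S : Scheme.{u}} (f : N ⟶ S) (L : N.Modules) (s : S) :
    dgFib f L s = PerfAux.eulerChar f L s - PerfAux.eulerChar f (Coh.structureModule N) s := by
  have h1 : PerfAux.eulerChar f L s = @Curv2.euler (S.residueField s) _ (f.fiber s)
    ⟨f.fiberToSpecResidueField s⟩ ((Scheme.Modules.pullback (f.fiberι s)).obj L) := rfl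
  have h2 : PerfAux.eulerChar f (Coh.structureModule N) s = @Curv2.euler (S.residueField s) _ (f.fiber s)
    ⟨f.fiberToSpecResidueField s⟩ ((Scheme.Modules.pullback (f.fiberι s)).obj (Coh.structureModule N)) := rfl
  let _ : (f.fiber s).Over (Spec (CommRingCat.of (S.residueField s))) := ⟨f.fiberToSpecResidueField s⟩
  have e : (Scheme.Modules.pullback (f.fiberι s)).obj (Coh.structureModule N) ≅ Coh.structureModule (f.fiber s) :=
    CurvesA.HHMap.pullbackUnit (f.fiberι s)
  rw [h1, h2]
  unfold dgFib Curv2.deg
  have h3 := VarietyB.DegPhi.euler_congr (S.residueField s) e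
  change _ - (1 : ℕ) * Curv2.euler (S.residueField s) (f.fiber s) (Coh.structureModule (f.fiber s)) = _
  rw [← h3, Nat.cast_one, one_mul]

/-- The degree is constant in the fibres of a proper flat family. -/
theorem dg_fiber_eq {N S : Scheme.{u}} (f : N ⟶ S) [IsProper f] [Flat f] [IsLocallyNoetherian S]
    [PreconnectedSpace S] (L : N.Modules) (hL : PicF.IsInvertible L) (s t : S) :
    dgFib f L s = dgFib f L t := by
  have hN : IsLocallyNoetherian N := LocallyOfFiniteType.isLocallyNoetherian f
  have h1 := (PerfB.SemiNoeth.isLocallyConstant_eulerChar f L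
    (VarietyA.CurveFin.isCoh_of_isInvertible hL) (isFlatOver_of_isInvertible f hL)).apply_eq_of_preconnectedSpace s t
  have h2 := (PerfB.SemiNoeth.isLocallyConstant_eulerChar f (Coh.structureModule N)
    (CurvesB.UnitCoh.isCoh_structureModule N)
    (PerfB.StructFlat.isFlatOver_structure f)).apply_eq_of_preconnectedSpace s t
  rw [dgFib_eq, dgFib_eq, h1, h2]

/-- The fibres of a flat family over an irreducible base have dimension at most the dimension of the generic
fibre. -/
theorem dim_fiber_le {N S : Scheme.{u}} (f : N ⟶ S) [Flat f] [LocallyOfFinitePresentation f] [QuasiCompact f]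
    [QuasiSeparated f] (η : S) (hη : ∀ s, η ⤳ s) (c : WithBot ℕ∞) (h : topologicalKrullDim (f.fiber η) ≤ c)
    (s : S) : topologicalKrullDim (f.fiber s) ≤ c := by
  by_contra hs
  rw [not_le] at hs
  have h1 : η ∈ {s : S | c < topologicalKrullDim (f.fiber s)} := (hη s).mem_open (S0404.result f c) hs
  exact absurd h (not_le.mpr h1)

end Family

end K432.NefBC
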