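import Groth.Agent.VarietyB.DegPhi
import Groth.Agent.Ega2.QCohLocal
import Groth.Agent.Fdesc.LocGenPullback
import Groth.Agent.Fdesc.FinStalk
import Groth.Agent.Ega3B.PullTensor
import Groth.Agent.S1557
import Groth.Agent.S0019
import Groth.Agent.Variety.K432.CurveNorm

/-!
# Degrees of invertible modules on curves: closed subschemes, finite and constant morphisms

`dg s L` is the degree `χ(L) - χ(O)` of `L` on the `k`-scheme with structure morphism `s`.

* `euler_quotMod_sub`: `χ(O_C ⊗ L) - χ(O_C) = dg (L|_C)` for a closed subscheme `C`.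
* `dg_pullback_finite`, `exists_dg_pullback_dominant`: the degree of `f^*L` for `f` dominant.
* `dg_pullback_const`: the degree of `f^*L` is zero for `f` constant.
-/

set_option autoImplicit false
universe u

open AlgebraicGeometry CategoryTheory TopologicalSpace Limits

namespace K432.CurveDeg

open Groth.Agent Groth.Agent.CycB K432.CurveLift K432.CurveNorm

/-- The degree `χ(L) - χ(O_D)` of `L` on the `k`-scheme `D` with structure morphism `s`. -/
noncomputable abbrev dg {k : Type u} [Field k] {D : Scheme.{u}} (s : D ⟶ Spec (CommRingCat.of k))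
    (L : D.Modules) : ℤ :=
  @Curv2.deg k _ D ⟨s⟩ L 1

section

variable {k : Type u} [Field k]

theorem hasBases_of_isInvertible {X : Scheme.{u}} {L : X.Modules} (hL : PicF.IsInvertible L) :
    VarietyB.TensCoh.HasBases L :=
  VarietyB.TensCoh.HasBases.of_isFinLocFreeOfRank (Ega2.QCohLocal.isFinLocFreeOfRank_one_iff.mpr hL)

theorem dg_congr {D : Scheme.{u}} (s : D ⟶ Spec (CommRingCat.of k)) {L M : D.Modules} (e : L ≅ M) :
    dg s L = dg s M := by
  let : D.Over (Spec (CommRingCat.of k)) := ⟨s⟩
  change Curv2.deg k D L 1 = Curv2.deg k D M 1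
  unfold Curv2.deg
  rw [VarietyB.DegPhi.euler_congr k e]

theorem dg_unit {D : Scheme.{u}} (s : D ⟶ Spec (CommRingCat.of k)) : dg s (Coh.structureModule D) = 0 := by
  unfold dg Curv2.deg
  simp

/-- `χ(O_C ⊗ L) - χ(O_C)` is the degree of `L|_C`, for an affine morphism `f : C ⟶ X`. -/
theorem euler_push_sub {X C : Scheme.{u}} [X.Over (Spec (CommRingCat.of k))] (f : C ⟶ X) [IsAffineHom f]
    (L : X.Modules) (hL : PicF.IsInvertible L) :
    Curv2.euler k X (CohB1.tensorMod ((Scheme.Modules.pushforward f).obj (Coh.structureModule C)) L) -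
        Curv2.euler k X ((Scheme.Modules.pushforward f).obj (Coh.structureModule C)) =
      dg (f ≫ (X ↘ (Spec (CommRingCat.of k)))) ((Scheme.Modules.pullback f).obj L) := by
  let : C.Over (Spec (CommRingCat.of k)) := ⟨f ≫ (X ↘ (Spec (CommRingCat.of k)))⟩
  have h := VarietyB.DegPhi.phi_push k f rfl (n := 1) (hasBases_of_isInvertible hL)
  rw [VarietyB.DegPhi.phi, VarietyB.DegPhi.euler_congr k (Ega2.Tens.swap _ _), Nat.cast_one, one_mul] at h
  exact h

/-- `χ(O_C ⊗ L) - χ(O_C)` is the degree of `L|_C`. -/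
theorem euler_quotMod_sub {X : Scheme.{u}} [X.Over (Spec (CommRingCat.of k))] (C : X.IdealSheafData)
    (L : X.Modules) (hL : PicF.IsInvertible L) :
    Curv2.euler k X (CohB1.tensorMod (ClSub.quotMod C) L) - Curv2.euler k X (ClSub.quotMod C) =
      dg (C.subschemeι ≫ (X ↘ (Spec (CommRingCat.of k)))) ((Scheme.Modules.pullback C.subschemeι).obj L) :=
  euler_push_sub C.subschemeι L hL

/-- The degree of the inverse image under a finite morphism to an integral curve. -/
theorem dg_pullback_finite {X Y : Scheme.{u}} [IsIntegral Y] (p : Y ⟶ Spec (CommRingCat.of k)) [IsProper p]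
    (hdim : topologicalKrullDim Y = 1) (f : X ⟶ Y) [IsFinite f] (L : Y.Modules) (hL : PicF.IsInvertible L) :
    dg (f ≫ p) ((Scheme.Modules.pullback f).obj L) =
      (Module.finrank (Y.presheaf.stalk (genericPoint Y))
        (((Scheme.Modules.pushforward f).obj (Coh.structureModule X)).presheaf.stalk (genericPoint Y)) : ℤ) *
        dg p L := by
  let : Y.Over (Spec (CommRingCat.of k)) := ⟨p⟩
  have : IsProper (Y ↘ (Spec (CommRingCat.of k))) := ‹IsProper p›
  have hN : IsLocallyNoetherian Y := LocallyOfFiniteType.isLocallyNoetherian p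
  have hNX : IsLocallyNoetherian X := LocallyOfFiniteType.isLocallyNoetherian f
  have hcoh : Coh.IsCoh ((Scheme.Modules.pushforward f).obj (Coh.structureModule X)) :=
    Groth.Agent.S0019.result f _ (CurvesB.UnitCoh.isCoh_structureModule X)
  have h1 := Groth.Agent.S1557.result k Y hdim 1 L
    (Ega2.QCohLocal.isFinLocFreeOfRank_one_iff.2 hL) _ hcoh
  let : X.Over (Spec (CommRingCat.of k)) := ⟨f ≫ p⟩
  have h := VarietyB.DegPhi.phi_push k f rfl (n := 1) (hasBases_of_isInvertible hL)
  rw [VarietyB.DegPhi.phi] at h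
  change _ = dg (f ≫ p) ((Scheme.Modules.pullback f).obj L) at h
  rw [← h]
  change Curv2.euler k Y (CohB1.tensorMod L ((Scheme.Modules.pushforward f).obj (Coh.structureModule X))) -
    (1 : ℕ) * Curv2.euler k Y ((Scheme.Modules.pushforward f).obj (Coh.structureModule X)) = _
  rw [h1]
  ring

theorem nontrivial_stalk_push {X Y : Scheme.{u}} (f : X ⟶ Y) (y : Y)
    (hy : ∀ V : Y.Opens, y ∈ V → Nonempty ((f ⁻¹ᵁ V : X.Opens) : Set X)) :
    Nontrivial (((Scheme.Modules.pushforward f).obj (Coh.structureModule X)).presheaf.stalk y) := by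
  by_contra hcon
  rw [not_nontrivial_iff_subsingleton] at hcon
  let F := ((Scheme.Modules.pushforward f).obj (Coh.structureModule X)).presheaf
  let one : F.obj (Opposite.op ⊤) := show Γ(X, f ⁻¹ᵁ ⊤) from 1
  let zero : F.obj (Opposite.op ⊤) := show Γ(X, f ⁻¹ᵁ ⊤) from 0
  have h : F.germ ⊤ y trivial one = F.germ ⊤ y trivial zero := Subsingleton.elim _ _
  obtain ⟨W, hyW, i, j, hW⟩ := TopCat.Presheaf.germ_eq F (U := ⊤) (V := ⊤) y trivial trivial one zero h
  have h1 : (1 : Γ(X, f ⁻¹ᵁ W)) = 0 := by
    have e1 : F.map i.op one = (show Γ(X, f ⁻¹ᵁ W) from 1) :=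
      map_one (X.presheaf.map (homOfLE (f.preimage_mono i.le)).op).hom
    have e2 : F.map j.op zero = (show Γ(X, f ⁻¹ᵁ W) from 0) :=
      map_zero (X.presheaf.map (homOfLE (f.preimage_mono j.le)).op).hom
    rw [e1, e2] at hW
    exact hW
  have := hy W hyW
  have hne : Nonempty (f ⁻¹ᵁ W : X.Opens) := this
  exact one_ne_zero h1

/-- The degree of the inverse image under a dominant morphism of integral curves. -/
theorem exists_dg_pullback_dominant {X Y : Scheme.{u}} [IsIntegral X] [IsIntegral Y]
    (p : Y ⟶ Spec (CommRingCat.of k)) [IsProper p]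
    (f : X ⟶ Y) [IsProper f] [IsDominant f] (hX : topologicalKrullDim X = 1) (hY : topologicalKrullDim Y = 1) :
    ∃ n : ℤ, 0 < n ∧ ∀ (L : Y.Modules), PicF.IsInvertible L →
      dg (f ≫ p) ((Scheme.Modules.pullback f).obj L) = n * dg p L := by
  have hfin : IsFinite f := isFinite_of_dominant p f hX hY
  refine ⟨_, ?_, fun L hL => dg_pullback_finite p hY f L hL⟩
  have hN : IsLocallyNoetherian Y := LocallyOfFiniteType.isLocallyNoetherian p
  have hNX : IsLocallyNoetherian X := LocallyOfFiniteType.isLocallyNoetherian f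
  have hcoh : Coh.IsCoh ((Scheme.Modules.pushforward f).obj (Coh.structureModule X)) :=
    Groth.Agent.S0019.result f _ (CurvesB.UnitCoh.isCoh_structureModule X)
  have hfs : Module.Finite (Y.presheaf.stalk (genericPoint Y))
      (((Scheme.Modules.pushforward f).obj (Coh.structureModule X)).presheaf.stalk (genericPoint Y)) :=
    Fdesc.FinStalk.finite_stalk_of_isCoh _ hcoh _
  have hnt : Nontrivial
      (((Scheme.Modules.pushforward f).obj (Coh.structureModule X)).presheaf.stalk (genericPoint Y)) := by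
    refine nontrivial_stalk_push f _ fun V hV => ?_
    refine ⟨⟨genericPoint X, ?_⟩⟩
    change f (genericPoint X) ∈ V
    rw [map_genericPoint]
    exact hV
  have hfield : IsField (Y.presheaf.stalk (genericPoint Y)) := Field.toIsField (Y.functionField)
  let := hfield.toField
  exact_mod_cast Module.finrank_pos

/-- The inverse image of an invertible module under a constant morphism is trivial. -/
theorem nonempty_pullback_iso_of_const {X Y : Scheme.{u}} (f : X ⟶ Y) (y : Y) (hf : ∀ x, f x = y) (L : Y.Modules)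
    (hL : PicF.IsInvertible L) : Nonempty ((Scheme.Modules.pullback f).obj L ≅ Coh.structureModule X) := by
  obtain ⟨U, hyU, ⟨e⟩⟩ := hL y
  have hrange : Set.range f ⊆ Set.range U.ι := by
    rintro _ ⟨x, rfl⟩
    rw [hf, Scheme.Opens.range_ι]
    exact hyU
  let g : X ⟶ U := IsOpenImmersion.lift U.ι f hrange
  have hg : g ≫ U.ι = f := IsOpenImmersion.lift_fac U.ι f hrange
  have e1 : (Scheme.Modules.pullback f).obj L ≅ (Scheme.Modules.pullback g).obj ((Scheme.Modules.pullback U.ι).obj L) :=
    (Scheme.Modules.pullbackCongr hg).symm.app L ≪≫ ((Scheme.Modules.pullbackComp g U.ι).app L).symm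
  have e2 : (Scheme.Modules.pullback U.ι).obj L ≅ L.restrict U.ι :=
    (Scheme.Modules.restrictFunctorIsoPullback U.ι).symm.app L
  obtain ⟨e3⟩ := Ega3B.PullTensor.nonempty_pullUnitIso g
  exact ⟨e1 ≪≫ (Scheme.Modules.pullback g).mapIso (e2 ≪≫ e) ≪≫ e3⟩

/-- The degree of the inverse image of an invertible module under a constant morphism is zero. -/
theorem dg_pullback_const {X Y : Scheme.{u}} (s : X ⟶ Spec (CommRingCat.of k)) (f : X ⟶ Y) (y : Y)
    (hf : ∀ x, f x = y) (L : Y.Modules) (hL : PicF.IsInvertible L) :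
    dg s ((Scheme.Modules.pullback f).obj L) = 0 := by
  obtain ⟨e⟩ := nonempty_pullback_iso_of_const f y hf L hL
  rw [dg_congr s e, dg_unit]

end

end K432.CurveDeg
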