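import Groth.Agent.Variety.K432.Contract
import Groth.Agent.PosLin.K931.Descend
import Groth.Agent.VarietyA.AmpleField
import Groth.Agent.CohqB.AmpGeneric
import Groth.Agent.Dix.InterNum
import Groth.Agent.S1530
import Groth.Agent.S2327

/-!
# Globally generated invertible modules which are nontrivial on curves are ample

* `dg_tensor`, `dg_pow`: degrees of tensor products and powers on an integral curve.
* `isAmple_of_gg`: an invertible module generated by its sections on a proper scheme over a field, trivial on no
  integral closed curve, is ample.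
* `isAmple_of_semiample`: the same for an invertible module with a globally generated power.
-/

set_option autoImplicit false
universe u

open AlgebraicGeometry CategoryTheory TopologicalSpace Limits

namespace K432.AmpCurve

open Groth.Agent Groth.Agent.CycB K432.CurveLift K432.CurveNorm K432.CurveDeg K432.NefBasic K432.Contract
open Groth.Agent.Fdesc.LocGen Groth.Agent.Grpsch.PicGrp

variable {k : Type u} [Field k]

theorem dg_tensor {C : Scheme.{u}} [IsIntegral C] (p : C ⟶ Spec (CommRingCat.of k)) [IsProper p]
    (hdim : topologicalKrullDim C = 1) {M N : C.Modules} (hM : PicF.IsInvertible M) (hN : PicF.IsInvertible N) :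
    dg p (CohB1.tensorMod M N) = dg p M + dg p N := by
  let : C.Over (Spec (CommRingCat.of k)) := ⟨p⟩
  have : IsProper (C ↘ (Spec (CommRingCat.of k))) := ‹IsProper p›
  exact Dix.InterNum.deg_tensor k C hdim hM hN

theorem dg_pow {C : Scheme.{u}} [IsIntegral C] (p : C ⟶ Spec (CommRingCat.of k)) [IsProper p]
    (hdim : topologicalKrullDim C = 1) {M : C.Modules} (hM : PicF.IsInvertible M) (n : ℕ) :
    dg p (CohB1.tensorPow M n) = n * dg p M := by
  induction n with
  | zero =>
    rw [Nat.cast_zero, zero_mul]
    exact dg_unit p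
  | succ n ih =>
    change dg p (CohB1.tensorMod (CohB1.tensorPow M n) M) = _
    rw [dg_tensor p hdim (isInvertible_tensorPow hM n) hM, ih]
    push_cast
    ring

/-- The degree of the pullback of a tensor power. -/
theorem dg_pullback_pow {C X : Scheme.{u}} [IsIntegral C] (p : C ⟶ Spec (CommRingCat.of k)) [IsProper p]
    (hdim : topologicalKrullDim C = 1) (f : C ⟶ X) {M : X.Modules} (hM : PicF.IsInvertible M) (n : ℕ) :
    dg p ((Scheme.Modules.pullback f).obj (CohB1.tensorPow M n)) = n * dg p ((Scheme.Modules.pullback f).obj M) := by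
  rw [← dg_pow p hdim (isInvertible_pullback f hM) n]
  obtain ⟨e⟩ : Nonempty ((Scheme.Modules.pullback f).obj (CohB1.tensorPow M n) ≅
      CohB1.tensorPow ((Scheme.Modules.pullback f).obj M) n) := by
    rw [← mk_eq_iff (isInvertible_pullback f (isInvertible_tensorPow hM n))
      (isInvertible_tensorPow (isInvertible_pullback f hM) n), ← pull_mk (hL := isInvertible_tensorPow hM n),
      mk_tensorPow hM, mk_tensorPow, map_pow, pull_mk]
  exact dg_congr p e

theorem isAmple_of_gg {X : Scheme.{u}} (p : X ⟶ Spec (CommRingCat.of k)) [IsProper p] {M : X.Modules}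
    (hM : PicF.IsInvertible M) (hg : Curv2.IsGloballyGenerated M)
    (h : ∀ C : X.IdealSheafData, IsIntegral C.subscheme → topologicalKrullDim (C.support : Set X) = 1 →
      ¬ Nonempty ((Scheme.Modules.pullback C.subschemeι).obj M ≅ Coh.structureModule C.subscheme)) :
    CohB1.IsAmple M := by
  have hcX : CompactSpace X := QuasiCompact.compactSpace_of_compactSpace p
  obtain ⟨n, r, hr, ⟨τ⟩⟩ := K931.Descend.exists_map p hM hg
  have : IsProper (r ≫ CohB1.ProjSpace.toSpec n k) := by rw [hr]; infer_instance
  have : IsProper (CohB1.ProjSpace.toSpec n k) := inferInstance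
  have : IsProper r := .of_comp r (CohB1.ProjSpace.toSpec n k)
  have hfin : IsFinite r := by
    refine isFinite_of_no_contracted_curve (CohB1.ProjSpace.toSpec n k) r fun c hc => ?_
    by_contra hcon
    push Not at hcon
    refine h (ptIdeal c) inferInstance (by rw [support_ptIdeal, hc]) ?_
    have h1 : ∀ x, ((ptIdeal c).subschemeι ≫ r) x = r c := by
      intro x
      rw [Scheme.Hom.comp_apply]
      refine hcon _ ?_
      rw [← range_ptIdeal]
      exact ⟨x, rfl⟩
    obtain ⟨e⟩ := nonempty_pullback_iso_of_const _ _ h1 (Twist.twistProjSpace n k 1)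
      (VarietyA.AmpleField.isAmple_twistProjSpace n k).1
    exact ⟨((Scheme.Modules.pullback (ptIdeal c).subschemeι).mapIso τ).symm ≪≫
      (Scheme.Modules.pullbackComp _ _).app _ ≪≫ e⟩
  have h2 := CohqB.AmpCocycle.isAmple_pullback r (VarietyA.AmpleField.isAmple_twistProjSpace n k)
  exact Groth.Agent.S2329.isAmple_of_iso τ h2

/-- An invertible module with a globally generated power and positive degree on curves is ample. -/
theorem isAmple_of_semiample {X : Scheme.{u}} (p : X ⟶ Spec (CommRingCat.of k)) [IsProper p] {L : X.Modules}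
    (hL : PicF.IsInvertible L) {m : ℕ} (hm : 0 < m) (hg : Curv2.IsGloballyGenerated (CohB1.tensorPow L m))
    (h : ∀ C : X.IdealSheafData, IsIntegral C.subscheme → topologicalKrullDim (C.support : Set X) = 1 →
      0 < dg (C.subschemeι ≫ p) ((Scheme.Modules.pullback C.subschemeι).obj L)) : CohB1.IsAmple L := by
  have hcX : CompactSpace X := QuasiCompact.compactSpace_of_compactSpace p
  have hsX : X.IsSeparated := by
    rw [Scheme.isSeparated_iff, ← terminal.comp_from p, IsSeparated.comp_iff]
    infer_instance
  rw [Groth.Agent.S2327.result X L hL m hm]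
  refine isAmple_of_gg p (isInvertible_tensorPow hL m) hg fun C hC hdim hne => ?_
  obtain ⟨e⟩ := hne
  have hdim' : topologicalKrullDim C.subscheme = 1 := by rw [topologicalKrullDim_subscheme, hdim]
  have h1 := dg_pullback_pow (C.subschemeι ≫ p) hdim' C.subschemeι hL m
  rw [dg_congr _ e, dg_unit] at h1
  have h2 := h C hC hdim
  have h3 : 0 < (m : ℤ) * dg (C.subschemeι ≫ p) ((Scheme.Modules.pullback C.subschemeι).obj L) :=
    mul_pos (by exact_mod_cast hm) h2
  rw [← h1] at h3
  exact lt_irrefl _ h3

/-- An ample invertible module has positive degree on integral curves. -/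
theorem dg_pos_of_isAmple {X C : Scheme.{u}} [IsIntegral C] (p : C ⟶ Spec (CommRingCat.of k)) [IsProper p]
    (hdim : topologicalKrullDim C = 1) (f : C ⟶ X) [IsAffineHom f] {L : X.Modules}
    (hL : CohB1.IsAmple L) : 0 < dg p ((Scheme.Modules.pullback f).obj L) := by
  let : C.Over (Spec (CommRingCat.of k)) := ⟨p⟩
  have : IsProper (C ↘ (Spec (CommRingCat.of k))) := ‹IsProper p›
  exact (Groth.Agent.S1530.result k C hdim _ (isInvertible_pullback f hL.1)).mp
    (CohqB.AmpCocycle.isAmple_pullback f hL)

end K432.AmpCurve
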