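import Groth.Agent.Variety.K432.NefSurj
import Groth.Agent.VBCurve.K707.Slope
import Groth.Agent.S1521

/-!
# Vector bundles on regular proper curves

* `crv_of_regular`: the structure `K707.Base.Crv` for a regular integral curve.
* `exists_image_invertible`: the image of a nonzero map from a coherent module to an invertible module.
* `cnef_of_shortExact`: extensions of modules nef in the curve-test sense.
-/

set_option autoImplicit false
universe u

open AlgebraicGeometry CategoryTheory TopologicalSpace Limits

namespace K432.VB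

open Groth.Agent Groth.Agent.CycB K432.CurveLift K432.CurveNorm K432.CurveDeg K432.NefBasic K432.NefSurj
open K707.Base K707.Deg K707.Slope Groth.Agent.VarietyA.DegRank

theorem crv_of_regular (k : Type u) [Field k] (X : Scheme.{u}) [X.Over (Spec (CommRingCat.of k))] [IsIntegral X]
    (hdim : topologicalKrullDim X = 1) (hreg : ∀ x : X, IsRegularLocalRing (X.presheaf.stalk x)) : Crv k X := by
  refine ⟨hdim, fun x => ?_⟩
  have := hreg x
  have hle := Groth.Agent.VarietyA.SmoothReg.ringKrullDim_stalk_le X x
  rw [hdim] at hle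
  by_cases hf : IsField (X.presheaf.stalk x)
  · exact isPrincipalIdealRing_of_isField hf
  · have h1 : ringKrullDim (X.presheaf.stalk x) ≠ 0 := fun h0 => by
      apply hf
      have : Ring.KrullDimLE 0 (X.presheaf.stalk x) := Ring.krullDimLE_iff.mpr (by rw [h0]; rfl)
      exact Ring.KrullDimLE.isField_of_isDomain
    have h2 : 0 ≤ ringKrullDim (X.presheaf.stalk x) := ringKrullDim_nonneg_of_nontrivial
    have h3 : ringKrullDim (X.presheaf.stalk x) = 1 := by
      refine le_antisymm hle ?_
      have h4 : 0 < ringKrullDim (X.presheaf.stalk x) := lt_of_le_of_ne h2 (Ne.symm h1)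
      exact (WithBot.one_le_iff_pos _).mpr h4
    have := Groth.Agent.VarietyA.SmoothReg.isDiscreteValuationRing_of_isRegularLocalRing _ h3
    infer_instance

variable {k : Type u} [Field k]

/-- The image of a nonzero map from a coherent module to an invertible module on a regular curve. -/
theorem exists_image_invertible {X : Scheme.{u}} [X.Over (Spec (CommRingCat.of k))] [IsIntegral X]
    [IsProper (X ↘ (Spec (CommRingCat.of k)))] (C : Crv k X) {G M : X.Modules} (hG : Coh.IsCoh G)
    (hM : PicF.IsInvertible M) (a : G ⟶ M) (ha : a ≠ 0) :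
    ∃ (N : X.Modules) (p : G ⟶ N) (i : N ⟶ M), PicF.IsInvertible N ∧ Epi p ∧ Mono i ∧ p ≫ i = a ∧ i ≠ 0 := by
  have hMr : FlatMod.IsFinLocFreeOfRank 1 M := Ega2.QCohLocal.isFinLocFreeOfRank_one_iff.mpr hM
  obtain ⟨N, p, i, hp, hi, hpi, hN, -, -, hrk, -⟩ := exists_factor C a hG (isCoh_of_rank hMr)
  have hNoeth := isLocNoeth C
  have hNf := isFinLocFreeOfRank_of_mono C.pid i hN (isFinLocFree_of_rank hMr)
  have hi0 : i ≠ 0 := by
    rintro rfl
    exact ha (by rw [← hpi, comp_zero])
  have hr0 : rk N ≠ 0 := by
    intro h0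
    have h1 := isZero_of_rk_eq_zero C (isFinLocFree_of_rank hNf) h0
    exact hi0 (h1.eq_of_src _ _)
  have hr1 : rk N = 1 := by
    rw [rk_of_rank hMr] at hrk
    omega
  rw [hr1] at hNf
  exact ⟨N, p, i, Ega2.QCohLocal.isFinLocFreeOfRank_one_iff.mp hNf, hp, hi, hpi, hi0⟩

/-- Extensions of curve-test nef modules are curve-test nef. -/
theorem cnef_of_shortExact {X : Scheme.{u}} {p : X ⟶ Spec (CommRingCat.of k)} [IsSeparated p] (S : ShortComplex X.Modules)
    (hS : S.ShortExact) (h₁ : Coh.IsCoh S.X₁) (hn₁ : CNef p S.X₁) (hn₃ : CNef p S.X₃) : CNef p S.X₂ := by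
  rw [cnef_iff_reg]
  intro C _ f hfp hC hreg M hM q hq
  let : C.Over (Spec (CommRingCat.of k)) := ⟨f ≫ p⟩
  have hprop : IsProper (C ↘ (Spec (CommRingCat.of k))) := hfp
  have hcrv := crv_of_regular k C hC hreg
  let a : (Scheme.Modules.pullback f).obj S.X₁ ⟶ M := (Scheme.Modules.pullback f).map S.f ≫ q
  by_cases ha : a = 0
  · -- a quotient of the third term
    have hadj : (Scheme.Modules.pullback f).IsLeftAdjoint :=
      (Scheme.Modules.pullbackPushforwardAdjunction f).isLeftAdjoint
    have hcok : IsColimit ((CokernelCofork.ofπ S.g S.zero).map (Scheme.Modules.pullback f)) :=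
      CokernelCofork.mapIsColimit _ hS.gIsCokernel (Scheme.Modules.pullback f)
    let b : (Scheme.Modules.pullback f).obj S.X₃ ⟶ M := hcok.desc (CokernelCofork.ofπ q ha)
    have hb : (Scheme.Modules.pullback f).map S.g ≫ b = q := hcok.fac (CokernelCofork.ofπ q ha) WalkingParallelPair.one
    have hbe : Epi b := by
      have : Epi ((Scheme.Modules.pullback f).map S.g ≫ b) := by rw [hb]; exact hq
      exact epi_of_epi ((Scheme.Modules.pullback f).map S.g) b
    exact hn₃ C f hC M hM b hbe
  · have hG : Coh.IsCoh ((Scheme.Modules.pullback f).obj S.X₁) :=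
      Groth.Agent.FormalA.PullbackQC.isCoh_pullback f _ h₁
    obtain ⟨N, r, i, hN, hr, hi, -, hi0⟩ := exists_image_invertible hcrv hG hM a ha
    have h1 := hn₁ C f hC N hN r hr
    have h2 := (S1521.result k C hC N M hN hM i hi0).1
    exact h1.trans h2

end K432.VB
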