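import Groth.Agent.Variety.K432.CountClosed
import Mathlib.AlgebraicGeometry.IdealSheaf.Functorial
import Mathlib.RingTheory.Ideal.KrullsHeightTheorem
import Mathlib.AlgebraicGeometry.Noetherian

/-!
# Irredundant countable decompositions

* `exists_le_maximal`: on a locally Noetherian scheme, every member of a family of irreducible closed subsets is
  contained in a maximal member of the family.
* `exists_le_of_closedPoints`: over an uncountable field an irreducible closed subset of a finite type scheme whose
  closed points are covered by countably many closed subsets is contained in one of them.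
-/

set_option autoImplicit false
universe u

open AlgebraicGeometry CategoryTheory TopologicalSpace

namespace K432.CountDecomp

theorem wellFoundedLT_primeSpectrum (A : Type u) [CommRing A] [IsNoetherianRing A] :
    WellFoundedLT (PrimeSpectrum A) := by
  refine ⟨WellFounded.mono (InvImage.wf (fun p : PrimeSpectrum A => Order.height p)
    (wellFounded_lt (α := ℕ∞))) (fun p q h => ?_)⟩
  refine Order.height_strictMono h ?_
  have : (p.asIdeal).height < ⊤ := Ideal.height_lt_top p.isPrime.ne_top
  rwa [PrimeSpectrum.height_eq_orderHeight] at this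

theorem exists_le_maximal {X : Scheme.{u}} [IsLocallyNoetherian X] (C : Set (Closeds X))
    (hC : ∀ T ∈ C, IsIrreducible (T : Set X)) (T : Closeds X) (hT : T ∈ C) :
    ∃ M ∈ C, T ≤ M ∧ ∀ T' ∈ C, M ≤ T' → T' = M := by
  have hirr := hC T hT
  let t := hirr.genericPoint
  have ht : closure ({t} : Set X) = T := hirr.closure_genericPoint T.isClosed
  obtain ⟨_, ⟨W, hW : IsAffineOpen W, rfl⟩, hxW, -⟩ :=
    X.isBasis_affineOpens.exists_subset_of_mem_open (Set.mem_univ t) isOpen_univ
  have hN : IsNoetherianRing Γ(X, W) := IsLocallyNoetherian.component_noetherian ⟨W, hW⟩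
  have hwf := wellFoundedLT_primeSpectrum Γ(X, W)
  -- a generic point of a larger member lies in `W`
  have key : ∀ T' ∈ C, (T : Set X) ⊆ T' → ∃ q : PrimeSpectrum Γ(X, W),
      closure ({hW.fromSpec q} : Set X) = T' := by
    intro T' hT' hle
    have h1 : closure ({(hC T' hT').genericPoint} : Set X) = T' :=
      (hC T' hT').closure_genericPoint T'.isClosed
    have h2 : (hC T' hT').genericPoint ⤳ t := by
      rw [specializes_iff_mem_closure, h1]
      apply hle
      rw [← ht]
      exact subset_closure rfl
    have h3 : (hC T' hT').genericPoint ∈ hW.fromSpec.opensRange := by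
      rw [hW.opensRange_fromSpec]
      exact h2.mem_open W.2 hxW
    obtain ⟨q, hq⟩ := h3
    exact ⟨q, by rw [hq]; exact h1⟩
  let P : Set (PrimeSpectrum Γ(X, W)) :=
    {q | ∃ T' ∈ C, (T : Set X) ⊆ T' ∧ closure ({hW.fromSpec q} : Set X) = T'}
  have hP : P.Nonempty := by
    obtain ⟨q, hq⟩ := key T hT subset_rfl
    exact ⟨q, T, hT, subset_rfl, hq⟩
  obtain ⟨M, hM, hTM, hMq⟩ := hwf.wf.min_mem P hP
  refine ⟨M, hM, hTM, fun T' hT' hMT' => ?_⟩
  obtain ⟨q', hq'⟩ := key T' hT' (hTM.trans hMT')
  have hq'P : q' ∈ P := ⟨T', hT', hTM.trans hMT', hq'⟩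
  have hnlt := hwf.wf.not_lt_min P hq'P
  have hle : q' ≤ hwf.wf.min P hP := by
    refine (PrimeSpectrum.le_iff_specializes _ _).mpr ?_
    have h1 : hW.fromSpec q' ⤳ hW.fromSpec (hwf.wf.min P hP) := by
      rw [specializes_iff_closure_subset, hMq, hq']
      exact hMT'
    exact hW.fromSpec.isOpenEmbedding.isInducing.specializes_iff.mp h1
  have heq : q' = hwf.wf.min P hP := by
    rcases hle.eq_or_lt with h | h
    · exact h
    · exact absurd h hnlt
  apply SetLike.coe_injective
  rw [← hq', ← hMq, heq]

/-- Over an uncountable field, an irreducible closed subset whose closed points are covered by countably many closed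
subsets is contained in one of them. -/
theorem exists_le_of_closedPoints {k : Type u} [Field k] [Uncountable k] {X : Scheme.{u}}
    (sX : X ⟶ Spec (CommRingCat.of k)) [LocallyOfFiniteType sX] (T : Closeds X) (hT : IsIrreducible (T : Set X))
    (S : Set (Closeds X)) (hS : S.Countable)
    (h : ∀ x ∈ T, IsClosed ({x} : Set X) → ∃ T' ∈ S, x ∈ T') : ∃ T' ∈ S, T ≤ T' := by
  by_contra hcon
  push Not at hcon
  let Y := (Scheme.IdealSheafData.vanishingIdeal T).subscheme
  let i : Y ⟶ X := (Scheme.IdealSheafData.vanishingIdeal T).subschemeι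
  have hrange : Set.range i = T := by
    rw [Scheme.IdealSheafData.range_subschemeι, Scheme.IdealSheafData.coe_support_vanishingIdeal]
  have hemb : Topology.IsClosedEmbedding i := i.isClosedEmbedding
  have hYirr : IrreducibleSpace Y := by
    have h1 : IsIrreducible (Set.range i) := by rw [hrange]; exact hT
    have := Subtype.irreducibleSpace h1
    exact hemb.isEmbedding.toHomeomorph.irreducibleSpace_iff.mpr this
  -- no member contains all points of `Y`
  have hpre : ∀ T' ∈ S, (i ⁻¹' (T' : Set X)) ≠ Set.univ := by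
    intro T' hT' h1
    refine hcon T' hT' fun x hx => ?_
    have : x ∈ Set.range i := by rw [hrange]; exact hx
    obtain ⟨y, rfl⟩ := this
    have : y ∈ i ⁻¹' (T' : Set X) := by rw [h1]; trivial
    exact this
  have hne : (Set.univ : Set Y).Nonempty := Set.univ_nonempty
  obtain ⟨Z, hZ, hSZ⟩ : ∃ Z : ℕ → Closeds Y, (∀ n, (Z n : Set Y) ≠ Set.univ) ∧
      ∀ T' ∈ S, ∃ n, i ⁻¹' (T' : Set X) = Z n := by
    rcases S.eq_empty_or_nonempty with rfl | hSne
    · exact ⟨fun _ => ⊥, fun _ h => (hne.ne_empty h.symm), by simp⟩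
    · obtain ⟨g, hg⟩ := hS.exists_eq_range hSne
      refine ⟨fun n => ⟨i ⁻¹' (g n : Set X), (g n).isClosed.preimage i.continuous⟩, fun n => ?_, ?_⟩
      · exact hpre (g n) (by rw [hg]; exact ⟨n, rfl⟩)
      · intro T' hT'
        rw [hg] at hT'
        obtain ⟨n, rfl⟩ := hT'
        exact ⟨n, rfl⟩
  obtain ⟨y, -, hy, hyZ⟩ := CountClosed.exists_isClosed_mem (i ≫ sX) Z hZ ⊤ hne
  have hcl : IsClosed ({i y} : Set X) := by
    rw [← Set.image_singleton]
    exact hemb.isClosedMap _ hy
  obtain ⟨T', hT', hyT'⟩ := h (i y) (by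
    have : i y ∈ Set.range i := ⟨y, rfl⟩
    rw [hrange] at this
    exact this) hcl
  obtain ⟨n, hn⟩ := hSZ T' hT'
  refine hyZ n ?_
  have : y ∈ i ⁻¹' (T' : Set X) := hyT'
  rw [hn] at this
  exact this

end K432.CountDecomp
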