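import Groth.Agent.ArSurf.K480.Stab
import Groth.Agent.Dix.Cast1
import Groth.Agent.Dix.Cast5
import Groth.Agent.Dix.IdealModCartier
import Groth.Agent.FormalB.HHLes
import Groth.Agent.Grpsch.PicGrp
import Groth.Agent.VarietyB.GlobGen
import Groth.Agent.VarietyB.GenLocusTensor
import Groth.Agent.CurvesC.UnitCoh
import Groth.Agent.CurvesA.HHMap
import Groth.Agent.Ega3B.PullTensor
import Groth.Agent.S0002
import Groth.Agent.S0051
import Groth.Agent.S2329

/-!
# Powers of `O(D)` are globally generated if `O(D)|_D` is ample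

`eventually_gg`: `d : D ⟶ X` a closed immersion with effective Cartier ideal, `X` proper over a Noetherian ring,
`L = O_X(D)`.  If for all large `n` the module `d^* L^n` is globally generated with `H¹ = 0`, then `L^n` is globally
generated for all large `n`.  (Variation of K480.GlobHor, where `D` is affine.)
-/

set_option autoImplicit false
set_option backward.isDefEq.respectTransparency false
universe u

open CategoryTheory CategoryTheory.Limits AlgebraicGeometry Opposite TopologicalSpace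

namespace K432.DivGG

open Groth.Agent Groth.Agent.Fdesc.LocGen Groth.Agent.Fdesc Groth.Agent.Grpsch.PicGrp
open Groth.Agent.Dix.Cast1 Groth.Agent.FormalA.HHLin Groth.Agent.FormalB.HHLes

/-- Global sections lift along an epimorphism whose kernel has injective `H¹`. -/
theorem surjective_of_injective (A : Type u) [CommRing A] {X : Scheme.{u}} [X.Over (Spec (CommRingCat.of A))]
    {S : ShortComplex X.Modules} (hS : S.ShortExact)
    (h : Function.Injective (HHmap A S.f 1)) : Function.Surjective (S.g.app ⊤) := by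
  intro q
  have h1 : δ A hS 0 ((CohqB.KerTrick.h0 S.X₃).symm q) = 0 := by
    apply h
    rw [map_zero]
    exact map_δ A hS 0 _
  obtain ⟨y, hy⟩ := (exact_map_δ A hS 0 _).1 h1
  refine ⟨CohqB.KerTrick.h0 S.X₂ y, ?_⟩
  have hy' : CohqB.HSeqMod.hmap S.g 0 y = (CohqB.KerTrick.h0 S.X₃).symm q := hy
  rw [← CohqB.KerTrick.h0_hmap, hy', AddEquiv.apply_symm_apply]

theorem mk_of_isInverseOf {X : Scheme.{u}} {L M : X.Modules} (hL : PicF.IsInvertible L) (hM : PicF.IsInvertible M)
    (h : ClSub.IsInverseOf L M) : mk L hL = (mk M hM)⁻¹ := by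
  rw [eq_inv_iff_mul_eq_one, mk_mul_mk, mk_eq_one_iff]
  exact h

section

variable (R : Type u) [CommRing R] [IsNoetherianRing R] {X D : Scheme.{u}} [X.Over (Spec (CommRingCat.of R))]
  [IsProper (X ↘ (Spec (CommRingCat.of R)))] (d : D ⟶ X) [IsClosedImmersion d]

omit [IsClosedImmersion d] in
/-- `I ⊗ L^{n+1} ≅ L^n`. -/
theorem exists_iso (L : X.Modules)
    (hL : ClSub.IsInverseOf L (ClSub.idealMod d.ker)) (n : ℕ) :
    Nonempty (CohB1.tensorPow L n ≅ CohB1.tensorMod (ClSub.idealMod d.ker) (CohB1.tensorPow L (n + 1))) := by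
  obtain ⟨hLi, hI⟩ := Dix.IdealModCartier.isInvertible_of_isInverseOf hL
  have h1 := mk_of_isInverseOf hLi hI hL
  rw [← mk_eq_iff (isInvertible_tensorPow hLi n) (isInvertible_tensorMod hI (isInvertible_tensorPow hLi (n + 1))),
    ← mk_mul_mk hI (isInvertible_tensorPow hLi (n + 1)), mk_tensorPow hLi, mk_tensorPow hLi, h1]
  rw [pow_succ, mul_comm, mul_assoc, inv_mul_cancel, mul_one]

include R in
theorem eventually_gg (hD : BlowUp.IsEffCartierIdeal d.ker) (L : X.Modules)
    (hL : ClSub.IsInverseOf L (ClSub.idealMod d.ker))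
    (hv : ∃ n₀ : ℕ, ∀ n : ℕ, n₀ ≤ n →
      Subsingleton (Coh.HH D ((Scheme.Modules.pullback d).obj (CohB1.tensorPow L n)) 1) ∧
      Curv2.IsGloballyGenerated ((Scheme.Modules.pullback d).obj (CohB1.tensorPow L n))) :
    ∃ m₀ : ℕ, ∀ m : ℕ, m₀ ≤ m → Curv2.IsGloballyGenerated (CohB1.tensorPow L m) := by
  obtain ⟨c, hc⟩ := hv
  obtain ⟨hLi, hI⟩ := Dix.IdealModCartier.isInvertible_of_isInverseOf hL
  have hN : ∀ n, PicF.IsInvertible (CohB1.tensorPow L n) := isInvertible_tensorPow hLi
  -- the restriction sequences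
  let S : ℕ → ShortComplex X.Modules := fun n => restrictSeq d (CohB1.tensorPow L (n + 1))
  have hS : ∀ n, (S n).ShortExact := fun n => restrictSeq_shortExact d (hN (n + 1))
  let e : ∀ n, CohB1.tensorPow L n ≅ (S n).X₁ := fun n => (exists_iso d L hL n).some
  have h3 : ∀ n, c ≤ n → Subsingleton (Coh.HH X (S n).X₃ 1) := by
    intro n hn
    exact subsingleton_HH_push d _ 1 (hc (n + 1) (by omega)).1
  let f : ∀ n, Coh.HH X (CohB1.tensorPow L n) 1 →ₗ[R] Coh.HH X (CohB1.tensorPow L (n + 1)) 1 :=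
    fun n => (HHmap R (S n).f 1).comp (HHmap R (e n).hom 1)
  have hsurj1 : ∀ n, c ≤ n → Function.Surjective (HHmap R (S n).f 1) := by
    intro n hn x
    exact (exact_map_map R (hS n) 1 x).1 (@Subsingleton.elim _ (h3 n hn) _ _)
  have hbij : ∀ n, Function.Bijective (HHmap R (e n).hom 1) := by
    intro n
    refine Function.bijective_iff_has_inverse.2 ⟨HHmap R (e n).inv 1, fun x => ?_, fun x => ?_⟩
    · rw [HHmap_comp_apply, Iso.hom_inv_id, HHmap_id]; rfl
    · rw [HHmap_comp_apply, Iso.inv_hom_id, HHmap_id]; rfl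
  have hfs : ∀ n, c ≤ n → Function.Surjective (f n) := fun n hn => (hsurj1 n hn).comp (hbij n).2
  have hfin : Module.Finite R (Coh.HH X (CohB1.tensorPow L (c + 0)) 1) := by
    have : IsLocallyNoetherian X := LocallyOfFiniteType.isLocallyNoetherian (X ↘ (Spec (CommRingCat.of R)))
    exact S0002.result R X _ (S2329.isCoh_of_isInvertible (hN (c + 0))) 1
  obtain ⟨n₀, hn₀⟩ := K480.Stab.exists_stab (R := R) (fun n => Coh.HH X (CohB1.tensorPow L (c + n)) 1)
    (fun n => f (c + n)) (fun n => hfs (c + n) (by omega))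
  refine ⟨c + n₀ + 1, fun m hm => ?_⟩
  obtain ⟨n, hn, rfl⟩ : ∃ n, n₀ ≤ n ∧ m = c + n + 1 := ⟨m - 1 - c, by omega, by omega⟩
  have hinj : Function.Injective (HHmap R (S (c + n)).f 1) := by
    have h4 : Function.Injective ((HHmap R (S (c + n)).f 1) ∘ (HHmap R (e (c + n)).hom 1)) := hn₀ n hn
    exact (Function.Injective.of_comp_iff' _ (hbij (c + n))).1 h4
  have hlift := surjective_of_injective R (hS (c + n)) hinj
  -- the global generation
  obtain ⟨s₀, hs₀⟩ := Dix.Cast5.exists_section d hD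
  have hdi := isInvertible_dual hI
  obtain ⟨ed⟩ : Nonempty (CohB1.tensorPow (dual (ClSub.idealMod d.ker)) (c + n + 1) ≅
      CohB1.tensorPow L (c + n + 1)) := by
    rw [← mk_eq_iff (isInvertible_tensorPow hdi (c + n + 1)) (hN (c + n + 1)), mk_tensorPow hdi, mk_tensorPow hLi,
      mk_of_isInverseOf hLi hI hL, inv_mk]
  have hcase : ∀ x : X, ∃ s : Coh.structureModule X ⟶ CohB1.tensorPow L (c + n + 1),
      x ∈ CohB1.genLocus _ s := by
    intro x
    by_cases hx : x ∈ Set.range d
    · obtain ⟨p, rfl⟩ := hx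
      have hMd := isInvertible_pullback d (hN (c + n + 1))
      have hgg : Curv2.IsGloballyGenerated ((Scheme.Modules.pullback d).obj (CohB1.tensorPow L (c + n + 1))) :=
        (hc (c + n + 1) (by omega)).2
      obtain ⟨σ, hσ⟩ := VarietyB.GenLocusTensor.exists_mem_genLocus hMd hgg p
      obtain ⟨t, ht⟩ := hlift (sec σ ⊤)
      refine ⟨homOf t, ?_⟩
      have h1 := Ega2.Weight.genLocus_pullHom d (hN (c + n + 1)) (homOf t)
      have h2 : Ega2.Weight.pullHom d (homOf t) = σ := by
        have h5 : Ega2.Weight.pullHom d (homOf t) = homOf (pullTop d t) := by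
          unfold Ega2.Weight.pullHom
          rw [sec_homOf, res_refl]
          rfl
        rw [h5]
        have h6 : pullTop d t = sec σ ⊤ := ht
        rw [h6, homOf_sec]
      rw [h2] at h1
      exact h1.le hσ
    · refine ⟨powHom s₀ (c + n + 1) ≫ ed.hom, ?_⟩
      rw [Ega2.Weight.genLocus_comp, genLocus_powHom hdi]
      have : x ∈ (CohB1.genLocus _ s₀ : Set X) := by rw [hs₀]; exact hx
      exact this
  choose s hs using hcase
  exact VarietyB.GlobGen.isGloballyGenerated_of_cover (κ := X) s (fun x => ⟨x, hs x⟩)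

end

/-- The case where `O(D)|_D` is ample. -/
theorem eventually_gg_of_isAmple (R : Type u) [CommRing R] [IsNoetherianRing R] {X D : Scheme.{u}}
    [X.Over (Spec (CommRingCat.of R))] [IsProper (X ↘ (Spec (CommRingCat.of R)))] (d : D ⟶ X) [IsClosedImmersion d]
    (hD : BlowUp.IsEffCartierIdeal d.ker) (L : X.Modules)
    (hL : ClSub.IsInverseOf L (ClSub.idealMod d.ker))
    (hA : CohB1.IsAmple ((Scheme.Modules.pullback d).obj L)) :
    ∃ m₀ : ℕ, ∀ m : ℕ, m₀ ≤ m → Curv2.IsGloballyGenerated (CohB1.tensorPow L m) := by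
  obtain ⟨hLi, hI⟩ := Dix.IdealModCartier.isInvertible_of_isInverseOf hL
  let p : D ⟶ Spec (CommRingCat.of R) := d ≫ (X ↘ (Spec (CommRingCat.of R)))
  have hp : IsProper p := inferInstanceAs (IsProper (d ≫ _))
  have hDN : IsLocallyNoetherian D := LocallyOfFiniteType.isLocallyNoetherian p
  have hsD : D.IsSeparated := by
    rw [Scheme.isSeparated_iff, ← terminal.comp_from p, IsSeparated.comp_iff]
    infer_instance
  have hcD : CompactSpace D := hA.2.1
  obtain ⟨n₁, h₁⟩ := (S0051.result R D p _ hA.1).mp hA (Coh.structureModule D) (CurvesC.UnitCoh.isCoh_unit D)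
  obtain ⟨n₂, -, h₂⟩ := S2329.result D _ (Coh.structureModule D) hA isInvertible_structureModule
  refine eventually_gg R d hD L hL ⟨max n₁ n₂, fun n hn => ?_⟩
  obtain ⟨e'⟩ := Ega3B.PullTensor.nonempty_pullPowIso d hLi n
  constructor
  · have h3 := h₁ n (le_trans (le_max_left _ _) hn) 1 one_pos
    exact ((CurvesA.HHMap.equiv (e' ≪≫ (Ega2.Tens.lunit _).symm) 1).toEquiv.subsingleton_congr).mpr h3
  · have h3 := (h₂ n (le_trans (le_max_right _ _) hn)).2
    exact S2329.isGloballyGenerated_of_iso (Ega2.Tens.runit _ ≪≫ e'.symm) h3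

end K432.DivGG
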