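import Groth.Agent.Variety.K432.NefBasic

/-!
# Nefness and surjective morphisms
-/

set_option autoImplicit false
universe u

open AlgebraicGeometry CategoryTheory TopologicalSpace Limits

namespace K432.NefSurj

open Groth.Agent Groth.Agent.CycB K432.CurveLift K432.CurveNorm K432.CurveDeg K432.NefBasic

variable {k : Type u} [Field k]

/-- A curve mapping to the target of a surjective morphism is dominated by a curve mapping to the source. -/
theorem exists_curve {X Y : Scheme.{u}} (p : X ⟶ Spec (CommRingCat.of k)) [IsProper p] (f : Y ⟶ X)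
    [IsProper f] [Surjective f] {C : Scheme.{u}} [IsIntegral C] (g : C ⟶ X) [IsProper (g ≫ p)]
    (hC : topologicalKrullDim C = 1) :
    ∃ (D : Scheme.{u}) (h : D ⟶ C) (g' : D ⟶ Y), IsIntegral D ∧ topologicalKrullDim D = 1 ∧ IsProper h ∧
      IsDominant h ∧ g' ≫ f = h ≫ g := by
  obtain ⟨y, hy, hy'⟩ := exists_point_lift (g ≫ p) (pullback.snd f g) (genericPoint C)
    ((pullback.snd f g).surjective _)
  have hdim : topologicalKrullDim (ptIdeal y).subscheme = 1 := by
    rw [topologicalKrullDim_subscheme, support_ptIdeal, hy', genericPoint_closure, ← hC]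
    exact IsHomeomorph.topologicalKrullDim_eq _ (Homeomorph.Set.univ C).isHomeomorph
  refine ⟨(ptIdeal y).subscheme, (ptIdeal y).subschemeι ≫ pullback.snd f g,
    (ptIdeal y).subschemeι ≫ pullback.fst f g, inferInstance, hdim, inferInstance, ⟨?_⟩, ?_⟩
  · have hcl : IsClosedMap ((ptIdeal y).subschemeι ≫ pullback.snd f g) := Scheme.Hom.isClosedMap _
    have hmem : genericPoint C ∈ Set.range ((ptIdeal y).subschemeι ≫ pullback.snd f g) := by
      obtain ⟨z, hz⟩ : y ∈ Set.range (ptIdeal y).subschemeι := by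
        rw [range_ptIdeal]; exact subset_closure rfl
      exact ⟨z, by rw [Scheme.Hom.comp_apply, hz, hy]⟩
    intro z
    have h1 : closure {genericPoint C} ⊆ closure (Set.range ((ptIdeal y).subschemeι ≫ pullback.snd f g)) :=
      closure_mono (Set.singleton_subset_iff.mpr hmem)
    rw [genericPoint_closure] at h1
    exact h1 trivial
  · rw [Category.assoc, Category.assoc, pullback.condition]

theorem Nef.of_surjective {X Y : Scheme.{u}} {p : X ⟶ Spec (CommRingCat.of k)} [IsProper p] (f : Y ⟶ X)
    [IsProper f] [Surjective f] {L : X.Modules} (hL : PicF.IsInvertible L)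
    (h : Nef (f ≫ p) ((Scheme.Modules.pullback f).obj L)) : Nef p L := by
  rw [nef_iff hL]
  intro C _ g _ hC
  obtain ⟨D, a, g', hD, hdim, hap, had, hcomm⟩ := exists_curve p f g hC
  obtain ⟨n, hn, hn'⟩ := exists_dg_pullback_dominant (g ≫ p) a hdim hC
  have h1 := hn' _ (Fdesc.LocGen.isInvertible_pullback g hL)
  have e1 : g' ≫ f ≫ p = a ≫ g ≫ p := by rw [← Category.assoc, hcomm, Category.assoc]
  have hpr : IsProper (g' ≫ f ≫ p) := by rw [e1]; infer_instance
  have h2 := h.dg_nonneg (Fdesc.LocGen.isInvertible_pullback f hL) hdim g'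
  have e2 : (Scheme.Modules.pullback g').obj ((Scheme.Modules.pullback f).obj L) ≅
      (Scheme.Modules.pullback a).obj ((Scheme.Modules.pullback g).obj L) :=
    (Scheme.Modules.pullbackComp g' f).app L ≪≫ (Scheme.Modules.pullbackCongr hcomm).app L ≪≫
      ((Scheme.Modules.pullbackComp a g).app L).symm
  rw [dg_congr _ e2, e1, h1] at h2
  exact nonneg_of_mul_nonneg_right h2 hn

theorem CNef.of_surjective {X Y : Scheme.{u}} {p : X ⟶ Spec (CommRingCat.of k)} [IsProper p] (f : Y ⟶ X)
    [IsProper f] [Surjective f] {E : X.Modules}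
    (h : CNef (f ≫ p) ((Scheme.Modules.pullback f).obj E)) : CNef p E := by
  intro C _ g _ hC M hM q hq
  obtain ⟨D, a, g', hD, hdim, hap, had, hcomm⟩ := exists_curve p f g hC
  obtain ⟨n, hn, hn'⟩ := exists_dg_pullback_dominant (g ≫ p) a hdim hC
  have h1 := hn' _ hM
  have e1 : g' ≫ f ≫ p = a ≫ g ≫ p := by rw [← Category.assoc, hcomm, Category.assoc]
  have hpr : IsProper (g' ≫ f ≫ p) := by rw [e1]; infer_instance
  have e2 : (Scheme.Modules.pullback g').obj ((Scheme.Modules.pullback f).obj E) ≅
      (Scheme.Modules.pullback a).obj ((Scheme.Modules.pullback g).obj E) :=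
    (Scheme.Modules.pullbackComp g' f).app E ≪≫ (Scheme.Modules.pullbackCongr hcomm).app E ≪≫
      ((Scheme.Modules.pullbackComp a g).app E).symm
  have h2 := h D g' hdim _ (Fdesc.LocGen.isInvertible_pullback a hM)
    (e2.hom ≫ (Scheme.Modules.pullback a).map q) (by
      have : Epi ((Scheme.Modules.pullback a).map q) := epi_pullback_map _ q
      exact epi_comp _ _)
  rw [e1, h1] at h2
  exact nonneg_of_mul_nonneg_right h2 hn

theorem CNef.pullback {X Y : Scheme.{u}} {p : X ⟶ Spec (CommRingCat.of k)} {E : X.Modules}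
    (h : CNef p E) (f : Y ⟶ X) : CNef (f ≫ p) ((Scheme.Modules.pullback f).obj E) := by
  intro C _ g _ hC M hM q hq
  have hg : IsProper ((g ≫ f) ≫ p) := by rw [Category.assoc]; infer_instance
  have h1 := h C (g ≫ f) hC M hM ((Scheme.Modules.pullbackComp g f).inv.app E ≫ q) (epi_comp _ _)
  rw [Category.assoc] at h1
  exact h1

theorem CNef.of_epi {X : Scheme.{u}} {p : X ⟶ Spec (CommRingCat.of k)} {E F : X.Modules}
    (h : CNef p E) (q : E ⟶ F) [Epi q] : CNef p F := by
  intro C _ g _ hC M hM r hr
  have : Epi ((Scheme.Modules.pullback g).map q) := epi_pullback_map _ q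
  exact h C g hC M hM ((Scheme.Modules.pullback g).map q ≫ r) (epi_comp _ _)

end K432.NefSurj
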