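import Groth.Agent.Variety.K432.NefBC
import Groth.Agent.AlgGrp.K412.Model
import Groth.Agent.Neron.K491.Closure

/-!
# Nefness in families

* `nef_generic_fiber`: over a Dedekind domain, if the restriction to a closed fibre is nef so is the restriction to the
  generic fibre.
* `nef_bc`: nefness is invariant under extension of the base field.
-/

set_option autoImplicit false
universe u

open AlgebraicGeometry CategoryTheory TopologicalSpace Limits

namespace K432.NefFam

open Groth.Agent Groth.Agent.CycB K432.CurveLift K432.CurveNorm K432.CurveDeg K432.NefBasic K432.NefBC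

theorem isPullback_fib {N S : Scheme.{u}} (f : N ⟶ S) (s : S) :
    IsPullback (f.fiberι s) (f.fiberToSpecResidueField s) f (S.fromSpecResidueField s) :=
  IsPullback.of_hasPullback _ _

theorem isProper_fib {N S : Scheme.{u}} (f : N ⟶ S) [IsProper f] (s : S) : IsProper (f.fiberToSpecResidueField s) :=
  MorphismProperty.of_isPullback (P := @IsProper) (isPullback_fib f s) inferInstance

theorem lfp_of_lft {X Y : Scheme.{u}} (f : X ⟶ Y) [IsLocallyNoetherian Y] [LocallyOfFiniteType f] :
    LocallyOfFinitePresentation f where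
  finitePresentation_appLE {U} hU {V} hV e := by
    have : IsNoetherianRing Γ(Y, U) := IsLocallyNoetherian.component_noetherian ⟨U, hU⟩
    exact RingHom.FinitePresentation.of_finiteType.1 (f.finiteType_appLE hU hV e)

/-- The fibre and base change. -/
theorem isPullback_fiber {N S : Scheme.{u}} (f : N ⟶ S) (s : S) {K : Type u} [Field K]
    (φ : S.residueField s ⟶ CommRingCat.of K) {H : Scheme.{u}} {e : H ⟶ N} {h : H ⟶ Spec (CommRingCat.of K)}
    (hp : IsPullback e h f (Spec.map φ ≫ S.fromSpecResidueField s)) :
    ∃ e' : H ⟶ f.fiber s, e' ≫ f.fiberι s = e ∧ IsPullback e' h (f.fiberToSpecResidueField s) (Spec.map φ) := by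
  have hw : e ≫ f = (h ≫ Spec.map φ) ≫ S.fromSpecResidueField s := by rw [hp.w, Category.assoc]
  have h1 : (isPullback_fib f s).lift e (h ≫ Spec.map φ) hw ≫ f.fiberι s = e := (isPullback_fib f s).lift_fst _ _ _
  refine ⟨(isPullback_fib f s).lift e (h ≫ Spec.map φ) hw, h1, ?_⟩
  refine IsPullback.of_right (h₁₂ := f.fiberι s) (h₂₂ := S.fromSpecResidueField s) (v₁₃ := f) ?_
    ((isPullback_fib f s).lift_snd _ _ _) (isPullback_fib f s)
  rw [h1]
  exact hp

/-- The degree on the fibre and after base change. -/
theorem dg_eq_dgFib {N S : Scheme.{u}} (f : N ⟶ S) [IsProper f] (s : S) {K : Type u} [Field K]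
    (φ : S.residueField s ⟶ CommRingCat.of K) {H : Scheme.{u}} {e : H ⟶ N} {h : H ⟶ Spec (CommRingCat.of K)}
    (hp : IsPullback e h f (Spec.map φ ≫ S.fromSpecResidueField s)) (L : N.Modules) (hL : PicF.IsInvertible L) :
    dg h ((Scheme.Modules.pullback e).obj L) = dgFib f L s ∧
      topologicalKrullDim H = topologicalKrullDim (f.fiber s) := by
  obtain ⟨e', he', hp'⟩ := isPullback_fiber f s φ hp
  have hpr : IsProper (f.fiberToSpecResidueField s) := isProper_fib f s
  have h1 := dg_bc (k := S.residueField s) φ.hom (s := f.fiberToSpecResidueField s) hp'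
    ((Scheme.Modules.pullback (f.fiberι s)).obj L) (Fdesc.LocGen.isInvertible_pullback _ hL)
  refine ⟨?_, topologicalKrullDim_bc (k := S.residueField s) φ.hom (s := f.fiberToSpecResidueField s) hp'⟩
  refine Eq.trans (dg_congr h ?_) h1
  exact (Scheme.Modules.pullbackCongr he'.symm).app L ≪≫ (Scheme.Modules.pullbackComp _ _).symm.app L

/-- Nonnegativity of the degree on the fibre of a scheme over a family with nef fibre. -/
theorem dgFib_nonneg {D X S : Scheme.{u}} (a : D ⟶ X) (p : X ⟶ S) [IsProper p] [IsProper (a ≫ p)]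
    (L : X.Modules) (hL : PicF.IsInvertible L) (c : S)
    (hnef : Nef (k := S.residueField c) (p.fiberToSpecResidueField c)
      ((Scheme.Modules.pullback (p.fiberι c)).obj L))
    (hdim : topologicalKrullDim ((a ≫ p).fiber c) ≤ 1) :
    0 ≤ dgFib (a ≫ p) ((Scheme.Modules.pullback a).obj L) c := by
  have hw : ((a ≫ p).fiberι c ≫ a) ≫ p = (a ≫ p).fiberToSpecResidueField c ≫ S.fromSpecResidueField c := by
    rw [Category.assoc]
    exact (isPullback_fib (a ≫ p) c).w
  let b : (a ≫ p).fiber c ⟶ p.fiber c := (isPullback_fib p c).lift ((a ≫ p).fiberι c ≫ a) _ hw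
  have hb1 : b ≫ p.fiberι c = (a ≫ p).fiberι c ≫ a := (isPullback_fib p c).lift_fst _ _ _
  have hb2 : b ≫ p.fiberToSpecResidueField c = (a ≫ p).fiberToSpecResidueField c :=
    (isPullback_fib p c).lift_snd _ _ _
  have hpr0 : IsProper (p.fiberToSpecResidueField c) := isProper_fib p c
  have hpr : IsProper ((a ≫ p).fiberToSpecResidueField c) := isProper_fib _ c
  have hpr' : IsProper (b ≫ p.fiberToSpecResidueField c) := by rw [hb2]; exact hpr
  have h1 := Nef.pullback (k := S.residueField c) (Fdesc.LocGen.isInvertible_pullback _ hL) hnef b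
  rw [hb2] at h1
  have e1 : (Scheme.Modules.pullback b).obj ((Scheme.Modules.pullback (p.fiberι c)).obj L) ≅
      (Scheme.Modules.pullback ((a ≫ p).fiberι c)).obj ((Scheme.Modules.pullback a).obj L) :=
    (Scheme.Modules.pullbackComp _ _).app L ≪≫ (Scheme.Modules.pullbackCongr hb1).app L ≪≫
      (Scheme.Modules.pullbackComp _ _).symm.app L
  exact dg_nonneg_of_dim_one (k := S.residueField c) ((a ≫ p).fiberToSpecResidueField c) hdim _
    (Fdesc.LocGen.isInvertible_pullback _ (Fdesc.LocGen.isInvertible_pullback _ hL))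
    ((nef_congr (k := S.residueField c) e1).mp h1)

section Dedekind

variable {R : Type u} [CommRing R]

theorem flat_fromSpecResidueField [IsDomain R] (η : Spec (CommRingCat.of R)) (hη : η.asIdeal = ⊥) :
    Flat ((Spec (CommRingCat.of R)).fromSpecResidueField η) := by
  obtain rfl : η = (⟨⊥, Ideal.isPrime_bot⟩ : PrimeSpectrum R) := PrimeSpectrum.ext hη
  have h := Scheme.Spec.map_residueFieldIso_inv_eq_fromSpecResidueField (CommRingCat.of R)
    (⟨⊥, Ideal.isPrime_bot⟩ : PrimeSpectrum R)
  rw [← h]
  have h1 : Flat (Spec.map (CommRingCat.ofHom (algebraMap R (⊥ : Ideal R).ResidueField))) := by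
    rw [Flat.SpecMap_iff, CommRingCat.hom_ofHom, RingHom.flat_algebraMap_iff]
    exact IsLocalization.flat _ (nonZeroDivisors R)
  exact MorphismProperty.comp_mem _ _ _ inferInstance h1

theorem flat_of_dominant [IsDedekindDomain R] (η : Spec (CommRingCat.of R)) (hη : η.asIdeal = ⊥)
    {X Y : Scheme.{u}} (t : X ⟶ Y) [QuasiCompact t] [IsSchemeTheoreticallyDominant t]
    (q : Y ⟶ Spec (CommRingCat.of R)) (p : X ⟶ Spec ((Spec (CommRingCat.of R)).residueField η))
    (h : t ≫ q = p ≫ (Spec (CommRingCat.of R)).fromSpecResidueField η) : Flat q := by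
  obtain rfl : η = (⟨⊥, Ideal.isPrime_bot⟩ : PrimeSpectrum R) := PrimeSpectrum.ext hη
  rw [← Scheme.Spec.map_residueFieldIso_inv_eq_fromSpecResidueField (CommRingCat.of R)
    (⟨⊥, Ideal.isPrime_bot⟩ : PrimeSpectrum R), ← Category.assoc] at h
  exact K491.Closure.flat_of_schemeDominant (K := (⊥ : Ideal R).ResidueField) t q _ h

/-- Over a Dedekind domain, if the restriction to some fibre is nef so is the restriction to the generic fibre. -/
theorem nef_generic_fiber [IsDedekindDomain R] {X : Scheme.{u}} (p : X ⟶ Spec (CommRingCat.of R)) [IsProper p]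
    (L : X.Modules) (hL : PicF.IsInvertible L) (c η : Spec (CommRingCat.of R)) (hη : η.asIdeal = ⊥)
    (hnef : Nef (k := (Spec (CommRingCat.of R)).residueField c) (p.fiberToSpecResidueField c)
      ((Scheme.Modules.pullback (p.fiberι c)).obj L)) :
    Nef (k := (Spec (CommRingCat.of R)).residueField η) (p.fiberToSpecResidueField η)
      ((Scheme.Modules.pullback (p.fiberι η)).obj L) := by
  intro C hC hdim
  have hflat : Flat ((Spec (CommRingCat.of R)).fromSpecResidueField η) := flat_fromSpecResidueField η hη
  have hfp0 : IsProper (p.fiberToSpecResidueField η) := isProper_fib p η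
  let j : C.subscheme ⟶ X := C.subschemeι ≫ p.fiberι η
  have hj : j ≫ p = (C.subschemeι ≫ p.fiberToSpecResidueField η) ≫
      (Spec (CommRingCat.of R)).fromSpecResidueField η := by
    simp only [j, Category.assoc, (isPullback_fib p η).w]
  have hcl : IsClosedImmersion (pullback.lift j (C.subschemeι ≫ p.fiberToSpecResidueField η) hj) := by
    have : pullback.lift j (C.subschemeι ≫ p.fiberToSpecResidueField η) hj = C.subschemeι := by
      apply pullback.hom_ext
      · rw [pullback.lift_fst]
        rfl
      · rw [pullback.lift_snd]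
        rfl
    rw [this]
    exact (inferInstance : IsClosedImmersion C.subschemeι)
  have hpb := K491.Closure.isPullback_image ((Spec (CommRingCat.of R)).fromSpecResidueField η) p
    (C.subschemeι ≫ p.fiberToSpecResidueField η) j hj
  have hqc' : QuasiCompact (p.fiberι η) :=
    MorphismProperty.of_isPullback (P := @QuasiCompact) (isPullback_fib p η).flip inferInstance
  have hqc : QuasiCompact j := inferInstanceAs (QuasiCompact (C.subschemeι ≫ p.fiberι η))
  have hdom : IsSchemeTheoreticallyDominant j.toImage := Sga3C.SchemImage.dominant_toImage j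
  let f : j.image ⟶ Spec (CommRingCat.of R) := j.imageι ≫ p
  have hfp : IsProper f := inferInstance
  have hff : Flat f := flat_of_dominant η hη j.toImage f _ hpb.w
  have hlfp : LocallyOfFinitePresentation f := lfp_of_lft f
  have hpb' : IsPullback j.toImage (C.subschemeι ≫ p.fiberToSpecResidueField η) f
      (Spec.map (𝟙 _) ≫ (Spec (CommRingCat.of R)).fromSpecResidueField η) := by
    rw [Spec.map_id, Category.id_comp]
    exact hpb
  obtain ⟨h1, h2⟩ := dg_eq_dgFib f η (K := (Spec (CommRingCat.of R)).residueField η) (𝟙 _) hpb'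
    ((Scheme.Modules.pullback j.imageι).obj L) (Fdesc.LocGen.isInvertible_pullback _ hL)
  have hη : ∀ s : Spec (CommRingCat.of R), η ⤳ s := fun s =>
    (PrimeSpectrum.le_iff_specializes _ _).mp (by rw [← PrimeSpectrum.asIdeal_le_asIdeal, hη]; exact bot_le)
  have h3 : topologicalKrullDim (f.fiber η) ≤ 1 := by
    rw [← h2, topologicalKrullDim_subscheme, hdim]
  have h4 := dim_fiber_le f η hη 1 h3 c
  have h5 := dgFib_nonneg j.imageι p L hL c hnef h4
  have h6 := dg_fiber_eq f ((Scheme.Modules.pullback j.imageι).obj L) (Fdesc.LocGen.isInvertible_pullback _ hL) η c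
  have h7 : 0 ≤ dg (k := (Spec (CommRingCat.of R)).residueField η) (C.subschemeι ≫ p.fiberToSpecResidueField η)
      ((Scheme.Modules.pullback j.toImage).obj ((Scheme.Modules.pullback j.imageι).obj L)) := by
    rw [h1, h6]
    exact h5
  refine h7.trans_eq (dg_congr _ ?_)
  exact (Scheme.Modules.pullbackComp _ _).app L ≪≫
    (Scheme.Modules.pullbackCongr (Scheme.Hom.toImage_imageι j)).app L ≪≫
    (Scheme.Modules.pullbackComp _ _).symm.app L

end Dedekind

section Field

theorem dg_str {k : Type u} [Field k] {D : Scheme.{u}} {s s' : D ⟶ Spec (CommRingCat.of k)} (h : s = s')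
    (L : D.Modules) : dg s L = dg s' L := by rw [h]

/-- A nef family over a scheme of finite type over a field: the degree on the generic fibre is nonnegative. -/
theorem dgFib_generic_nonneg {k : Type u} [Field k] {B : Type u} [CommRing B] [IsDomain B] [Algebra k B]
    [Algebra.FiniteType k B] {X N : Scheme.{u}} (s : X ⟶ Spec (CommRingCat.of k)) [IsProper s]
    (L : X.Modules) (hL : PicF.IsInvertible L) (hnef : Nef s L) (q : N ⟶ Spec (CommRingCat.of B)) [IsProper q] [Flat q]
    (a : N ⟶ X) (ha : a ≫ s = q ≫ Spec.map (CommRingCat.ofHom (algebraMap k B)))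
    (η : Spec (CommRingCat.of B)) (hη : η.asIdeal = ⊥) (hdim : topologicalKrullDim (q.fiber η) ≤ 1) :
    0 ≤ dgFib q ((Scheme.Modules.pullback a).obj L) η := by
  have hBN : IsNoetherianRing B := Algebra.FiniteType.isNoetherianRing k B
  have hη' : ∀ s : Spec (CommRingCat.of B), η ⤳ s := fun s =>
    (PrimeSpectrum.le_iff_specializes _ _).mp (by rw [← PrimeSpectrum.asIdeal_le_asIdeal, hη]; exact bot_le)
  have hlfp : LocallyOfFinitePresentation q := lfp_of_lft q
  have hft : LocallyOfFiniteType (Spec.map (CommRingCat.ofHom (algebraMap k B))) := by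
    rw [HasRingHomProperty.Spec_iff (P := @LocallyOfFiniteType), CommRingCat.hom_ofHom,
      RingHom.finiteType_algebraMap]
    infer_instance
  obtain ⟨m, hm⟩ := Ideal.exists_maximal B
  let t : Spec (CommRingCat.of B) := (⟨m, hm.isPrime⟩ : PrimeSpectrum B)
  have ht : IsClosed ({t} : Set (Spec (CommRingCat.of B))) :=
    (PrimeSpectrum.isClosed_singleton_iff_isMaximal (⟨m, hm.isPrime⟩ : PrimeSpectrum B)).mpr hm
  have hJ : JacobsonSpace (Spec (CommRingCat.of B)) :=
    LocallyOfFiniteType.jacobsonSpace (Spec.map (CommRingCat.ofHom (algebraMap k B)))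
  have hlt : LocallyOfFiniteType ((Spec (CommRingCat.of B)).fromSpecResidueField t) :=
    isClosed_singleton_iff_locallyOfFiniteType.mp ht
  obtain ⟨φ, hφ⟩ := Spec.map_surjective ((Spec (CommRingCat.of B)).fromSpecResidueField t ≫
    Spec.map (CommRingCat.ofHom (algebraMap k B)))
  have hfin : IsFinite (Spec.map φ) := by
    rw [hφ]
    exact isFinite_iff_locallyOfFiniteType_of_jacobsonSpace.mpr inferInstance
  let : Algebra k ((Spec (CommRingCat.of B)).residueField t) := φ.hom.toAlgebra
  have hfinm : Module.Finite k ((Spec (CommRingCat.of B)).residueField t) :=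
    (IsFinite.SpecMap_iff φ).mp hfin
  have hqt : IsProper (q.fiberToSpecResidueField t) := isProper_fib q t
  let r : q.fiber t ⟶ X := q.fiberι t ≫ a
  have hr : r ≫ s = q.fiberToSpecResidueField t ≫ Spec.map φ := by
    rw [hφ, Category.assoc, ha, ← Category.assoc, (isPullback_fib q t).w, Category.assoc]
  have hpr : IsProper (r ≫ s) := by
    rw [hr]
    infer_instance
  have hdt := dim_fiber_le q η hη' 1 hdim t
  have h1 := dg_nonneg_of_dim_one (r ≫ s) hdt _ (Fdesc.LocGen.isInvertible_pullback r hL) (hnef.pullback hL r)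
  have h2 := dg_restrict k ((Spec (CommRingCat.of B)).residueField t) (q.fiberToSpecResidueField t)
    ((Scheme.Modules.pullback r).obj L)
  have h3 : dg (r ≫ s) ((Scheme.Modules.pullback r).obj L) = _ := (dg_str hr _).trans h2
  rw [h3] at h1
  have h4 : (0 : ℤ) < (Module.finrank k ((Spec (CommRingCat.of B)).residueField t) : ℤ) := by
    exact_mod_cast Module.finrank_pos
  have h5 := nonneg_of_mul_nonneg_right h1 h4
  have h6 : dg (k := (Spec (CommRingCat.of B)).residueField t) (q.fiberToSpecResidueField t)
      ((Scheme.Modules.pullback r).obj L) = dgFib q ((Scheme.Modules.pullback a).obj L) t :=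
    dg_congr (k := (Spec (CommRingCat.of B)).residueField t) _ ((Scheme.Modules.pullbackComp _ _).symm.app L)
  rw [dg_fiber_eq q ((Scheme.Modules.pullback a).obj L) (Fdesc.LocGen.isInvertible_pullback _ hL) η t, ← h6]
  exact h5

/-- Nefness is invariant under extension of the base field. -/
theorem nef_bc (k K : Type u) [Field k] [Field K] [Algebra k K] {X : Scheme.{u}} (s : X ⟶ Spec (CommRingCat.of k))
    [IsProper s] (L : X.Modules) (hL : PicF.IsInvertible L) (hnef : Nef s L) :
    Nef (pullback.snd s (Spec.map (CommRingCat.ofHom (algebraMap k K))))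
      ((Scheme.Modules.pullback (pullback.fst s (Spec.map (CommRingCat.ofHom (algebraMap k K))))).obj L) := by
  intro C hC hdim
  have hs' : IsProper (pullback.snd s (Spec.map (CommRingCat.ofHom (algebraMap k K)))) := inferInstance
  have hN' : IsLocallyNoetherian (pullback s (Spec.map (CommRingCat.ofHom (algebraMap k K)))) :=
    LocallyOfFiniteType.isLocallyNoetherian (pullback.snd s (Spec.map (CommRingCat.ofHom (algebraMap k K))))
  let h : C.subscheme ⟶ Spec (CommRingCat.of K) :=
    C.subschemeι ≫ pullback.snd s (Spec.map (CommRingCat.ofHom (algebraMap k K)))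
  let G : Over (Spec (CommRingCat.of k)) := Over.mk s
  have hG1 : LocallyOfFinitePresentation G.hom := lfp_of_lft s
  have hG2 : QuasiCompact G.hom := (inferInstance : QuasiCompact s)
  have hG3 : QuasiSeparated G.hom := (inferInstance : QuasiSeparated s)
  let H : Over (Spec (CommRingCat.of K)) := Over.mk h
  let i : H ⟶ Red.bc (K412.Tower.sp (algebraMap k K)) G := Over.homMk C.subschemeι rfl
  have hi1 : IsClosedImmersion i.left := (inferInstance : IsClosedImmersion C.subschemeι)
  have hi2 : LocallyOfFinitePresentation i.left := lfp_of_lft C.subschemeι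
  have hi3 : Flat H.hom := (inferInstance : Flat h)
  obtain ⟨B, hB, N, ν, e, hν, -, hNf, -, hpb, hcomp⟩ := K412.Model.exists_scheme G H i
  have hBft : Algebra.FiniteType k B := (Subalgebra.fg_iff_finiteType B).mp hB
  have hNh : N.hom = ν.left ≫ pullback.snd s (K412.Tower.sp (algebraMap k B)) := (Over.w ν).symm
  have hNp : IsProper N.hom := by
    rw [hNh]
    have : IsClosedImmersion ν.left := hν
    exact MorphismProperty.comp_mem _ ν.left (pullback.snd s (K412.Tower.sp (algebraMap k B)))
      inferInstance inferInstance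
  let a : N.left ⟶ X := ν.left ≫ pullback.fst s (K412.Tower.sp (algebraMap k B))
  have ha : a ≫ s = N.hom ≫ Spec.map (CommRingCat.ofHom (algebraMap k B)) := by
    rw [hNh]
    simp only [a, Category.assoc]
    rw [pullback.condition]
  let g : Spec (CommRingCat.of K) ⟶ Spec (CommRingCat.of B) := K412.Tower.sp (algebraMap B K)
  let η : Spec (CommRingCat.of B) := g (IsLocalRing.closedPoint K)
  have hη : η.asIdeal = ⊥ := by
    change Ideal.comap (algebraMap B K) (IsLocalRing.closedPoint K).asIdeal = ⊥
    have h1 : (IsLocalRing.closedPoint K).asIdeal = (⊥ : Ideal K) :=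
      IsLocalRing.maximalIdeal_eq_bot
    rw [h1, ← RingHom.ker_eq_comap_bot, RingHom.ker_eq_bot_iff_eq_zero]
    intro x hx
    exact Subtype.ext hx
  have hpb' : IsPullback e h N.hom (Spec.map (Scheme.descResidueField (Scheme.stalkClosedPointTo g)) ≫
      (Spec (CommRingCat.of B)).fromSpecResidueField η) := by
    rw [Scheme.descResidueField_stalkClosedPointTo_fromSpecResidueField K (Spec (CommRingCat.of B)) g]
    exact hpb
  obtain ⟨h1, h2⟩ := dg_eq_dgFib N.hom η _ hpb' ((Scheme.Modules.pullback a).obj L)
    (Fdesc.LocGen.isInvertible_pullback _ hL)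
  have h3 : topologicalKrullDim (N.hom.fiber η) ≤ 1 := by
    rw [← h2]
    exact ((topologicalKrullDim_subscheme C).trans hdim).le
  have h4 := dgFib_generic_nonneg s L hL hnef N.hom a ha η hη h3
  rw [← h1] at h4
  refine h4.trans_eq (dg_congr _ ?_)
  have hc : e ≫ a = C.subschemeι ≫ pullback.fst s (Spec.map (CommRingCat.ofHom (algebraMap k K))) := hcomp
  exact (Scheme.Modules.pullbackComp _ _).app L ≪≫
    (Scheme.Modules.pullbackCongr hc).app L ≪≫
    (Scheme.Modules.pullbackComp _ _).symm.app L

end Field

end K432.NefFam
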