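import Mathlib.AlgebraicGeometry.Morphisms.FiniteType
import Mathlib.AlgebraicGeometry.Noetherian
import Mathlib.RingTheory.Algebraic.LinearIndependent
import Mathlib.LinearAlgebra.Dimension.Finite
import Mathlib.RingTheory.MvPolynomial
import Mathlib.RingTheory.Jacobson.Ring
import Mathlib.RingTheory.Algebraic.Integral
import Mathlib.Data.Finsupp.Encodable
import Mathlib.RingTheory.Localization.Away.Basic

/-!
# Countably many closed subsets of a variety over an uncountable field

If `k` is an uncountable field and `X` an irreducible `k`-scheme locally of finite type, then countably many closed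
subsets different from `X` do not cover the closed points of any nonempty open subset.
-/

set_option autoImplicit false
universe u

open AlgebraicGeometry CategoryTheory TopologicalSpace

namespace K432.CountClosed

open Cardinal in
/-- A field which is a countably generated algebra over an uncountable field is algebraic over it. -/
theorem isAlgebraic_of_surjective {k K σ : Type u} [Field k] [Uncountable k] [Field K] [Algebra k K]
    [Countable σ] (φ : MvPolynomial σ k →ₐ[k] K) (hφ : Function.Surjective φ) : Algebra.IsAlgebraic k K := by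
  by_contra hna
  obtain ⟨x, hx⟩ : ∃ x : K, Transcendental k x := by
    by_contra h
    exact hna ⟨fun x => by
      by_contra hx
      exact h ⟨x, hx⟩⟩
  have h1 := hx.linearIndependent_sub_inv.cardinal_le_rank
  have h2 : Module.rank k K ≤ Module.rank k (MvPolynomial σ k) :=
    φ.toLinearMap.rank_le_of_surjective hφ
  have h3 : Module.rank k (MvPolynomial σ k) ≤ ℵ₀ := by
    have hc : Countable (σ →₀ ℕ) := inferInstance
    rw [MvPolynomial.rank_eq]
    exact Cardinal.mk_le_aleph0
  have h4 : #k ≤ ℵ₀ := h1.trans (h2.trans h3)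
  have h5 : Countable k := Cardinal.mk_le_aleph0_iff.mp h4
  exact not_countable h5

/-- Over an uncountable field: in a finite type algebra whose nilradical is prime, countably many non-nilpotent
elements are all avoided by some maximal ideal. -/
theorem exists_isMaximal {k A : Type u} [Field k] [Uncountable k] [CommRing A] [Algebra k A]
    [Algebra.FiniteType k A] (hA : (nilradical A).IsPrime) (f : ℕ → A) (hf : ∀ n, ¬ IsNilpotent (f n)) :
    ∃ m : Ideal A, m.IsMaximal ∧ ∀ n, f n ∉ m := by
  classical
  let S : Submonoid A := Submonoid.closure (Set.range f)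
  have hS : S ≤ (nilradical A).primeCompl := by
    rw [Submonoid.closure_le]
    rintro _ ⟨n, rfl⟩
    exact hf n
  let B := Localization S
  have h0 : (0 : A) ∉ S := fun h => hS h (zero_mem _)
  have hB : Nontrivial B := (IsLocalization.toLocalizationMap S B).nontrivial h0
  obtain ⟨M, hM⟩ := Ideal.exists_maximal B
  let K := B ⧸ M
  let _ : Field K := Ideal.Quotient.field M
  obtain ⟨n, g, hg⟩ := Algebra.FiniteType.iff_quotient_mvPolynomial''.mp (inferInstance : Algebra.FiniteType k A)
  -- the generators of `B`
  have hfu : ∀ i, IsUnit (algebraMap A B (f i)) := fun i =>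
    IsLocalization.map_units B (⟨f i, Submonoid.subset_closure ⟨i, rfl⟩⟩ : S)
  let φ : MvPolynomial (ULift.{u} (Fin n ⊕ ℕ)) k →ₐ[k] B :=
    MvPolynomial.aeval fun x => Sum.elim (fun i => algebraMap A B (g (MvPolynomial.X i)))
      (fun i => ((hfu i).unit⁻¹ : Bˣ).val) x.down
  have hA' : ∀ a : A, algebraMap A B a ∈ φ.range := by
    intro a
    obtain ⟨p, rfl⟩ := hg a
    refine ⟨MvPolynomial.rename (fun i => ⟨Sum.inl i⟩) p, ?_⟩
    have : (φ.comp (MvPolynomial.rename (fun i => (⟨Sum.inl i⟩ : ULift.{u} (Fin n ⊕ ℕ))))) =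
        (IsScalarTower.toAlgHom k A B).comp g := by
      apply MvPolynomial.algHom_ext
      intro i
      simp [φ]
    exact congr($this p)
  have hinv : ∀ s : S, ∃ b ∈ φ.range, algebraMap A B s * b = 1 := by
    rintro ⟨s, hs⟩
    induction hs using Submonoid.closure_induction with
    | mem x hx =>
      obtain ⟨i, rfl⟩ := hx
      refine ⟨((hfu i).unit⁻¹ : Bˣ).val, ⟨MvPolynomial.X ⟨Sum.inr i⟩, by simp [φ]⟩, ?_⟩
      exact (hfu i).mul_val_inv
    | one => exact ⟨1, one_mem _, by simp⟩
    | mul x y hx hy h1 h2 =>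
      obtain ⟨b, hb, hb'⟩ := h1
      obtain ⟨c, hc, hc'⟩ := h2
      refine ⟨b * c, mul_mem hb hc, ?_⟩
      simp only [map_mul] at hb' hc' ⊢
      calc algebraMap A B x * algebraMap A B y * (b * c)
          = (algebraMap A B x * b) * (algebraMap A B y * c) := by ring
        _ = 1 := by rw [hb', hc', one_mul]
  have hφ : Function.Surjective φ := by
    intro b
    obtain ⟨⟨a, s⟩, h⟩ := IsLocalization.surj S b
    obtain ⟨c, hc, hc'⟩ := hinv s
    have : b = algebraMap A B a * c := by
      rw [← h]
      calc b = b * (algebraMap A B s * c) := by rw [hc', mul_one]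
        _ = _ := by ring
    have h2 : b ∈ φ.range := by
      rw [this]
      exact mul_mem (hA' a) hc
    exact h2
  have halg : Algebra.IsAlgebraic k K :=
    isAlgebraic_of_surjective ((Ideal.Quotient.mkₐ k M).comp φ)
      ((Ideal.Quotient.mk_surjective (I := M)).comp hφ)
  let ψ : A →ₐ[k] K := (Ideal.Quotient.mkₐ k M).comp (IsScalarTower.toAlgHom k A B)
  have hfield : IsField ψ.range := Subalgebra.isField_of_algebraic ψ.range
  let _ : Field ψ.range := hfield.toField
  refine ⟨RingHom.ker ψ.rangeRestrict.toRingHom,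
    RingHom.ker_isMaximal_of_surjective _ ψ.rangeRestrict_surjective, fun i hi => ?_⟩
  have h1 : ψ (f i) = 0 := by
    have := congrArg Subtype.val (show ψ.rangeRestrict (f i) = 0 from hi)
    exact this
  have h2 : algebraMap A B (f i) ∈ M := Ideal.Quotient.eq_zero_iff_mem.mp h1
  exact hM.ne_top (Ideal.eq_top_of_isUnit_mem _ h2 (hfu i))

/-- Over an uncountable field: countably many closed subsets different from an irreducible scheme locally of finite
type do not cover the closed points of any nonempty open. -/
theorem exists_isClosed_mem {k : Type u} [Field k] [Uncountable k] {X : Scheme.{u}}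
    (sX : X ⟶ Spec (CommRingCat.of k)) [IrreducibleSpace X] [LocallyOfFiniteType sX]
    (Z : ℕ → TopologicalSpace.Closeds X) (hZ : ∀ n, (Z n : Set X) ≠ Set.univ)
    (U : X.Opens) (hU : (U : Set X).Nonempty) :
    ∃ x : X, x ∈ U ∧ IsClosed ({x} : Set X) ∧ ∀ n, x ∉ Z n := by
  obtain ⟨x₀, hx₀⟩ := hU
  obtain ⟨_, ⟨W, hW : IsAffineOpen W, rfl⟩, hxW, hWU⟩ :=
    X.isBasis_affineOpens.exists_subset_of_mem_open hx₀ U.2
  let A := Γ(X, W)
  -- the algebra structure
  let φ : k →+* A := (sX.appLE ⊤ W le_top).hom.comp (Scheme.ΓSpecIso (CommRingCat.of k)).inv.hom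
  let _ : Algebra k A := φ.toAlgebra
  have hft : Algebra.FiniteType k A := by
    have h1 : (sX.appLE ⊤ W le_top).hom.FiniteType :=
      sX.finiteType_appLE (isAffineOpen_top _) hW _
    have h2 : φ.FiniteType := h1.comp (RingHom.FiniteType.of_surjective _
      (ConcreteCategory.bijective_of_isIso (Scheme.ΓSpecIso (CommRingCat.of k)).inv).2)
    exact h2
  -- the nilradical is prime
  have hne : Nonempty (Spec Γ(X, W)) := by
    obtain ⟨y, -⟩ : x₀ ∈ hW.fromSpec.opensRange := by rw [hW.opensRange_fromSpec]; exact hxW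
    exact ⟨y⟩
  have hirr : IrreducibleSpace (PrimeSpectrum A) :=
    hW.fromSpec.isOpenEmbedding.irreducibleSpace
  have hnil : (nilradical A).IsPrime := PrimeSpectrum.irreducibleSpace_iff_isPrime_nilradical.mp hirr
  have hf : ∀ n, ∃ f : A, ¬ IsNilpotent f ∧ Disjoint (X.basicOpen f : Set X) (Z n) := by
    intro n
    obtain ⟨y, hyW, hyZ⟩ : ∃ y ∈ W, y ∉ Z n := by
      by_contra h
      push Not at h
      have h1 : closure (W : Set X) ⊆ Z n := closure_minimal h (Z n).isClosed
      have h2 : Dense (W : Set X) := W.2.dense ⟨x₀, hxW⟩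
      rw [h2.closure_eq] at h1
      exact hZ n (Set.eq_univ_of_univ_subset h1)
    obtain ⟨f, hf, hyf⟩ := hW.exists_basicOpen_le (V := (Z n).compl) ⟨y, hyZ⟩ hyW
    refine ⟨f, fun hn => ?_, ?_⟩
    · have := (Scheme.isNilpotent_iff_basicOpen_eq_bot_of_isCompact hW.isCompact f).mp hn
      rw [this] at hyf
      exact hyf
    · rw [Set.disjoint_left]
      intro z hz
      exact hf hz
  choose f hfn hfZ using hf
  obtain ⟨m, hm, hfm⟩ := exists_isMaximal (k := k) hnil f hfn
  let z : PrimeSpectrum A := ⟨m, hm.isPrime⟩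
  have hJ : JacobsonSpace X := LocallyOfFiniteType.jacobsonSpace sX
  refine ⟨hW.fromSpec z, hWU ?_, ?_, fun n hn => ?_⟩
  · have : hW.fromSpec z ∈ hW.fromSpec.opensRange := ⟨z, rfl⟩
    rw [hW.opensRange_fromSpec] at this
    exact this
  · have h1 : z ∈ closedPoints (PrimeSpectrum A) := by
      rw [mem_closedPoints_iff, PrimeSpectrum.isClosed_singleton_iff_isMaximal]
      exact hm
    have h2 := (hW.fromSpec.isOpenEmbedding).preimage_closedPoints
    have h3 : z ∈ (hW.fromSpec) ⁻¹' closedPoints X := by
      rw [h2]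
      exact h1
    exact h3
  · have h1 : hW.fromSpec z ∈ X.basicOpen (f n) := by
      have : z ∈ hW.fromSpec ⁻¹ᵁ X.basicOpen (f n) := by
        rw [hW.fromSpec_preimage_basicOpen]
        exact hfm n
      exact this
    exact Set.disjoint_left.mp (hfZ n) h1 hn

end K432.CountClosed
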