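import Groth.Agent.Variety.K432.ProperGrowth
import Groth.Agent.VarietyB.DegCartier
import Groth.Agent.Variety.K424.PushLenZ
import Groth.Agent.CohqB.QC6
import Groth.Prelude.Def_EGA4Misc

/-!
# Bigness (`h⁰(L^n) > c n^d`) on proper schemes: ideals of small subschemes, birational maps

* `eventually_phi_le`: `C phi d n ≤ c n^d` for large `n`.
* `BigD k X d L`: the growth condition; `exists_sections_ideal`: sections vanishing on `Z`, `dim Z < d`.
* `notMem_support_cokernel_toPush`: for `f` birational and proper, `coker (O_X ⟶ f_* O_Y)` vanishes at the generic point.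
-/

set_option autoImplicit false
universe u
open CategoryTheory CategoryTheory.Limits AlgebraicGeometry Opposite TopologicalSpace

namespace K432.BigBir

open Groth.Agent Groth.Agent.Ega2 Groth.Agent.Grpsch.PicGrp K433.Hq Groth.Agent.Fdesc.LocGen
open Groth.Agent.Fga.PicMon Groth.Agent.CohqB.SerTw K432.ProperGrowth

theorem eventually_phi_le (C d : ℕ) {c : ℝ} (hc : 0 < c) :
    ∀ᶠ n : ℕ in Filter.atTop, ((C * K433.Growth.phi d n : ℕ) : ℝ) ≤ c * (n : ℝ) ^ d := by
  cases d with
  | zero =>
    refine Filter.Eventually.of_forall fun n => ?_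
    rw [K433.Growth.phi_zero]
    simpa using hc.le
  | succ e =>
    obtain ⟨N, hN⟩ := exists_nat_ge ((C : ℝ) * 2 ^ e / c)
    refine Filter.eventually_atTop.mpr ⟨max 1 N, fun n hn => ?_⟩
    have h1 : 1 ≤ n := (le_max_left _ _).trans hn
    have h2 : (C : ℝ) * 2 ^ e / c ≤ n := hN.trans (by exact_mod_cast (le_max_right _ _).trans hn)
    rw [div_le_iff₀ hc] at h2
    rw [K433.Growth.phi_succ]
    have h3 : ((n : ℝ) + 1) ^ e ≤ (2 * n) ^ e := by
      refine pow_le_pow_left₀ (by positivity) ?_ e
      have : (1 : ℝ) ≤ n := by exact_mod_cast h1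
      linarith
    push_cast
    calc (C : ℝ) * ((n : ℝ) + 1) ^ e ≤ C * (2 * n) ^ e := mul_le_mul_of_nonneg_left h3 (by positivity)
      _ = (C * 2 ^ e) * n ^ e := by rw [mul_pow]; ring
      _ ≤ (n * c) * n ^ e := mul_le_mul_of_nonneg_right h2 (by positivity)
      _ = c * (n : ℝ) ^ (e + 1) := by ring

section ideal

variable (k : Type u) [Field k] {X : Scheme.{u}} [X.Over (Spec (CommRingCat.of k))]
  [IsProper (X ↘ Spec (CommRingCat.of k))]

theorem exists_sections_ideal (d : ℕ) (L : X.Modules) (hL : PicF.IsInvertible L)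
    (hbig : ∃ c : ℝ, 0 < c ∧ ∀ᶠ n : ℕ in Filter.atTop,
      c * (n : ℝ) ^ d < (Module.finrank k (Coh.HH X (CohB1.tensorPow L n) 0) : ℝ))
    (Z : X.IdealSheafData) (hZ : topologicalKrullDim (Z.support : Set X) < d) :
    ∃ m : ℕ, 0 < m ∧
      Nontrivial (Coh.HH X (CohB1.tensorMod (ClSub.idealMod Z) (CohB1.tensorPow L m)) 0) := by
  by_contra hno
  push Not at hno
  have hNX : IsLocallyNoetherian X := LocallyOfFiniteType.isLocallyNoetherian (X ↘ Spec (CommRingCat.of k))
  have hzero : ∀ m, 0 < m → hq k 0 (ClSub.idealMod Z) (mk L hL ^ m) = 0 := by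
    intro m hm
    rw [← K433.Growth.hq_tensorPow]
    exact hh_of_subsingleton k (hno m hm)
  obtain ⟨C, hC⟩ := growth_lt k (mk L hL) (VarietyB.DegCartier.isCoh_quotMod Z) (d := d)
    (lt_of_le_of_lt (Fga.DimLt.topologicalKrullDim_mono (VarietyB.DegCartier.support_quotMod_subset Z)) hZ)
  obtain ⟨c, hc, hev⟩ := hbig
  obtain ⟨n, h1, h2, h3⟩ := (hev.and ((eventually_phi_le C d hc).and (Filter.eventually_gt_atTop 0))).exists
  have h4 : Module.finrank k (Coh.HH X (CohB1.tensorPow L n) 0) ≤ C * K433.Growth.phi d n := by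
    have h5 := hq_mid_le k (VarietyB.DegCartier.idealSeq_shortExact Z) (VarietyB.DegCartier.isCoh_idealMod Z)
      (CurvesB.UnitCoh.isCoh_structureModule X) (VarietyB.DegCartier.isCoh_quotMod Z) 0 (mk L hL ^ n)
    have h6 : hq k 0 (VarietyB.DegCartier.idealSeq Z).X₁ (mk L hL ^ n) = 0 := hzero n h3
    have h7 : hq k 0 (VarietyB.DegCartier.idealSeq Z).X₂ (mk L hL ^ n) =
        Module.finrank k (Coh.HH X (CohB1.tensorPow L n) 0) := (K433.Growth.hh_tensorPow k 0 hL n).symm
    have h8 : hq k 0 (VarietyB.DegCartier.idealSeq Z).X₃ (mk L hL ^ n) ≤ C * K433.Growth.phi d n := hC n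
    rw [h6, h7, zero_add] at h5
    exact h5.trans h8
  have h5 : (Module.finrank k (Coh.HH X (CohB1.tensorPow L n) 0) : ℝ) ≤ ((C * K433.Growth.phi d n : ℕ) : ℝ) := by
    exact_mod_cast h4
  exact absurd (h1.trans_le (h5.trans h2)) (lt_irrefl _)

end ideal

section bir

variable {X Y : Scheme.{u}}

theorem map_genericPoint_of_isBirational [IsIntegral X] [IsIntegral Y] {f : Y ⟶ X} (hbir : RadPt.IsBirational f) :
    f (genericPoint Y) = genericPoint X := by
  have h := hbir.1.1
  rw [genericPoints_eq_singleton, genericPoints_eq_singleton] at h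
  exact h rfl

theorem residueDegree_of_isBirational [IsIntegral X] [IsIntegral Y] {f : Y ⟶ X} (hbir : RadPt.IsBirational f) :
    f.residueDegree (genericPoint Y) = 1 := by
  have h1 : genericPoint X ∈ genericPoints X := by rw [genericPoints_eq_singleton]; rfl
  have h2 := (hbir.2 _ h1).2 _ (map_genericPoint_of_isBirational hbir)
  rw [Scheme.Hom.residueDegree]
  algebraize [(f.residueFieldMap (genericPoint Y)).hom]
  exact (LinearEquiv.ofBijective (Algebra.linearMap _ _) h2).finrank_eq.symm.trans (Module.finrank_self _)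

theorem notMem_support_cokernel_toPush (k : Type u) [Field k] [X.Over (Spec (CommRingCat.of k))]
    [Y.Over (Spec (CommRingCat.of k))] [LocallyOfFiniteType (X ↘ Spec (CommRingCat.of k))]
    [LocallyOfFiniteType (Y ↘ Spec (CommRingCat.of k))] [IsIntegral X] [IsIntegral Y] (f : Y ⟶ X) [IsProper f]
    (hf : f ≫ (X ↘ (Spec (CommRingCat.of k))) = Y ↘ (Spec (CommRingCat.of k)))
    (hbir : RadPt.IsBirational f) (d : ℕ) (hdimX : topologicalKrullDim X = d) (hdimY : topologicalKrullDim Y = d)
    [Mono (CohqA.DevSub.toPush f)] :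
    genericPoint X ∉ CohB1.support (cokernel (CohqA.DevSub.toPush f)) := by
  have hξ := map_genericPoint_of_isBirational hbir
  have hcl : topologicalKrullDim (closure ({f (genericPoint Y)} : Set X)) = (d : WithBot ℕ∞) := by
    rw [hξ, genericPoint_closure, ← hdimX]
    exact IsHomeomorph.topologicalKrullDim_eq _ (Homeomorph.Set.univ X).isHomeomorph
  have hlen := K424.PushLenZ.length_push k f hf d hdimY hcl
  rw [hξ, residueDegree_of_isBirational hbir] at hlen
  have hS : (ShortComplex.mk (CohqA.DevSub.toPush f) (cokernel.π (CohqA.DevSub.toPush f))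
      (cokernel.condition _)).ShortExact :=
    { exact := ShortComplex.exact_of_g_is_cokernel _ (cokernelIsCokernel _) }
  have h1 := CycB.StalkExact.length_stalk_shortExact _ hS (genericPoint X)
  have h2 : Module.length (X.presheaf.stalk (genericPoint X))
      ((Coh.structureModule X).presheaf.stalk (genericPoint X)) = 1 := K424.PushLenZ.length_unit_stalk_genericPoint
  rw [CohqB.DevSupport.not_mem_support_iff]
  rw [← Module.length_eq_zero_iff (R := X.presheaf.stalk (genericPoint X))]
  have h3 : (1 : ℕ∞) = 1 + Module.length (X.presheaf.stalk (genericPoint X))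
      ((cokernel (CohqA.DevSub.toPush f)).presheaf.stalk (genericPoint X)) := by
    refine Eq.trans ?_ (h1.trans ?_)
    · exact (hlen.trans Nat.cast_one).symm
    · exact congrArg (· + _) h2
  have h4 : (1 : ℕ∞) + Module.length (X.presheaf.stalk (genericPoint X))
      ((cokernel (CohqA.DevSub.toPush f)).presheaf.stalk (genericPoint X)) = 1 + 0 := by
    rw [add_zero]; exact h3.symm
  exact ENat.add_right_injective_of_ne_top (n := 1) (by simp) h4

theorem big_iff (k : Type u) [Field k] [X.Over (Spec (CommRingCat.of k))] [IsProper (X ↘ (Spec (CommRingCat.of k)))]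
    [IsIntegral X] [Y.Over (Spec (CommRingCat.of k))] [IsProper (Y ↘ (Spec (CommRingCat.of k)))] [IsIntegral Y]
    (f : Y ⟶ X) (hf : f ≫ (X ↘ (Spec (CommRingCat.of k))) = Y ↘ (Spec (CommRingCat.of k)))
    (hbir : RadPt.IsBirational f)
    (d : ℕ) (hdimX : topologicalKrullDim X = d) (hdimY : topologicalKrullDim Y = d)
    (L : X.Modules) (hL : PicF.IsInvertible L) :
    (∃ c : ℝ, 0 < c ∧ ∀ᶠ n : ℕ in Filter.atTop,
        c * (n : ℝ) ^ d < (Module.finrank k (Coh.HH X (CohB1.tensorPow L n) 0) : ℝ)) ↔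
      (∃ c : ℝ, 0 < c ∧ ∀ᶠ n : ℕ in Filter.atTop,
        c * (n : ℝ) ^ d < (Module.finrank k (Coh.HH Y (CohB1.tensorPow ((Scheme.Modules.pullback f).obj L) n) 0) : ℝ)) := by
  have hpf : IsProper f := by
    have : IsProper (f ≫ (X ↘ (Spec (CommRingCat.of k)))) := by rw [hf]; infer_instance
    exact IsProper.of_comp f (X ↘ (Spec (CommRingCat.of k)))
  have hNX : IsLocallyNoetherian X := LocallyOfFiniteType.isLocallyNoetherian (X ↘ Spec (CommRingCat.of k))
  have hdom : IsDominant f := by
    refine ⟨?_⟩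
    rw [DenseRange, dense_iff_closure_eq, ← Set.univ_subset_iff, ← genericPoint_closure (α := X),
      ← map_genericPoint_of_isBirational hbir]
    exact closure_mono (Set.singleton_subset_iff.mpr ⟨_, rfl⟩)
  have hm := mono_toPush f
  have hO : Coh.IsCoh (Coh.structureModule Y) := CurvesB.UnitCoh.isCoh_structureModule Y
  have hOX : Coh.IsCoh (Coh.structureModule X) := CurvesB.UnitCoh.isCoh_structureModule X
  have hP : Coh.IsCoh ((Scheme.Modules.pushforward f).obj (Coh.structureModule Y)) := Fga.HodgePush.isCoh_push f hO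
  have hQ : Coh.IsCoh (cokernel (CohqA.DevSub.toPush f)) :=
    CycB.CohProp.isCoh_of_epi (cokernel.π (CohqA.DevSub.toPush f)) hP
      (CohqB.QC6.isQCoh_cokernel _ hOX.1 hP.1)
  have key : ∀ n : ℕ, hq k 0 ((Scheme.Modules.pushforward f).obj (Coh.structureModule Y)) (mk L hL ^ n) =
      Module.finrank k (Coh.HH Y (CohB1.tensorPow ((Scheme.Modules.pullback f).obj L) n) 0) := by
    intro n
    rw [hq_push k f hf, map_pow, pull_mk]
    exact (K433.Growth.hh_tensorPow k 0 (isInvertible_pullback f hL) n).symm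
  have keyX : ∀ n : ℕ, hq k 0 (Coh.structureModule X) (mk L hL ^ n) =
      Module.finrank k (Coh.HH X (CohB1.tensorPow L n) 0) := fun n => (K433.Growth.hh_tensorPow k 0 hL n).symm
  constructor
  · rintro ⟨c, hc, hev⟩
    refine ⟨c, hc, hev.mono fun n hn => hn.trans_le ?_⟩
    rw [← key n, ← keyX n]
    exact_mod_cast hq_zero_mono k (CohqA.DevSub.toPush f) hP (mk L hL ^ n)
  · rintro ⟨c, hc, hev⟩
    have hlt : topologicalKrullDim (CohB1.support (cokernel (CohqA.DevSub.toPush f))) < d := by
      refine K434.DevIrred.dim_support_lt hQ (A := Set.univ) (ξ := genericPoint X) (genericPoint_closure (α := X)).symm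
        (Set.subset_univ _) (notMem_support_cokernel_toPush k f hf hbir d hdimX hdimY) ?_
      refine lt_of_le_of_lt (IsHomeomorph.topologicalKrullDim_eq _ (Homeomorph.Set.univ X).isHomeomorph).le ?_
      rw [hdimX]
      exact_mod_cast Nat.lt_succ_self d
    obtain ⟨C, hC⟩ := growth_lt k (mk L hL) hQ hlt
    refine ⟨c / 2, half_pos hc, ?_⟩
    filter_upwards [hev, eventually_phi_le C d (half_pos hc)] with n h1 h2
    have hS : (ShortComplex.mk (CohqA.DevSub.toPush f) (cokernel.π (CohqA.DevSub.toPush f))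
        (cokernel.condition _)).ShortExact :=
      { exact := ShortComplex.exact_of_g_is_cokernel _ (cokernelIsCokernel _) }
    have h3 := hq_mid_le k hS hOX hP hQ 0 (mk L hL ^ n)
    have h4 : Module.finrank k (Coh.HH Y (CohB1.tensorPow ((Scheme.Modules.pullback f).obj L) n) 0) ≤
        Module.finrank k (Coh.HH X (CohB1.tensorPow L n) 0) + C * K433.Growth.phi d n := by
      rw [← key n, ← keyX n]
      exact h3.trans (Nat.add_le_add_left (hC n) _)
    have h5 : (Module.finrank k (Coh.HH Y (CohB1.tensorPow ((Scheme.Modules.pullback f).obj L) n) 0) : ℝ) ≤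
        (Module.finrank k (Coh.HH X (CohB1.tensorPow L n) 0) : ℝ) + ((C * K433.Growth.phi d n : ℕ) : ℝ) := by
      exact_mod_cast h4
    linarith

end bir

end K432.BigBir
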