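import Groth.Agent.Variety.K432.PBun
import Groth.Agent.Variety.K432.NefBasic

/-!
# Nefness on projective bundles

* `nef_iff_cnef`: the Barton–Kleiman criterion: `O(1)` on `P(E)` is nef if and only if `E` is nef in the curve test.
-/

set_option autoImplicit false
universe u

open AlgebraicGeometry CategoryTheory TopologicalSpace Limits Opposite

namespace K432.PNef

open K432.PBun K432.NefBasic K432.CurveDeg Groth.Agent

variable {k : Type u} [Field k] {X P : Scheme.{u}} {E : X.Modules} {p : P ⟶ X} {O1 : P.Modules}
  {φ : E ⟶ (Scheme.Modules.pushforward p).obj O1}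

/-- **Barton–Kleiman criterion.** -/
theorem nef_iff_cnef (h : IsPBun E p O1 φ) [IsProper p] (s : X ⟶ Spec (CommRingCat.of k)) [IsProper s] :
    Nef (p ≫ s) O1 ↔ CNef s E := by
  constructor
  · intro hn C _ f _ hC M hM q hq
    obtain ⟨r, hr, ⟨τ⟩⟩ := h.exists_of_epi hM q hq
    have hpr : IsProper (r ≫ p ≫ s) := by rw [← Category.assoc, hr]; infer_instance
    have h1 := hn.dg_nonneg h.inv hC r
    rw [dg_congr _ τ] at h1
    have h2 : r ≫ p ≫ s = f ≫ s := by rw [← Category.assoc, hr]
    rw [h2] at h1
    exact h1
  · intro hE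
    rw [nef_iff h.inv]
    intro C _ r _ hC
    have hpr : IsProper ((r ≫ p) ≫ s) := by rw [Category.assoc]; infer_instance
    have hep : Epi h.can := h.epi
    have h2 := hE C (r ≫ p) hC ((Scheme.Modules.pullback r).obj O1) (Fdesc.LocGen.isInvertible_pullback _ h.inv)
      ((Scheme.Modules.pullbackComp r p).inv.app E ≫ (Scheme.Modules.pullback r).map h.can)
      (by
        have := epi_pullback_map r h.can
        exact epi_comp _ _)
    rw [Category.assoc] at h2
    exact h2

end K432.PNef
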