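import Groth.Agent.Variety.K432.PData
import Groth.Agent.Variety.K432.PNef
import Groth.Agent.Dcoh.FTFP

/-!
# The milestone forms of nefness and ampleness of finite locally free modules

* `PNefAll s E`: `O(1)` is nef for all relative Proj data.
* `pnefAll_iff`: this is the curve test.
* `exists_isPBun_of_finLocFree`, `exists_pbun`.
-/

set_option autoImplicit false
universe u

open AlgebraicGeometry CategoryTheory TopologicalSpace Limits Opposite

namespace K432.PStat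

open K432.PBun K432.NefBasic K432.CurveDeg Groth.Agent K432.PData

theorem isFT_of_isFinLocFree {X : Scheme.{u}} {E : X.Modules} (hE : FlatMod.IsFinLocFree E) : CohB1.IsFT E :=
  Dcoh.FTFP.isFT_of_epi_finLocFree hE (𝟙 E)

section

variable {X P : Scheme.{u}} {E : X.Modules}

/-- Relative Proj data of the graded symmetric algebra of a finite locally free module is a projective bundle. -/
theorem exists_isPBun' (hE : FlatMod.IsFinLocFree E) {𝒮 : RelProj.QCGrAlg X} {j : E ⟶ 𝒮.toModule}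
    {p : P ⟶ X} {chart : ∀ (U : X.Opens) (hU : IsAffineOpen U), (((p ⁻¹ᵁ U : P.Opens) : Scheme.{u}) ≅ Proj (𝒮.deg U hU))}
    {O1 : P.Modules} {lam : ∀ (U : X.Opens) (hU : IsAffineOpen U),
      O1 ⟶ (Scheme.Modules.pushforward (RelProj.emb p chart U hU)).obj (GrTwist.twist (𝒮.deg U hU) 1)}
    (hj : RelProj.IsGrSymAlg E 𝒮 j) (hP : RelProj.IsRelProj 𝒮 p chart)
    (hL : RelProj.IsRelTwist 𝒮 p chart 1 O1 lam) :
    IsProper p ∧ ∃ φ : E ⟶ (Scheme.Modules.pushforward p).obj O1, IsPBun E p O1 φ :=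
  exists_isPBun (Ega2.QCohLocal.isQCoh_of_isFinLocFree hE) (isFT_of_isFinLocFree hE) hj hP hL

/-- Existence of the projective bundle with its data. -/
theorem exists_pbun (hE : FlatMod.IsFinLocFree E) :
    ∃ (𝒮 : RelProj.QCGrAlg X) (j : E ⟶ 𝒮.toModule) (P : Scheme.{u}) (p : P ⟶ X)
      (chart : ∀ (U : X.Opens) (hU : IsAffineOpen U),
          (((p ⁻¹ᵁ U : P.Opens) : Scheme.{u}) ≅ Proj (𝒮.deg U hU)))
      (O1 : P.Modules)
      (lam : ∀ (U : X.Opens) (hU : IsAffineOpen U),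
          O1 ⟶ (Scheme.Modules.pushforward (RelProj.emb p chart U hU)).obj (GrTwist.twist (𝒮.deg U hU) 1)),
      RelProj.IsGrSymAlg E 𝒮 j ∧ RelProj.IsRelProj 𝒮 p chart ∧ RelProj.IsRelTwist 𝒮 p chart 1 O1 lam ∧
        IsProper p ∧ ∃ φ : E ⟶ (Scheme.Modules.pushforward p).obj O1, IsPBun E p O1 φ := by
  obtain ⟨𝒮, j, P, p, chart, O1, lam, hj, hP, hL⟩ := exists_data (Ega2.QCohLocal.isQCoh_of_isFinLocFree hE)
  exact ⟨𝒮, j, P, p, chart, O1, lam, hj, hP, hL, exists_isPBun' hE hj hP hL⟩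

/-- Existence of the projective bundle. -/
theorem exists_pbun' (hE : FlatMod.IsFinLocFree E) :
    ∃ (P : Scheme.{u}) (p : P ⟶ X) (O1 : P.Modules) (φ : E ⟶ (Scheme.Modules.pushforward p).obj O1),
      IsProper p ∧ IsPBun E p O1 φ := by
  obtain ⟨-, -, P, p, -, O1, -, -, -, -, h1, φ, h2⟩ := exists_pbun hE
  exact ⟨P, p, O1, φ, h1, h2⟩

end

variable {k : Type u} [Field k] {X : Scheme.{u}} {E : X.Modules}

/-- The milestone form of nefness on `P(E)`. -/
theorem milestone_iff [X.Over (Spec (CommRingCat.of k))] [IsProper (X ↘ (Spec (CommRingCat.of k)))]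
    (hE : FlatMod.IsFinLocFree E) :
    (∀ (𝒮 : RelProj.QCGrAlg X) (j : E ⟶ 𝒮.toModule) (P : Scheme.{u}) (p : P ⟶ X)
        (chart : ∀ (U : X.Opens) (hU : IsAffineOpen U),
          (((p ⁻¹ᵁ U : P.Opens) : Scheme.{u}) ≅ Proj (𝒮.deg U hU)))
        (O1 : P.Modules)
        (lam : ∀ (U : X.Opens) (hU : IsAffineOpen U),
          O1 ⟶ (Scheme.Modules.pushforward (RelProj.emb p chart U hU)).obj (GrTwist.twist (𝒮.deg U hU) 1)),
        RelProj.IsGrSymAlg E 𝒮 j → RelProj.IsRelProj 𝒮 p chart → RelProj.IsRelTwist 𝒮 p chart 1 O1 lam →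
        ∀ C : P.IdealSheafData, IsIntegral C.subscheme → topologicalKrullDim (C.support : Set P) = 1 →
          0 ≤ @Curv2.euler k _ P ⟨p ≫ (X ↘ (Spec (CommRingCat.of k)))⟩ (CohB1.tensorMod (ClSub.quotMod C) O1) -
              @Curv2.euler k _ P ⟨p ≫ (X ↘ (Spec (CommRingCat.of k)))⟩ (ClSub.quotMod C)) ↔
      CNef (X ↘ (Spec (CommRingCat.of k))) E := by
  have key : ∀ {P : Scheme.{u}} (p : P ⟶ X) (O1 : P.Modules), PicF.IsInvertible O1 →
      ((∀ C : P.IdealSheafData, IsIntegral C.subscheme → topologicalKrullDim (C.support : Set P) = 1 →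
          0 ≤ @Curv2.euler k _ P ⟨p ≫ (X ↘ (Spec (CommRingCat.of k)))⟩ (CohB1.tensorMod (ClSub.quotMod C) O1) -
              @Curv2.euler k _ P ⟨p ≫ (X ↘ (Spec (CommRingCat.of k)))⟩ (ClSub.quotMod C)) ↔
        Nef (p ≫ (X ↘ (Spec (CommRingCat.of k)))) O1) := by
    intro P p O1 hinv
    let _ : P.Over (Spec (CommRingCat.of k)) := ⟨p ≫ (X ↘ (Spec (CommRingCat.of k)))⟩
    exact nef_iff_hyp (k := k) (X := P) O1 hinv
  constructor
  · intro h
    obtain ⟨𝒮, j, P, p, chart, O1, lam, hj, hP, hL, hpr, φ, hφ⟩ := exists_pbun hE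
    rw [← K432.PNef.nef_iff_cnef hφ]
    exact (key p O1 hφ.inv).mp (h 𝒮 j P p chart O1 lam hj hP hL)
  · intro h 𝒮 j P p chart O1 lam hj hP hL
    obtain ⟨hpr, φ, hφ⟩ := exists_isPBun' hE hj hP hL
    exact (key p O1 hφ.inv).mpr ((K432.PNef.nef_iff_cnef hφ _).mpr h)

end K432.PStat
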