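import Groth.Agent.Variety.K432.PStat
import Groth.Agent.CohqB.AmpGeneric
import Groth.Agent.S2329
import Groth.Agent.S0054
import Groth.Agent.PerfB.FlatPull
import Mathlib.AlgebraicGeometry.ZariskisMainTheorem

/-!
# Ampleness of finite locally free modules

* `PAmp E`: the milestone form of ampleness of `E` (`O(1)` on `P(E)` is ample for all relative Proj data).
* `pamp_iff`: it can be tested on one projective bundle.
* `pamp_of_epi`: quotients.
* `isOpen_pamp`: ampleness of the fibres is an open condition.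
-/

set_option autoImplicit false
universe u

open AlgebraicGeometry CategoryTheory TopologicalSpace Limits Opposite

namespace K432.PAmp

open K432.PBun Groth.Agent K432.PData K432.PStat

/-- The milestone form of ampleness. -/
def PAmp {X : Scheme.{u}} (E : X.Modules) : Prop :=
  ∀ (𝒮 : RelProj.QCGrAlg X) (j : E ⟶ 𝒮.toModule) (P : Scheme.{u}) (p : P ⟶ X)
    (chart : ∀ (U : X.Opens) (hU : IsAffineOpen U),
      (((p ⁻¹ᵁ U : P.Opens) : Scheme.{u}) ≅ Proj (𝒮.deg U hU)))
    (O1 : P.Modules)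
    (lam : ∀ (U : X.Opens) (hU : IsAffineOpen U),
      O1 ⟶ (Scheme.Modules.pushforward (RelProj.emb p chart U hU)).obj (GrTwist.twist (𝒮.deg U hU) 1)),
    RelProj.IsGrSymAlg E 𝒮 j → RelProj.IsRelProj 𝒮 p chart → RelProj.IsRelTwist 𝒮 p chart 1 O1 lam →
    CohB1.IsAmple O1

/-- Ampleness descends along epimorphisms of modules. -/
theorem isAmple_of_epi {X PE PF : Scheme.{u}} {E F : X.Modules} (e : E ⟶ F) [Epi e] {pE : PE ⟶ X} {pF : PF ⟶ X}
    [IsProper pE] [IsProper pF]
    {OE : PE.Modules} {OF : PF.Modules} {φE : E ⟶ (Scheme.Modules.pushforward pE).obj OE}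
    {φF : F ⟶ (Scheme.Modules.pushforward pF).obj OF} (hE : IsPBun E pE OE φE) (hF : IsPBun F pF OF φF)
    (h : CohB1.IsAmple OE) : CohB1.IsAmple OF := by
  obtain ⟨r, hr, hmono, ⟨τ⟩⟩ := exists_mono e hE hF
  have hpr : IsProper r := by
    have : IsProper (r ≫ pE) := by rw [hr]; infer_instance
    exact IsProper.of_comp r pE
  have hcl : IsClosedImmersion r := (IsClosedImmersion.iff_isProper_and_mono r).mpr ⟨hpr, hmono⟩
  exact S2329.isAmple_of_iso τ (CohqB.AmpCocycle.isAmple_pullback r h)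

theorem pamp_iff {X P : Scheme.{u}} {E : X.Modules} (hE : FlatMod.IsFinLocFree E) {p : P ⟶ X} [IsProper p]
    {O1 : P.Modules} {φ : E ⟶ (Scheme.Modules.pushforward p).obj O1} (hP : IsPBun E p O1 φ) :
    PAmp E ↔ CohB1.IsAmple O1 := by
  constructor
  · intro h
    obtain ⟨𝒮, j, P', p', chart, O1', lam, hj, h1, hL, hpr, φ', hφ'⟩ := exists_pbun hE
    exact isAmple_of_epi (𝟙 E) hφ' hP (h 𝒮 j P' p' chart O1' lam hj h1 hL)
  · intro h 𝒮 j P' p' chart O1' lam hj h1 hL
    obtain ⟨hpr, φ', hφ'⟩ := exists_isPBun' hE hj h1 hL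
    exact isAmple_of_epi (𝟙 E) hP hφ' h

/-- A quotient of an ample module is ample. -/
theorem pamp_of_epi {X : Scheme.{u}} {E F : X.Modules} (hE : FlatMod.IsFinLocFree E) (hF : FlatMod.IsFinLocFree F)
    (e : E ⟶ F) [Epi e] (h : PAmp E) : PAmp F := by
  obtain ⟨P, p, O1, φ, hpr, hP⟩ := exists_pbun' hE
  obtain ⟨P', p', O1', φ', hpr', hP'⟩ := exists_pbun' hF
  rw [pamp_iff hF hP']
  exact isAmple_of_epi e hP hP' ((pamp_iff hE hP).mp h)

theorem isPullback_fib {N S : Scheme.{u}} (f : N ⟶ S) (s : S) :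
    IsPullback (f.fiberι s) (f.fiberToSpecResidueField s) f (S.fromSpecResidueField s) :=
  IsPullback.of_hasPullback _ _

/-- Ampleness of the restriction to a fibre. -/
theorem pamp_fiber_iff {X Y P : Scheme.{u}} (f : X ⟶ Y) {E : X.Modules} (hE : FlatMod.IsFinLocFree E) {p : P ⟶ X}
    [IsProper p] {O1 : P.Modules} {φ : E ⟶ (Scheme.Modules.pushforward p).obj O1} (hP : IsPBun E p O1 φ) (y : Y) :
    PAmp ((Scheme.Modules.pullback (f.fiberι y)).obj E) ↔
      CohB1.IsAmple ((Scheme.Modules.pullback ((p ≫ f).fiberι y)).obj O1) := by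
  have hEy : FlatMod.IsFinLocFree ((Scheme.Modules.pullback (f.fiberι y)).obj E) :=
    PerfB.FlatPull.isFinLocFree_pullback (f.fiberι y) hE
  obtain ⟨P', p', O1', φ', hpr', hP'⟩ := exists_pbun' hEy
  rw [pamp_iff hEy hP']
  obtain ⟨G, hG, ⟨ω⟩⟩ := exists_isPullback (f.fiberι y) hP hP'
  have h1 : IsPullback G (p' ≫ f.fiberToSpecResidueField y) (p ≫ f) (Y.fromSpecResidueField y) :=
    hG.paste_vert (isPullback_fib f y)
  have h2 := isPullback_fib (p ≫ f) y
  have e1 : (h1.isoIsPullback _ _ h2).hom ≫ (p ≫ f).fiberι y = G := h1.isoIsPullback_hom_fst _ _ h2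
  have e2 : (h1.isoIsPullback _ _ h2).inv ≫ G = (p ≫ f).fiberι y := h1.isoIsPullback_inv_fst _ _ h2
  constructor
  · intro h
    have h3 := CohqB.AmpCocycle.isAmple_pullback (h1.isoIsPullback _ _ h2).inv (S2329.isAmple_of_iso ω.symm h)
    exact S2329.isAmple_of_iso ((Scheme.Modules.pullbackComp _ _).app O1 ≪≫
      (Scheme.Modules.pullbackCongr e2).app O1) h3
  · intro h
    have h3 := CohqB.AmpCocycle.isAmple_pullback (h1.isoIsPullback _ _ h2).hom h
    exact S2329.isAmple_of_iso ((Scheme.Modules.pullbackComp _ _).app O1 ≪≫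
      (Scheme.Modules.pullbackCongr e1).app O1 ≪≫ ω) h3

/-- The set of points over which an invertible module on a proper scheme is ample is open. -/
theorem isOpen_ample {X Y : Scheme.{u}} [IsNoetherian Y] (f : X ⟶ Y) [IsProper f] (L : X.Modules)
    (hL : PicF.IsInvertible L) : IsOpen {y : Y | CohB1.IsAmple ((Scheme.Modules.pullback (f.fiberι y)).obj L)} := by
  rw [isOpen_iff_mem_nhds]
  intro y hy
  obtain ⟨V, hyV, hV⟩ := S0054.result f L hL y hy
  obtain ⟨W, hW, hyW, hWV⟩ := exists_isAffineOpen_mem_and_subset (x := y) (U := V) hyV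
  refine Filter.mem_of_superset (W.isOpen.mem_nhds hyW) fun z hz => ?_
  have h1 := hV W hWV hW
  -- the fibre over `z` maps to the inverse image of `W`
  have hr : Set.range (f.fiberι z) ⊆ Set.range (f ⁻¹ᵁ W).ι := by
    rw [Scheme.Hom.range_fiberι, Scheme.Opens.range_ι]
    intro x hx
    have hx' : f x = z := hx
    change f x ∈ W
    rw [hx']
    exact hz
  let r : f.fiber z ⟶ (f ⁻¹ᵁ W : Scheme.{u}) := IsOpenImmersion.lift (f ⁻¹ᵁ W).ι (f.fiberι z) hr
  have hr1 : r ≫ (f ⁻¹ᵁ W).ι = f.fiberι z := IsOpenImmersion.lift_fac _ _ _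
  have haff : IsAffineHom r := by
    have haffW : IsAffine W := hW
    have hrz : Set.range (Y.fromSpecResidueField z) ⊆ Set.range W.ι := by
      rw [Scheme.range_fromSpecResidueField, Scheme.Opens.range_ι]
      exact Set.singleton_subset_iff.mpr hz
    let kz : Spec (Y.residueField z) ⟶ (W : Scheme.{u}) := IsOpenImmersion.lift W.ι (Y.fromSpecResidueField z) hrz
    have hkz : kz ≫ W.ι = Y.fromSpecResidueField z := IsOpenImmersion.lift_fac _ _ _
    have hpb : IsPullback r (f.fiberToSpecResidueField z) (f ∣_ W) kz := by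
      refine IsPullback.of_right (h₁₂ := (f ⁻¹ᵁ W).ι) (h₂₂ := W.ι) (v₁₃ := f) ?_ ?_
        (isPullback_morphismRestrict f W).flip
      · rw [hr1, hkz]
        exact isPullback_fib f z
      · rw [← cancel_mono W.ι, Category.assoc, Category.assoc, hkz, morphismRestrict_ι, ← Category.assoc, hr1]
        exact (isPullback_fib f z).w
    exact MorphismProperty.of_isPullback (P := @IsAffineHom) hpb.flip inferInstance
  have h3 := CohqB.AmpCocycle.isAmple_pullback r h1
  exact S2329.isAmple_of_iso ((Scheme.Modules.pullback r).mapIso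
    ((Scheme.Modules.restrictFunctorIsoPullback (f ⁻¹ᵁ W).ι).app L) ≪≫ (Scheme.Modules.pullbackComp _ _).app L ≪≫
      (Scheme.Modules.pullbackCongr hr1).app L) h3

/-- Ampleness of the fibres of a finite locally free module is an open condition. -/
theorem isOpen_pamp {X Y : Scheme.{u}} [IsNoetherian Y] (f : X ⟶ Y) [IsProper f] (E : X.Modules)
    (hE : FlatMod.IsFinLocFree E) : IsOpen {y : Y | PAmp ((Scheme.Modules.pullback (f.fiberι y)).obj E)} := by
  obtain ⟨P, p, O1, φ, hpr, hP⟩ := exists_pbun' hE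
  have h := isOpen_ample (p ≫ f) O1 hP.inv
  convert h using 3 with y
  exact pamp_fiber_iff f hE hP y

end K432.PAmp
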