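import Groth.Agent.Variety.K432.PStat
import Groth.Agent.Variety.K432.NefFam
import Groth.Agent.PerfB.FlatPull

/-!
# Curve-test nefness and extension of the base field
-/

set_option autoImplicit false
universe u

open AlgebraicGeometry CategoryTheory TopologicalSpace Limits Opposite

namespace K432.PBC

open K432.PBun K432.NefBasic K432.CurveDeg Groth.Agent K432.PStat K432.NefBC K432.NefFam

/-- Curve-test nefness is invariant under extension of the base field. -/
theorem cnef_bc (k K : Type u) [Field k] [Field K] [Algebra k K] {X : Scheme.{u}} (s : X ⟶ Spec (CommRingCat.of k))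
    [IsProper s] {E : X.Modules} (hE : FlatMod.IsFinLocFree E) :
    CNef s E ↔ CNef (pullback.snd s (Spec.map (CommRingCat.ofHom (algebraMap k K))))
      ((Scheme.Modules.pullback (pullback.fst s (Spec.map (CommRingCat.ofHom (algebraMap k K))))).obj E) := by
  let w := Spec.map (CommRingCat.ofHom (algebraMap k K))
  obtain ⟨P, p, O1, φ, hpr, hP⟩ := exists_pbun' hE
  obtain ⟨P', p', O1', φ', hpr', hP'⟩ := exists_pbun' (PerfB.FlatPull.isFinLocFree_pullback (pullback.fst s w) hE)
  obtain ⟨G, hG, ⟨ω⟩⟩ := exists_isPullback (pullback.fst s w) hP hP'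
  rw [← K432.PNef.nef_iff_cnef hP s, ← K432.PNef.nef_iff_cnef hP' (pullback.snd s w)]
  have hpb : IsPullback G (p' ≫ pullback.snd s w) (p ≫ s) w := hG.paste_vert (IsPullback.of_hasPullback s w)
  constructor
  · intro h
    have h1 := nef_bc k K (p ≫ s) O1 hP.inv h
    have hpr1 : IsProper (pullback.snd (p ≫ s) w) := inferInstance
    have h2 : hpb.isoPullback.hom ≫ pullback.snd (p ≫ s) w = p' ≫ pullback.snd s w := hpb.isoPullback_hom_snd
    have hpr2 : IsProper (hpb.isoPullback.hom ≫ pullback.snd (p ≫ s) w) := by rw [h2]; infer_instance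
    have h3 := h1.pullback (Fdesc.LocGen.isInvertible_pullback _ hP.inv) hpb.isoPullback.hom
    have h4 := (nef_congr ((Scheme.Modules.pullbackComp _ _).app O1 ≪≫
      (Scheme.Modules.pullbackCongr hpb.isoPullback_hom_fst).app O1 ≪≫ ω)).mp h3
    have h5 : Nef (hpb.isoPullback.hom ≫ pullback.snd (p ≫ s) w) O1' := h4
    rw [h2] at h5
    exact h5
  · intro h
    refine nef_of_bc (algebraMap k K) hpb O1 hP.inv ?_
    rw [nef_congr ω]
    exact h

end K432.PBC
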