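import Groth.Agent.Cyc.K306.GrPoly
import Groth.Agent.EGA2.K43.GrFrac
import Mathlib.Algebra.MvPolynomial.Division
import Mathlib.RingTheory.GradedAlgebra.Radical

/-!
# Global sections of `O(a)` on `Proj` of a polynomial ring

`exists_globSec`: for a graded ring `𝒜 ≅ R[T_0, …, T_n]`, `R` a domain, every section of `O(a)`, `a ≥ 0`, over the
whole of `Proj 𝒜` is `u / 1` for a (unique, `globSec_injective`) `u` of degree `a`.
-/

set_option autoImplicit false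
universe u
open CategoryTheory AlgebraicGeometry TopologicalSpace Opposite TopCat
open scoped HomogeneousIdeal

namespace K432.TwPoly

open CohB1 Groth.Agent.EGA2.K32.ProjProper K306.GrPoly K43.GrFrac GrTwist

section mv

variable {R : Type*} [CommRing R] [IsDomain R]

omit [IsDomain R] in
theorem eq_monomial_of_fin_one {q : MvPolynomial (Fin 1) R} {j : ℕ} (hq : q.IsHomogeneous j) :
    ∃ c : R, q = MvPolynomial.monomial (Finsupp.single 0 j) c := by
  classical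
  refine ⟨MvPolynomial.coeff (Finsupp.single 0 j) q, ?_⟩
  ext m
  rw [MvPolynomial.coeff_monomial]
  split_ifs with h
  · rw [h]
  · by_contra hne
    apply h
    have h1 := hq hne
    refine Finsupp.ext fun i => ?_
    have hi : i = 0 := Subsingleton.elim _ _
    subst hi
    rw [Finsupp.single_eq_same]
    rw [Finsupp.weight_apply, Finsupp.sum_fintype _ _ (fun _ => by simp)] at h1
    simpa using h1.symm

/-- If a form `s` divides `X_i ^ N * a` for all `i`, `deg a = deg s + e`, then `s` divides `a`. -/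
theorem dvd_of_forall {n : ℕ} {s a : MvPolynomial (Fin (n + 1)) R} {j e : ℕ} (hs : s.IsHomogeneous j)
    (ha : a.IsHomogeneous (j + e)) (hs0 : s ≠ 0)
    (h : ∀ i, ∃ N : ℕ, s ∣ MvPolynomial.X i ^ N * a) : s ∣ a := by
  classical
  rcases n with _ | n
  · obtain ⟨c, rfl⟩ := eq_monomial_of_fin_one hs
    obtain ⟨d, rfl⟩ := eq_monomial_of_fin_one ha
    obtain ⟨N, w, hw⟩ := h 0
    have h1 : (MvPolynomial.X 0 : MvPolynomial (Fin (0 + 1)) R) ^ N = MvPolynomial.monomial (Finsupp.single 0 N) 1 :=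
      MvPolynomial.X_pow_eq_monomial
    rw [h1, MvPolynomial.monomial_mul, one_mul, ← Finsupp.single_add] at hw
    have h2 := congrArg (MvPolynomial.coeff (Finsupp.single 0 j + Finsupp.single 0 (N + e))) hw
    rw [MvPolynomial.coeff_monomial_mul, MvPolynomial.coeff_monomial, ← Finsupp.single_add,
      if_pos (by congr 1; omega)] at h2
    refine ⟨MvPolynomial.monomial (Finsupp.single 0 e) (MvPolynomial.coeff (Finsupp.single 0 (N + e)) w), ?_⟩
    rw [MvPolynomial.monomial_mul, ← Finsupp.single_add, ← h2]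
  · obtain ⟨N, u, hu⟩ := h 0
    obtain ⟨M, w, hw⟩ := h 1
    have hX : Prime (MvPolynomial.X 0 : MvPolynomial (Fin (n + 1 + 1)) R) := MvPolynomial.X_prime
    have h1 : s * (MvPolynomial.X 1 ^ M * u) = s * (MvPolynomial.X 0 ^ N * w) := by
      linear_combination (-(MvPolynomial.X 1 ^ M)) * hu + (MvPolynomial.X 0 ^ N) * hw
    have h2 := mul_left_cancel₀ hs0 h1
    have h3 : (MvPolynomial.X 0 : MvPolynomial (Fin (n + 1 + 1)) R) ^ N ∣ MvPolynomial.X 1 ^ M * u := ⟨w, h2⟩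
    have h4 : ¬ (MvPolynomial.X 0 : MvPolynomial (Fin (n + 1 + 1)) R) ∣ MvPolynomial.X 1 ^ M := fun h => by
      have := hX.dvd_of_dvd_pow h
      rw [MvPolynomial.X_dvd_X] at this
      exact absurd this (by simp)
    have h5 := hX.pow_dvd_of_dvd_mul_left N h4 h3
    obtain ⟨u', rfl⟩ := h5
    refine ⟨u', ?_⟩
    have h6 : (MvPolynomial.X 0 : MvPolynomial (Fin (n + 1 + 1)) R) ^ N * a =
        MvPolynomial.X 0 ^ N * (s * u') := by rw [hu]; ring
    exact mul_left_cancel₀ (pow_ne_zero _ hX.ne_zero) h6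

end mv

variable {A σ : Type u} [CommRing A] [SetLike σ A] [AddSubgroupClass σ A] {𝒜 : ℕ → σ} [GradedRing 𝒜]
  {R : Type u} [CommRing R] [IsDomain R] (ρ : R →+* 𝒜 0) {n : ℕ} {t : Fin (n + 1) → A} (ht : ∀ i, t i ∈ 𝒜 1)
  (hb : Function.Bijective (ev ρ t))

include hb in
theorem isDomain : IsDomain A :=
  (evEquiv ρ hb).symm.toMulEquiv.isDomain _

include ht hb in
theorem dvd_of_forall' {s a : A} {j e : ℕ} (hs : s ∈ 𝒜 j) (ha : a ∈ 𝒜 (j + e)) (hs0 : s ≠ 0)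
    (h : ∀ i, ∃ N : ℕ, s ∣ t i ^ N * a) : s ∣ a := by
  let E := evEquiv ρ hb
  have hE : ∀ x, E (E.symm x) = x := fun x => E.apply_symm_apply x
  have hX : ∀ i, E.symm (t i) = MvPolynomial.X i := fun i => by
    rw [RingEquiv.symm_apply_eq]
    exact (ev_X ρ i).symm
  have h1 : E.symm s ∣ E.symm a := by
    refine dvd_of_forall (j := j) (e := e) (mem_of_ev_mem ρ ht hb ?_) (mem_of_ev_mem ρ ht hb ?_) ?_ ?_
    · change E (E.symm s) ∈ _; rwa [hE]
    · change E (E.symm a) ∈ _; rwa [hE]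
    · rwa [ne_eq, map_eq_zero_iff _ E.symm.injective]
    · intro i
      obtain ⟨N, hN⟩ := h i
      refine ⟨N, ?_⟩
      have := map_dvd E.symm hN
      rwa [map_mul, map_pow, hX] at this
  have h2 := map_dvd E h1
  rwa [hE, hE] at h2

include hb in
theorem t_ne_zero (i : Fin (n + 1)) : t i ≠ 0 := by
  intro h
  have h1 := ev_X ρ (t := t) i
  rw [h] at h1
  exact MvPolynomial.X_ne_zero i (hb.1 (h1.trans (map_zero _).symm))

/-- The generic point of `Proj 𝒜`. -/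
noncomputable def gen : ProjectiveSpectrum 𝒜 where
  asHomogeneousIdeal := ⊥
  isPrime := by
    have := isDomain ρ hb
    exact Ideal.isPrime_bot
  not_irrelevant_le h := by
    have h1 : t 0 ∈ (⊥ : HomogeneousIdeal 𝒜) := h (HomogeneousIdeal.mem_irrelevant_of_mem _ one_pos (ht 0))
    exact t_ne_zero ρ hb 0 h1

theorem mem_gen {x : A} : x ∈ (gen ρ ht hb).asHomogeneousIdeal ↔ x = 0 := Iff.rfl

theorem gen_mem {V : Opens (ProjectiveSpectrum.top 𝒜)} {y : ProjectiveSpectrum.top 𝒜} (hy : y ∈ V) :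
    (gen ρ ht hb : ProjectiveSpectrum.top 𝒜) ∈ V := by
  obtain ⟨s, hs⟩ := (ProjectiveSpectrum.isOpen_iff 𝒜 V.1).1 V.2
  by_contra hcon
  have h1 : (gen ρ ht hb : ProjectiveSpectrum 𝒜) ∈ ProjectiveSpectrum.zeroLocus 𝒜 s := by
    rw [← hs]; exact hcon
  have h2 : (y : ProjectiveSpectrum 𝒜) ∈ ProjectiveSpectrum.zeroLocus 𝒜 s := fun x hx => by
    have h3 : x = 0 := h1 hx
    rw [h3]
    exact zero_mem _
  rw [← hs] at h2
  exact h2 hy

include ht hb in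
/-- Local description of a section by fractions compatible with one fraction `a₀ / s₀`. -/
theorem exists_frac (a : ℕ) {V : (Proj 𝒜).Opens} (hV : ∀ y, y ∈ V) (s : Γ(twist 𝒜 (a : ℤ), V)) :
    ∃ (j : ℕ) (a₀ s₀ : A), a₀ ∈ 𝒜 (j + a) ∧ s₀ ∈ 𝒜 j ∧ s₀ ≠ 0 ∧ ∀ y : V, ∃ (i : ℕ) (b r : A) (hr : r ∉ y.1.asHomogeneousIdeal),
      r ∈ 𝒜 i ∧ a₀ * r = b * s₀ ∧ GrTwist.val s y = Localization.mk b ⟨r, hr⟩ := by
  have hdom := isDomain ρ hb
  have H := s.2
  let ξ : ProjectiveSpectrum.top 𝒜 := gen ρ ht hb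
  obtain ⟨V₀, hm₀, i₀, i, j, a₀, s₀, nin₀, h₀, w₀⟩ := H ⟨ξ, hV _⟩
  have key : ∀ y : V, ∃ (i : ℕ) (b r : A) (hr : r ∉ y.1.asHomogeneousIdeal), r ∈ 𝒜 i ∧ a₀.1 * r = b * s₀.1 ∧
      GrTwist.val s y = Localization.mk b ⟨r, hr⟩ := by
    intro y
    obtain ⟨V₁, hm₁, i₁, i', j', b, r, nin, h₁, w⟩ := H y
    refine ⟨j', b.1, r.1, nin ⟨y.1, hm₁⟩, r.2, ?_, w ⟨y.1, hm₁⟩⟩
    have e0 := w₀ ⟨ξ, hm₀⟩
    have e1 := w ⟨ξ, gen_mem ρ ht hb hm₁⟩
    have e2 : (Localization.mk a₀.1 ⟨s₀.1, nin₀ ⟨ξ, hm₀⟩⟩ : Loc 𝒜 ξ) =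
        Localization.mk b.1 ⟨r.1, nin ⟨ξ, gen_mem ρ ht hb hm₁⟩⟩ := e0.symm.trans e1
    rw [Localization.mk_eq_mk_iff, Localization.r_iff_exists] at e2
    obtain ⟨c, hc⟩ := e2
    have hc0 : c.1 ≠ 0 := fun h => c.2 (h ▸ zero_mem _)
    have e3 := mul_left_cancel₀ hc0 hc
    linear_combination e3
  have hs0 : s₀.1 ≠ 0 := fun h => nin₀ ⟨ξ, hm₀⟩ (h ▸ zero_mem _)
  rcases h₀ with h₀ | h₀
  · refine ⟨j, a₀.1, s₀.1, ?_, s₀.2, hs0, key⟩
    have h1 : i = j + a := by omega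
    rw [← h1]
    exact a₀.2
  · refine ⟨j, a₀.1, s₀.1, ?_, s₀.2, hs0, key⟩
    rw [h₀]
    exact zero_mem _

include ht hb in
theorem dvd_of_frac {j a : ℕ} {a₀ s₀ : A} (ha₀ : a₀ ∈ 𝒜 (j + a)) (hs₀ : s₀ ∈ 𝒜 j) (hs : s₀ ≠ 0)
    (h : ∀ y : ProjectiveSpectrum 𝒜, ∃ (i : ℕ) (b r : A), r ∉ y.asHomogeneousIdeal ∧ r ∈ 𝒜 i ∧ a₀ * r = b * s₀) :
    s₀ ∣ a₀ := by
  refine dvd_of_forall' ρ ht hb hs₀ ha₀ hs fun k => ?_
  by_contra hcon
  let I : Ideal A := Submodule.comap (LinearMap.mulLeft A a₀) (Ideal.span {s₀})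
  have hI : ∀ x, x ∈ I ↔ s₀ ∣ a₀ * x := fun x => by
    rw [Submodule.mem_comap, LinearMap.mulLeft_apply]
    exact Ideal.mem_span_singleton
  have h1 : t k ∉ I.radical := by
    rintro ⟨N, hN⟩
    exact hcon ⟨N, by rw [mul_comm]; exact (hI _).1 hN⟩
  rw [Ideal.radical_eq_sInf, Submodule.mem_sInf] at h1
  push Not at h1
  obtain ⟨q, ⟨hIq, hq⟩, htq⟩ := h1
  let y : ProjectiveSpectrum 𝒜 :=
    { asHomogeneousIdeal := Ideal.homogeneousCore 𝒜 q
      isPrime := hq.homogeneousCore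
      not_irrelevant_le := fun h => htq (Ideal.toIdeal_homogeneousCore_le 𝒜 q
        (h (HomogeneousIdeal.mem_irrelevant_of_mem _ one_pos (ht k)))) }
  obtain ⟨i, b, r, hr, hri, e⟩ := h y
  apply hr
  exact Ideal.mem_homogeneousCore_of_homogeneous_of_mem ⟨i, hri⟩ (hIq ((hI r).2 ⟨b, by rw [e]; ring⟩))

include ht hb in
/-- Sections of `O(a)` over the whole `Proj` of a polynomial ring over a domain are forms of degree `a`. -/
theorem exists_globSec (a : ℕ) {V : (Proj 𝒜).Opens} (hV : ∀ y, y ∈ V) (s : Γ(twist 𝒜 (a : ℤ), V)) :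
    ∃ u : 𝒜 a, s = globSec rfl u V := by
  classical
  have hdom := isDomain ρ hb
  obtain ⟨j, a₀, s₀, ha₀, hs₀, hs, key⟩ := exists_frac ρ ht hb a hV s
  obtain ⟨w, hw⟩ := dvd_of_frac ρ ht hb ha₀ hs₀ hs (fun y => by
    obtain ⟨i, b, r, hr, hri, e, _⟩ := key ⟨y, hV y⟩
    exact ⟨i, b, r, hr, hri, e⟩)
  have h1 : (DirectSum.decompose 𝒜 (s₀ * w) (j + a) : A) = s₀ * DirectSum.decompose 𝒜 w a :=
    DirectSum.coe_decompose_mul_add_of_left_mem 𝒜 hs₀
  rw [← hw, DirectSum.decompose_of_mem_same 𝒜 ha₀] at h1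
  refine ⟨DirectSum.decompose 𝒜 w a, sec_ext fun y => ?_⟩
  obtain ⟨i, b, r, hr, hri, e, hval⟩ := key y
  rw [hval, val_globSec, ← Localization.mk_one_eq_algebraMap, Localization.mk_eq_mk_iff, Localization.r_iff_exists]
  refine ⟨1, ?_⟩
  have h2 : s₀ * b = s₀ * (r * (DirectSum.decompose 𝒜 w a : A)) := by
    have h3 : s₀ * (DirectSum.decompose 𝒜 w a : A) * r = b * s₀ := by rw [← h1]; exact e
    linear_combination -h3
  have h4 := mul_left_cancel₀ hs h2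
  simp only [OneMemClass.coe_one, one_mul]
  exact h4

include ht hb in
theorem globSec_injective (a : ℕ) {V : (Proj 𝒜).Opens} (hV : ∀ y, y ∈ V) (u w : 𝒜 a)
    (h : globSec (rfl : (a : ℤ) = a) u V = globSec rfl w V) : u = w := by
  have hdom := isDomain ρ hb
  have h1 := congrArg (fun s => GrTwist.val s ⟨gen ρ ht hb, hV _⟩) h
  dsimp only at h1
  rw [val_globSec, val_globSec, ← Localization.mk_one_eq_algebraMap, ← Localization.mk_one_eq_algebraMap,
    Localization.mk_eq_mk_iff, Localization.r_iff_exists] at h1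
  obtain ⟨c, hc⟩ := h1
  have hc0 : c.1 ≠ 0 := fun h => c.2 (h ▸ zero_mem _)
  have h2 := mul_left_cancel₀ hc0 hc
  simp only [OneMemClass.coe_one, one_mul] at h2
  exact Subtype.ext h2

end K432.TwPoly
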