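import Groth.Agent.Variety.K432.Polar
import Groth.Agent.Variety.K432.TwPoly
import Groth.Agent.EGA2.K35.SymPull
import Groth.Agent.Cyc.K306.RelProjFib

/-!
# Sections of `O_P(a)` on `P = P(F)` as integral polynomials at the generic stalk
-/

set_option autoImplicit false
set_option backward.isDefEq.respectTransparency false
universe u
open CategoryTheory CategoryTheory.Limits AlgebraicGeometry Opposite TopologicalSpace Module

noncomputable section

namespace K432.PolSec

open Groth.Agent K848.TF K849.Cst K432.SymPol K432.Polar K43.GrFrac K43.RelTw RelProj K43.CanMap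
open Groth.Agent.EGA2.K32.ProjProper Groth.Agent.Fdesc.LocGen

variable {X P : Scheme.{u}} [IsIntegral X] {F : X.Modules} {𝒮 : QCGrAlg X} {j : F ⟶ 𝒮.toModule} {p : P ⟶ X}
  {chart : ∀ (U : X.Opens) (hU : IsAffineOpen U), (((p ⁻¹ᵁ U : P.Opens) : Scheme.{u}) ≅ Proj (𝒮.deg U hU))}

section vv

variable (hq : Coh.IsQCoh F) (hS : IsGrSymAlg F 𝒮 j)

include hq hS in
theorem exists_vv {U : X.Opens} (hU : IsAffineOpen U) (hη : genericPoint X ∈ U) :
    ∃ v : 𝒮.presheaf.obj (op U) →+* SymmetricAlgebra X.functionField (St F),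
      (∀ r, v ((𝒮.str.app (op U)).hom r) = algebraMap X.functionField _ (X.presheaf.germ U (genericPoint X) hη r)) ∧
      ∀ t, v (jv j t) = SymmetricAlgebra.ι X.functionField (St F) (F.presheaf.germ U (genericPoint X) hη t) := by
  refine K35.PE.exists_ringHom hq hS hU (SymmetricAlgebra X.functionField (St F))
    ((algebraMap X.functionField _).comp (X.presheaf.germ U (genericPoint X) hη).hom)
    ((SymmetricAlgebra.ι X.functionField (St F)).toAddMonoidHom.comp (F.presheaf.germ U (genericPoint X) hη).hom) ?_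
  intro a t
  change SymmetricAlgebra.ι X.functionField (St F) (F.presheaf.germ U (genericPoint X) hη (a • t)) = 
    algebraMap X.functionField _ (X.presheaf.germ U (genericPoint X) hη a) *
      SymmetricAlgebra.ι X.functionField (St F) (F.presheaf.germ U (genericPoint X) hη t)
  have h1 : F.presheaf.germ U (genericPoint X) hη (a • t) =
      (X.presheaf.germ U (genericPoint X) hη a : X.functionField) • F.presheaf.germ U (genericPoint X) hη t :=
    Groth.Agent.CycB.StalkExact.germ_smul _ _ _ _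
  rw [h1, map_smul, Algebra.smul_def]

/-- The map `𝒮(U) → Sym_K(F_η)`. -/
def vv {U : X.Opens} (hU : IsAffineOpen U) (hη : genericPoint X ∈ U) :
    𝒮.presheaf.obj (op U) →+* SymmetricAlgebra X.functionField (St F) := (exists_vv hq hS hU hη).choose

theorem vv_str {U : X.Opens} (hU : IsAffineOpen U) (hη : genericPoint X ∈ U) (r : Γ(X, U)) :
    vv hq hS hU hη ((𝒮.str.app (op U)).hom r) =
      algebraMap X.functionField _ (X.presheaf.germ U (genericPoint X) hη r) :=
  (exists_vv hq hS hU hη).choose_spec.1 r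

theorem vv_jv {U : X.Opens} (hU : IsAffineOpen U) (hη : genericPoint X ∈ U) (t : Γ(F, U)) :
    vv hq hS hU hη (jv j t) =
      SymmetricAlgebra.ι X.functionField (St F) (F.presheaf.germ U (genericPoint X) hη t) :=
  (exists_vv hq hS hU hη).choose_spec.2 t

theorem vv_res {U V : X.Opens} (hU : IsAffineOpen U) (hV : IsAffineOpen V) (hVU : V ≤ U) (hη : genericPoint X ∈ V)
    (x : 𝒮.presheaf.obj (op U)) :
    vv hq hS hV hη ((𝒮.presheaf.map (homOfLE hVU).op).hom x) = vv hq hS hU (hVU hη) x := by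
  have h : (vv hq hS hV hη).comp (𝒮.presheaf.map (homOfLE hVU).op).hom = vv hq hS hU (hVU hη) := by
    refine K35.SymPull.ringHom_ext hq hS hU (fun r => ?_) (fun e => ?_)
    · have h1 : (𝒮.presheaf.map (homOfLE hVU).op).hom ((𝒮.str.app (op U)).hom r) =
          (𝒮.str.app (op V)).hom (X.presheaf.map (homOfLE hVU).op r) :=
        congr($((𝒮.str.naturality (homOfLE hVU).op)).hom r).symm
      change vv hq hS hV hη ((𝒮.presheaf.map (homOfLE hVU).op).hom ((𝒮.str.app (op U)).hom r)) = _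
      rw [h1, vv_str, vv_str]
      congr 1
      exact TopCat.Presheaf.germ_res_apply X.presheaf (homOfLE hVU) _ hη r
    · change vv hq hS hV hη ((𝒮.presheaf.map (homOfLE hVU).op).hom (jv j e)) = _
      rw [← jv_res, vv_jv, vv_jv]
      congr 1
      exact TopCat.Presheaf.germ_res_apply F.presheaf (homOfLE hVU) _ hη e
  exact congr($h x)

/-- The image of `𝒮(U)` is integral at the points of `U`. -/
theorem vv_mem {U : X.Opens} (hU : IsAffineOpen U) (hη : genericPoint X ∈ U) {y : X} (hy : y ∈ U)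
    (x : 𝒮.presheaf.obj (op U)) : vv hq hS hU hη x ∈ S (RR y) (LL F y) := by
  have h1 := K35.PE.gen hq hS U hU
  have h2 : x ∈ Subring.closure (Set.range (𝒮.str.app (op U)).hom ∪ Set.range (jv j (U := U))) := by
    rw [h1]; trivial
  induction h2 using Subring.closure_induction with
  | mem x hx =>
    obtain ⟨r, rfl⟩ | ⟨e, rfl⟩ := hx
    · rw [vv_str]
      exact algebraMap_mem _ _ ⟨X.presheaf.germ U y hy r, germ_spec_O (gen y) hy r⟩
    · rw [vv_jv]
      exact ι_mem _ _ ⟨F.presheaf.germ U y hy e, germ_spec F (gen y) hy e⟩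
  | zero => rw [map_zero]; exact Subring.zero_mem _
  | one => rw [map_one]; exact Subring.one_mem _
  | add x y _ _ hx hy => rw [map_add]; exact Subring.add_mem _ hx hy
  | neg x _ hx => rw [map_neg]; exact Subring.neg_mem _ hx
  | mul x y _ _ hx hy => rw [map_mul]; exact Subring.mul_mem _ hx hy

open Groth.Agent.Sga67.LocBasis in
/-- `𝒮(U) → Sym_K(F_η)` is injective if `F` is free over `U`. -/
theorem vv_injective {n : ℕ} {U : X.Opens} (hU : IsAffineOpen U) (hη : genericPoint X ∈ U)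
    {b : Fin (n + 1) → Groth.Agent.Sga67.Sec.Sec F U} (hb : IsLocBasis b) : Function.Injective (vv hq hS hU hη) := by
  let B : Basis (Fin (n + 1)) Γ(X, U) Γ(F, U) := hb.basis (le_refl U)
  have hB : ∀ i, B i = b i := fun i => by
    change hb.basis (le_refl U) i = b i
    rw [IsLocBasis.basis_apply, Groth.Agent.Sga67.Sec.res_self]
  let c : Basis (Fin (n + 1)) X.functionField (St F) := Krr.H490.LocBasisPull.stalkBasis hb (genericPoint X) hη
  have hc : ∀ i, c i = F.presheaf.germ U (genericPoint X) hη (B i) := fun i => by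
    rw [hB]
    exact Krr.H490.LocBasisPull.stalkBasis_apply hb _ hη i
  have hbij := K306.RelProjFib.bijective_ev hq hS hU B
  have h1 : (vv hq hS hU hη).comp (ev (𝒜 := 𝒮.deg U hU) (𝒮.strZero U hU).hom
      (fun i => K36.SymAlg.jApp F 𝒮.toQCAlg j U (B i))) =
      (SymmetricAlgebra.equivMvPolynomial c).symm.toAlgHom.toRingHom.comp
        (MvPolynomial.map (X.presheaf.germ U (genericPoint X) hη).hom) := by
    refine MvPolynomial.ringHom_ext (fun r => ?_) (fun i => ?_)
    · rw [RingHom.comp_apply, K306.GrPoly.ev_C, RingHom.comp_apply, MvPolynomial.map_C]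
      refine (vv_str hq hS hU hη r).trans ?_
      exact ((SymmetricAlgebra.equivMvPolynomial c).symm.commutes _).symm
    · rw [RingHom.comp_apply, K306.GrPoly.ev_X, RingHom.comp_apply, MvPolynomial.map_X]
      refine (vv_jv hq hS hU hη (B i)).trans ?_
      change _ = (SymmetricAlgebra.equivMvPolynomial c).symm (MvPolynomial.X i)
      rw [SymmetricAlgebra.equivMvPolynomial_symm_X, hc]
  have h2 : Function.Injective (((SymmetricAlgebra.equivMvPolynomial c).symm.toAlgHom.toRingHom.comp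
        (MvPolynomial.map (X.presheaf.germ U (genericPoint X) hη).hom))) :=
    (SymmetricAlgebra.equivMvPolynomial c).symm.injective.comp
      (MvPolynomial.map_injective _ (germ_injective_of_isIntegral X (genericPoint X) hη))
  rw [← h1] at h2
  intro x x' hxx
  obtain ⟨q, rfl⟩ := hbij.2 x
  obtain ⟨q', rfl⟩ := hbij.2 x'
  exact congrArg _ (h2 hxx)

end vv

section can

variable (hq : Coh.IsQCoh F) (hS : IsGrSymAlg F 𝒮 j) {a : ℕ} {Oa : P.Modules}
  {lam : ∀ (U : X.Opens) (hU : IsAffineOpen U),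
    Oa ⟶ (Scheme.Modules.pushforward (emb p chart U hU)).obj (GrTwist.twist (𝒮.deg U hU) (a : ℤ))}
  (hOa : IsRelTwist 𝒮 p chart (a : ℤ) Oa lam)

include hq hS in
theorem can_bijective {n : ℕ} {U : X.Opens} (hU : IsAffineOpen U) [Nonempty U]
    (B : Basis (Fin (n + 1)) Γ(X, U) Γ(F, U)) :
    Function.Bijective (fun s : 𝒮.deg U hU a => can hOa hU rfl s) := by
  have hbij := K306.RelProjFib.bijective_ev hq hS hU B
  have ht : ∀ i, K36.SymAlg.jApp F 𝒮.toQCAlg j U (B i) ∈ 𝒮.deg U hU 1 := fun i => hS.2 U hU (B i)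
  have hV : ∀ y, y ∈ emb p chart U hU ⁻¹ᵁ (p ⁻¹ᵁ U) := fun y => by
    have h1 : emb p chart U hU y ∈ (emb p chart U hU).opensRange := ⟨y, rfl⟩
    rw [K35.RelProjBasic.opensRange_emb] at h1
    exact h1
  constructor
  · intro s s' h
    have h1 := congrArg (fun t => rdU lam hU t) h
    dsimp only at h1
    rw [rdU_can, rdU_can] at h1
    exact K432.TwPoly.globSec_injective _ ht hbij a hV s s' h1
  · intro t
    obtain ⟨s, hs⟩ := K432.TwPoly.exists_globSec _ ht hbij a hV (rdU lam hU t)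
    refine ⟨s, rdU_injective hOa hU le_rfl ?_⟩
    dsimp only
    rw [rdU_can, hs]

end can

section psi

variable {n : ℕ} (hq : Coh.IsQCoh F) (hS : IsGrSymAlg F 𝒮 j) (hP : IsRelProj 𝒮 p chart)
  {a : ℕ} {Oa : P.Modules}
  {lam : ∀ (U : X.Opens) (hU : IsAffineOpen U),
    Oa ⟶ (Scheme.Modules.pushforward (emb p chart U hU)).obj (GrTwist.twist (𝒮.deg U hU) (a : ℤ))}
  (hOa : IsRelTwist 𝒮 p chart (a : ℤ) Oa lam) {N : X.Modules}
  (Θ : N ⟶ (Scheme.Modules.pushforward p).obj Oa)

/-- A section of `p_* Oa` as a section of `Oa`. -/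
def up {U : X.Opens} (t : Γ((Scheme.Modules.pushforward p).obj Oa, U)) : Γ(Oa, p ⁻¹ᵁ U) := t

omit [IsIntegral X] in
theorem up_smul {U : X.Opens} (r : Γ(X, U)) (t : Γ((Scheme.Modules.pushforward p).obj Oa, U)) :
    up (r • t) = (p.app U r : Γ(P, p ⁻¹ᵁ U)) • up t := rfl

omit [IsIntegral X] in
theorem up_res {U V : X.Opens} (h : V ≤ U) (t : Γ((Scheme.Modules.pushforward p).obj Oa, U)) :
    up (res _ h t) = res Oa (p.preimage_mono h) (up t) := rfl

open Groth.Agent.Sga67.LocBasis in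
omit [IsIntegral X] in
theorem exists_small (hF : FlatMod.IsFinLocFreeOfRank (n + 1) F) (hN : PicF.IsInvertible N) (x : X) (W : X.Opens)
    (hx : x ∈ W) : ∃ (U : X.Opens) (_ : IsAffineOpen U) (_ : x ∈ U) (_ : U ≤ W)
      (b : Fin (n + 1) → Groth.Agent.Sga67.Sec.Sec F U) (_ : IsLocBasis b) (μ : Γ(N, U)), IsGen μ := by
  obtain ⟨U₁, hx₁, b, hb⟩ := (Krr.H487.KerRank.isFinLocFreeOfRank_iff _).mp hF x
  obtain ⟨U₂, μ, hx₂, hμ⟩ := (isInvertible_iff N).1 hN x
  obtain ⟨U, hU, hxU, hUW⟩ := exists_isAffineOpen_mem_and_subset (x := x) (U := W ⊓ (U₁ ⊓ U₂)) ⟨hx, hx₁, hx₂⟩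
  exact ⟨U, hU, hxU, fun z hz => (hUW hz).1, _, hb.restrict (V := U) (fun z hz => (hUW hz).2.1), _,
    hμ.res (V := U) (fun z hz => (hUW hz).2.2)⟩

open Groth.Agent.Sga67.LocBasis in
include hP in
/-- Comparison of the polynomials of two local generators. -/
theorem compare (hF : FlatMod.IsFinLocFreeOfRank (n + 1) F) (hN : PicF.IsInvertible N)
    {U U' : X.Opens} (hU : IsAffineOpen U) (hU' : IsAffineOpen U') (hη : genericPoint X ∈ U)
    (hη' : genericPoint X ∈ U') {μ : Γ(N, U)} {μ' : Γ(N, U')} (hμ' : IsGen μ')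
    (s : 𝒮.deg U hU a) (s' : 𝒮.deg U' hU' a) (hs : can hOa hU rfl s = up (Θ.app U μ))
    (hs' : can hOa hU' rfl s' = up (Θ.app U' μ')) :
    ∃ d : X.functionField, N.presheaf.germ U (genericPoint X) hη μ = d • N.presheaf.germ U' (genericPoint X) hη' μ' ∧
      vv hq hS hU hη s.1 = d • vv hq hS hU' hη' s'.1 := by
  obtain ⟨W, hW, hηW, hWU, b, hb, -⟩ := exists_small hF hN (genericPoint X) (U ⊓ U') ⟨hη, hη'⟩
  have h1 : W ≤ U := fun z hz => (hWU hz).1
  have h2 : W ≤ U' := fun z hz => (hWU hz).2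
  have hne : Nonempty W := ⟨⟨_, hηW⟩⟩
  obtain ⟨d, hd⟩ := (hμ'.res h2).exists_eq (res N h1 μ)
  have hinj := (can_bijective hq hS hOa hW (hb.basis (le_refl W))).1
  have h3 : resDeg hU hW h1 s = smulDeg hW d (resDeg hU' hW h2 s') := by
    apply hinj
    dsimp only
    rw [can_smul hOa hW rfl hP, ← res_can hOa hU rfl hP hW h1, ← res_can hOa hU' rfl hP hW h2, hs, hs', ← up_res h1,
      ← up_res h2, ← up_smul, ← app_res Θ h1, ← app_res Θ h2, hd]
    exact congrArg up (Scheme.Modules.Hom.app_smul Θ d _)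
  refine ⟨X.presheaf.germ W (genericPoint X) hηW d, ?_, ?_⟩
  · have h4 : N.presheaf.germ W (genericPoint X) hηW (res N h1 μ) = N.presheaf.germ U (genericPoint X) hη μ :=
      TopCat.Presheaf.germ_res_apply N.presheaf (homOfLE h1) _ hηW μ
    have h5 : N.presheaf.germ W (genericPoint X) hηW (res N h2 μ') = N.presheaf.germ U' (genericPoint X) hη' μ' :=
      TopCat.Presheaf.germ_res_apply N.presheaf (homOfLE h2) _ hηW μ'
    rw [← h4, ← h5, hd]
    exact Groth.Agent.CycB.StalkExact.germ_smul _ _ _ _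
  · have h4 := vv_res hq hS hU hW h1 hηW s.1
    have h5 := vv_res hq hS hU' hW h2 hηW s'.1
    have h6 := congrArg (fun z : 𝒮.deg W hW a => vv hq hS hW hηW z.1) h3
    rw [resDeg_coe, smulDeg_coe, resDeg_coe, map_mul, vv_str, h4, h5] at h6
    rw [h6, Algebra.smul_def]

open Groth.Agent.Sga67.LocBasis in
include hq hS hP hOa in
/-- **The polynomial of a section.**  A non-zero `Θ : N → p_* O_P(a)` gives a non-zero integral map
`N_η → Sym_K(F_η)`. -/
theorem exists_psi (hF : FlatMod.IsFinLocFreeOfRank (n + 1) F) (hN : PicF.IsInvertible N) (hΘ : Θ ≠ 0) :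
    ∃ ψ : St N →ₗ[X.functionField] SymmetricAlgebra X.functionField (St F), ψ ≠ 0 ∧ Int' ψ := by
  -- a small open on which `Θ` is non-zero
  have h0 : ∃ (U : X.Opens) (_ : IsAffineOpen U) (_ : genericPoint X ∈ U)
      (b : Fin (n + 1) → Groth.Agent.Sga67.Sec.Sec F U) (_ : IsLocBasis b) (μ : Γ(N, U)), IsGen μ ∧ Θ.app U μ ≠ 0 := by
    by_contra hcon
    push Not at hcon
    apply hΘ
    ext V t
    change Θ.app V t = 0
    have key : ∀ x : V, ∃ (U : X.Opens) (_ : x.1 ∈ U) (hUV : U ≤ V),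
        res ((Scheme.Modules.pushforward p).obj Oa) hUV (Θ.app V t) = 0 := by
      intro x
      obtain ⟨U, hU, hxU, hUV, b, hb, μ, hμ⟩ := exists_small hF hN x.1 V x.2
      have h1 := hcon U hU (gen_mem hxU) b hb μ hμ
      obtain ⟨c, hc⟩ := hμ.exists_eq (res N hUV t)
      refine ⟨U, hxU, hUV, ?_⟩
      rw [← app_res, hc]
      refine (Scheme.Modules.Hom.app_smul Θ c μ).trans ?_
      rw [h1]
      exact smul_zero c
    choose U hxU hUV hz using key
    refine res_ext _ U hUV (fun x hx => Opens.mem_iSup.mpr ⟨⟨x, hx⟩, hxU _⟩) fun x => ?_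
    rw [hz, map_zero]
  obtain ⟨U₀, hU₀, hη₀, b₀, hb₀, μ₀, hμ₀, hne⟩ := h0
  have hN₀ : Nonempty U₀ := ⟨⟨_, hη₀⟩⟩
  obtain ⟨s₀, hs₀⟩ := (can_bijective hq hS hOa hU₀ (hb₀.basis (le_refl U₀))).2 (up (Θ.app U₀ μ₀))
  have hg : Function.Bijective (fun c : X.functionField => c • N.presheaf.germ U₀ (genericPoint X) hη₀ μ₀) :=
    CycB.ModStalk.IsGenOn.isGen (L := N) hμ₀ (genericPoint X) hη₀
  let e : X.functionField ≃ₗ[X.functionField] St N :=
    LinearEquiv.ofBijective (LinearMap.toSpanSingleton X.functionField (St N)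
      (N.presheaf.germ U₀ (genericPoint X) hη₀ μ₀)) hg
  have he : ∀ c, e c = c • N.presheaf.germ U₀ (genericPoint X) hη₀ μ₀ := fun c => rfl
  let ψ : St N →ₗ[X.functionField] SymmetricAlgebra X.functionField (St F) :=
    (LinearMap.toSpanSingleton X.functionField _ (vv hq hS hU₀ hη₀ s₀.1)) ∘ₗ e.symm.toLinearMap
  have hψ : ∀ c : X.functionField, ψ (c • N.presheaf.germ U₀ (genericPoint X) hη₀ μ₀) =
      c • vv hq hS hU₀ hη₀ s₀.1 := fun c => by
    rw [← he]
    change LinearMap.toSpanSingleton X.functionField _ (vv hq hS hU₀ hη₀ s₀.1) (e.symm (e c)) = _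
    rw [LinearEquiv.symm_apply_apply, LinearMap.toSpanSingleton_apply]
  have hψ1 : ψ (N.presheaf.germ U₀ (genericPoint X) hη₀ μ₀) = vv hq hS hU₀ hη₀ s₀.1 := by
    have := hψ 1
    rwa [one_smul, one_smul] at this
  refine ⟨ψ, fun h => hne ?_, ?_⟩
  · have h1 : vv hq hS hU₀ hη₀ s₀.1 = 0 := by rw [← hψ1, h, LinearMap.zero_apply]
    have h2 : s₀.1 = 0 := vv_injective hq hS hU₀ hη₀ hb₀ (h1.trans (map_zero _).symm)
    have h3 : s₀ = 0 := Subtype.ext h2
    rw [h3] at hs₀
    have h4 : can hOa hU₀ rfl (0 : 𝒮.deg U₀ hU₀ a) = 0 := by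
      have := can_add hOa hU₀ rfl (0 : 𝒮.deg U₀ hU₀ a) 0
      rw [add_zero] at this
      exact (left_eq_add.1 this)
    exact (hs₀.symm.trans h4 : up (Θ.app U₀ μ₀) = 0)
  · rintro y _ ⟨m, rfl⟩
    obtain ⟨U, hU, hyU, -, b, hb, μ, hμ⟩ := exists_small hF hN y ⊤ (Opens.mem_top y)
    have hηU : genericPoint X ∈ U := gen_mem hyU
    have hNU : Nonempty U := ⟨⟨_, hyU⟩⟩
    obtain ⟨s, hs⟩ := (can_bijective hq hS hOa hU (hb.basis (le_refl U))).2 (up (Θ.app U μ))
    obtain ⟨d, hd1, hd2⟩ := compare hq hS hP hOa Θ hF hN hU hU₀ hηU hη₀ hμ₀ s s₀ hs hs₀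
    obtain ⟨r, hr⟩ := (CycB.ModStalk.IsGenOn.isGen (L := N) hμ y hyU).2 m
    have h1 : N.presheaf.stalkSpecializes (gen y) m =
        (X.presheaf.stalkSpecializes (gen y) r : X.functionField) • (d • N.presheaf.germ U₀ (genericPoint X) hη₀ μ₀) := by
      rw [← hr]
      dsimp only
      rw [spec_smul, germ_spec, hd1]
    rw [h1, map_smul, hψ, ← hd2]
    exact SymPol.smul_mem (RR y) (LL F y) ⟨r, rfl⟩ (vv_mem hq hS hU hηU hyU s.1)

end psi

end K432.PolSec
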