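import Groth.Agent.Variety.K432.BigNef
import Groth.Agent.Variety.K432.PolSec
import Groth.Agent.Variety.K348.FrobNef
import Groth.Agent.Curves.K333.InvEpi
import Groth.Agent.Krr.H482.PullLambda
import Groth.Agent.Variety.K434.ZTwist
import Groth.Agent.Sga67.LocBasisOps

/-!
# Assembly of S19916
-/

set_option autoImplicit false
universe u

open CategoryTheory CategoryTheory.Limits AlgebraicGeometry Opposite TopologicalSpace Module

namespace K432.AsmBig

open Groth.Agent Groth.Agent.Fdesc.LocGen Groth.Agent.Grpsch.PicGrp K432.NefBasic K432.CurveDeg K931.Eff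
  K432.Polar K849.FrobPull
open Groth.Agent.ASBun.K791.Tens (pullTens tensMap tensComm tensAssoc tensLUnit tensRUnit)

section empty

variable {X P : Scheme.{u}} {F : X.Modules} {𝒮 : RelProj.QCGrAlg X} {j : F ⟶ 𝒮.toModule} {p : P ⟶ X}
  {chart : ∀ (U : X.Opens) (hU : IsAffineOpen U), (((p ⁻¹ᵁ U : P.Opens) : Scheme.{u}) ≅ Proj (𝒮.deg U hU))}

/-- The projective bundle of a module of rank zero is empty. -/
theorem isEmpty_of_rank_zero (hF : FlatMod.IsFinLocFreeOfRank 0 F) (hS : RelProj.IsGrSymAlg F 𝒮 j)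
    (hP : RelProj.IsRelProj 𝒮 p chart) : IsEmpty P := by
  obtain ⟨O1, lam, hL⟩ := Groth.Agent.S8284.result 𝒮 p chart hP 1
  obtain ⟨-, φ, hpb⟩ := K432.PStat.exists_isPBun' (Krr.H482.PullLambda.isFinLocFree_of_rank hF) hS hP hL
  refine ⟨fun z => ?_⟩
  have h1 : FlatMod.IsFinLocFreeOfRank 0 ((Scheme.Modules.pullback p).obj F) :=
    Krr.H482.PullLambda.isFinLocFreeOfRank_pullback _ hF
  obtain ⟨b⟩ := K707.Base.exists_basis h1 z
  obtain ⟨c⟩ := K707.Base.exists_basis (K707.TensL.rank_one_iff.mpr hpb.inv) z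
  have h2 : Subsingleton (((Scheme.Modules.pullback p).obj F).presheaf.stalk z) :=
    b.repr.toEquiv.subsingleton
  have h3 := hpb.epi
  have h4 : Function.Surjective (CycB.StalkExact.stalkLin hpb.can z) :=
    CycB.StalkExact.stalkLin_surjective _ _
  have h5 : Subsingleton (O1.presheaf.stalk z) := h4.subsingleton
  have h6 : Subsingleton (Fin 1 →₀ P.presheaf.stalk z) := c.repr.symm.toEquiv.subsingleton
  have h7 := DFunLike.congr_fun (Subsingleton.elim (Finsupp.single (0 : Fin 1) (1 : P.presheaf.stalk z)) 0) 0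
  rw [Finsupp.single_eq_same, Finsupp.zero_apply] at h7
  exact one_ne_zero h7

end empty

section theta

variable {X P : Scheme.{u}} (p : P ⟶ X)

theorem map_T_ne_zero {N A B : X.Modules} (hN : PicF.IsInvertible N) (φ : A ⟶ B) (h : φ ≠ 0) :
    (K707.TensL.T N).map φ ≠ 0 := by
  have heq := K707.TensL.isEquivalence hN
  intro h0
  exact h ((K707.TensL.T N).map_injective (by rw [h0, Functor.map_zero]))

theorem iso_comp_ne_zero {A B C D : X.Modules} (e : A ≅ B) (φ : B ⟶ C) (e' : C ≅ D) (h : φ ≠ 0) :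
    e.hom ≫ φ ≫ e'.hom ≠ 0 := by
  intro h0
  apply h
  rw [← cancel_epi e.hom, ← cancel_mono e'.hom, Category.assoc, h0, comp_zero, zero_comp]

theorem homEquiv_ne_zero {D : X.Modules} {Oa : P.Modules} (t : (Scheme.Modules.pullback p).obj D ⟶ Oa) (ht : t ≠ 0) :
    (Scheme.Modules.pullbackPushforwardAdjunction p).homEquiv D Oa t ≠ 0 := by
  intro h0
  apply ht
  have h2 : (Scheme.Modules.pullbackPushforwardAdjunction p).homEquiv D Oa t =
      (Scheme.Modules.pullbackPushforwardAdjunction p).homEquiv D Oa 0 := by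
    rw [h0, Adjunction.homEquiv_unit, Functor.map_zero, comp_zero]
  exact ((Scheme.Modules.pullbackPushforwardAdjunction p).homEquiv D Oa).injective h2

theorem exists_twist {Oa pB pD : P.Modules} (hD : PicF.IsInvertible pD) (M : P.Modules)
    (s : Coh.structureModule P ⟶ M) (hs : s ≠ 0) (e1 : M ≅ CohB1.tensorMod Oa pB)
    (e3 : CohB1.tensorMod (CohB1.tensorMod Oa pB) pD ≅ Oa) : ∃ t : pD ⟶ Oa, t ≠ 0 := by
  have h0 : s ≫ e1.hom ≠ 0 := fun h0 => hs (by rw [← cancel_mono e1.hom, h0, zero_comp])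
  have h1 := map_T_ne_zero (N := pD) hD (s ≫ e1.hom) h0
  exact ⟨_, iso_comp_ne_zero (tensLUnit pD).symm _ e3 h1⟩

/-- Regrouping. -/
noncomputable def isoB (Oa : P.Modules) (L A' : X.Modules) :
    CohB1.tensorMod (CohB1.tensorMod Oa ((Scheme.Modules.pullback p).obj L))
      ((Scheme.Modules.pullback p).obj A') ≅ CohB1.tensorMod Oa ((Scheme.Modules.pullback p).obj (CohB1.tensorMod L A')) :=
  tensAssoc Oa ((Scheme.Modules.pullback p).obj L) ((Scheme.Modules.pullback p).obj A') ≪≫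
    tensMap (Iso.refl Oa) (pullTens p L A').symm

/-- Cancelling an invertible twist. -/
noncomputable def isoC (Oa : P.Modules) {B : X.Modules} (hB : PicF.IsInvertible B) :
    CohB1.tensorMod (CohB1.tensorMod Oa ((Scheme.Modules.pullback p).obj B))
      ((Scheme.Modules.pullback p).obj (dual B)) ≅ Oa :=
  have _ := isIso_ev hB
  tensAssoc Oa ((Scheme.Modules.pullback p).obj B) ((Scheme.Modules.pullback p).obj (dual B)) ≪≫
    tensMap (Iso.refl Oa) ((pullTens p B (dual B)).symm ≪≫ (Scheme.Modules.pullback p).mapIso (asIso (ev B)) ≪≫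
      Groth.Agent.ASBun.K791.Tens.pullUnit p) ≪≫ tensRUnit Oa

/-- A nonzero section of `O_P(a) ⊗ p^*L ⊗ p^*A'` gives a nonzero map `(L ⊗ A')⁻¹ → p_* O_P(a)`. -/
theorem exists_theta {Oa : P.Modules} {L A' : X.Modules} (hL : PicF.IsInvertible L) (hA' : PicF.IsInvertible A')
    (hsec : Nontrivial (Coh.HH P (CohB1.tensorMod (CohB1.tensorMod Oa ((Scheme.Modules.pullback p).obj L))
      ((Scheme.Modules.pullback p).obj A')) 0)) :
    ∃ Θ : dual (CohB1.tensorMod L A') ⟶ (Scheme.Modules.pushforward p).obj Oa, Θ ≠ 0 := by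
  obtain ⟨s, hs⟩ := (K931.Basic.nontrivial_H0_iff _).1 hsec
  have hB : PicF.IsInvertible (CohB1.tensorMod L A') := isInvertible_tensorMod hL hA'
  obtain ⟨t, ht⟩ := exists_twist (isInvertible_pullback p (isInvertible_dual hB)) _ s hs (isoB p Oa L A')
    (isoC p Oa hB)
  exact ⟨_, homEquiv_ne_zero p t ht⟩

end theta

section deg

variable {X : Scheme.{u}} [IsIntegral X]

/-- The degrees of the values are bounded. -/
theorem exists_bound {T F : X.Modules} {r m : ℕ} (hT : FlatMod.IsFinLocFreeOfRank m T)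
    (c₀ : Basis (Fin r) X.functionField (St F))
    (ψ : St T →ₗ[X.functionField] SymmetricAlgebra X.functionField (St F)) :
    ∃ n : ℕ, ∀ t, (SymmetricAlgebra.equivMvPolynomial c₀ (ψ t)).totalDegree ≤ n := by
  obtain ⟨b, -, -⟩ := hB_of_rank hT (genericPoint X)
  refine ⟨Finset.univ.sup fun i => (SymmetricAlgebra.equivMvPolynomial c₀ (ψ (b i))).totalDegree, fun t => ?_⟩
  rw [← b.sum_repr t, map_sum, map_sum]
  refine (MvPolynomial.totalDegree_finsetSum _ _).trans (Finset.sup_mono_fun fun i _ => ?_)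
  rw [map_smul, map_smul]
  exact MvPolynomial.totalDegree_smul_le _ _

end deg

section core

theorem cnef_unit {k : Type u} [Field k] {X : Scheme.{u}} (s : X ⟶ Spec (CommRingCat.of k)) {E : X.Modules}
    (e : E ≅ Coh.structureModule X) : CNef s E := by
  intro C _ f _ hC M hM q hq
  let q' : Coh.structureModule C ⟶ M :=
    (Groth.Agent.ASBun.K791.Tens.pullUnit f).inv ≫ (Scheme.Modules.pullback f).map e.inv ≫ q
  have h1 : Epi q' := by
    have : Epi q := hq
    exact epi_comp _ _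
  have h2 := K333.InvEpi.isIso_of_epi isInvertible_structureModule hM q'
  rw [← dg_congr (f ≫ s) (asIso q'), dg_unit]

theorem eq_zero_of_isEmpty {P : Scheme.{u}} (hP : IsEmpty P) {B : P.Modules} (φ : Coh.structureModule P ⟶ B) :
    φ = 0 :=
  Groth.Agent.Sga67.Sec.hom_ext_of_locally fun x => hP.elim x

/-- The statement from closure of nefness under tensor products and the dual bundle. -/
theorem core (k : Type u) [Field k] {X : Scheme.{u}} [X.Over (Spec (CommRingCat.of k))]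
    [IsProper (X ↘ Spec (CommRingCat.of k))] [IsIntegral X] {d : ℕ} (hdim : topologicalKrullDim X = d)
    {L F A A' : X.Modules} (hL : PicF.IsInvertible L) (hF : FlatMod.IsFinLocFree F)
    (hA : CohB1.IsAmple A) (hA' : ClSub.IsInverseOf A' A)
    {𝒮 : RelProj.QCGrAlg X} {j : F ⟶ 𝒮.toModule} {P : Scheme.{u}} {p : P ⟶ X}
    {chart : ∀ (U : X.Opens) (hU : IsAffineOpen U), (((p ⁻¹ᵁ U : P.Opens) : Scheme.{u}) ≅ Proj (𝒮.deg U hU))}
    (hS : RelProj.IsGrSymAlg F 𝒮 j) (hP : RelProj.IsRelProj 𝒮 p chart)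
    {a : ℕ} {Oa : P.Modules}
    {lam : ∀ (U : X.Opens) (hU : IsAffineOpen U),
      Oa ⟶ (Scheme.Modules.pushforward (RelProj.emb p chart U hU)).obj (GrTwist.twist (𝒮.deg U hU) (a : ℤ))}
    (hOa : RelProj.IsRelTwist 𝒮 p chart (a : ℤ) Oa lam)
    (hsec : Nontrivial (Coh.HH P (CohB1.tensorMod (CohB1.tensorMod Oa ((Scheme.Modules.pullback p).obj L))
      ((Scheme.Modules.pullback p).obj A')) 0))
    (hclo : ∀ E E' : X.Modules, FlatMod.IsFinLocFree E → FlatMod.IsFinLocFree E' →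
      CNef (X ↘ Spec (CommRingCat.of k)) E → CNef (X ↘ Spec (CommRingCat.of k)) E' →
        CNef (X ↘ Spec (CommRingCat.of k)) (CohB1.tensorMod E E'))
    (hdual : ∀ r, FlatMod.IsFinLocFreeOfRank r F → ∃ E : X.Modules, FlatMod.IsFinLocFreeOfRank r E ∧
      Nonempty (Pr F E) ∧ CNef (X ↘ Spec (CommRingCat.of k)) E) :
    ∃ c : ℝ, 0 < c ∧ ∀ᶠ n : ℕ in Filter.atTop,
      c * (n : ℝ) ^ d < (Module.finrank k (Coh.HH X (CohB1.tensorPow L n) 0) : ℝ) := by
  have hA'i : PicF.IsInvertible A' := (K434.ZTwist.isInvertible_of_inverse hA').1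
  have hM : PicF.IsInvertible (CohB1.tensorMod L A') := isInvertible_tensorMod hL hA'i
  have hMf : FlatMod.IsFinLocFree (CohB1.tensorMod L A') := K707.TensL.vb_of_inv hM
  obtain ⟨Θ, hΘ⟩ := exists_theta p hL hA'i hsec
  obtain ⟨r, hr⟩ : ∃ r, FlatMod.IsFinLocFreeOfRank r F := ⟨_, K707.Base.isFinLocFreeOfRank_rk hF⟩
  rcases r with _ | n
  · exfalso
    have hemp := isEmpty_of_rank_zero hr hS hP
    obtain ⟨s, hs⟩ := (K931.Basic.nontrivial_H0_iff _).1 hsec
    exact hs (eq_zero_of_isEmpty hemp s)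
  obtain ⟨ψ, hψ0, hψ⟩ := K432.PolSec.exists_psi (Ega2.QCohLocal.isQCoh_of_isFinLocFree hF) hS hP hOa Θ hr
    (isInvertible_dual hM) hΘ
  obtain ⟨E, hE, ⟨π⟩, hEn⟩ := hdual _ hr
  obtain ⟨c₀, -, -⟩ := hB_of_rank hr (genericPoint X)
  obtain ⟨m, hm⟩ := exists_bound (K707.TensL.rank_one_iff.mpr (isInvertible_dual hM)) c₀ ψ
  let Q : X.Modules → Prop := fun T => FlatMod.IsFinLocFree T ∧
    CNef (X ↘ Spec (CommRingCat.of k)) (CohB1.tensorMod T (CohB1.tensorMod L A'))
  let CN : X.Modules → Prop := fun T => FlatMod.IsFinLocFree T ∧ CNef (X ↘ Spec (CommRingCat.of k)) T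
  have hQ : ∀ T E, Q T → CN E → Q (CohB1.tensorMod T E) := by
    rintro T E ⟨h1, h2⟩ ⟨h3, h4⟩
    refine ⟨Sga67.LocBasis.isFinLocFree_tensorMod h1 h3, ?_⟩
    refine K348.FrobNef.cnef_congr ?_ (hclo _ _ (Sga67.LocBasis.isFinLocFree_tensorMod h1 hMf) h3 h2 h4)
    exact tensAssoc _ _ _ ≪≫ tensMap (Iso.refl T) (tensComm _ _) ≪≫ (tensAssoc _ _ _).symm
  have hCE : CN E := ⟨Krr.H482.PullLambda.isFinLocFree_of_rank hE, hEn⟩
  have hQ0 : Q (dual (CohB1.tensorMod L A')) := by
    refine ⟨K707.TensL.vb_of_inv (isInvertible_dual hM), cnef_unit _ ?_⟩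
    have := isIso_ev hM
    exact tensComm _ _ ≪≫ asIso (ev (CohB1.tensorMod L A'))
  obtain ⟨T', ⟨hT', hTn⟩, hfn⟩ : ∃ T', Q T' ∧ Fn T' := by
    obtain ⟨q, hq⟩ := CharP.exists k
    rcases CharP.char_is_prime_or_zero k q with hprime | rfl
    · have : Fact q.Prime := ⟨hprime⟩
      have : FrobSch.IsCharP X q := FrobSch.IsCharP.of_hom (X ↘ Spec (CommRingCat.of k)) q
      refine polarp q CN Q (fun E hE => ⟨?_, K348.FrobNef.cnef_FP k _ q hE.1 hE.2⟩) hQ (n + 1) m F E hr hCE π c₀ _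
        hQ0 ψ hψ0 hψ hm
      exact PerfB.FlatPull.isFinLocFree_pullback _ hE.1
    · have : CharZero k := CharP.charP_to_charZero k
      have : CharZero X.functionField := by
        let φ : k →+* X.functionField :=
          (X.presheaf.germ ⊤ (genericPoint X) trivial).hom.comp
            (((X ↘ Spec (CommRingCat.of k)).appTop).hom.comp (Scheme.ΓSpecIso (CommRingCat.of k)).inv.hom)
        exact charZero_of_injective_ringHom φ.injective
      exact polar0 Q c₀ π (fun T hT => hQ T E hT hCE) m _ hQ0 ψ hψ0 hψ hm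
  obtain ⟨φ, hφ⟩ := exists_hom_of_fn hfn
  have hg : (K707.TensL.T (CohB1.tensorMod L A')).map φ ≫ (tensLUnit (CohB1.tensorMod L A')).hom ≠ 0 := by
    intro h1
    have h2 := map_T_ne_zero hM φ hφ
    apply h2
    exact (cancel_mono (tensLUnit (CohB1.tensorMod L A')).hom).1 (h1.trans zero_comp.symm)
  refine BigNef.big k hdim hA (G := CohB1.tensorMod T' (CohB1.tensorMod L A')) ?_ hM hL hTn _ hg ?_
  · exact Ega2.QCohLocal.isQCoh_of_isFinLocFree (Sga67.LocBasis.isFinLocFree_tensorMod hT' hMf)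
  · have h1 : mk A' hA'i * mk A hA.1 = 1 := by
      rw [mk_mul_mk, one_def, mk_eq_iff]
      exact hA'
    rw [← mk_mul_mk hL hA'i, mul_comm (mk A hA.1), mul_assoc, h1, mul_one]

end core

end K432.AsmBig
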