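import Groth.Agent.Variety.K104.Blow
import Groth.Agent.Variety.K432.BigBir
import Groth.Agent.Variety.K250.NefAmple
import Groth.Agent.PosLin.K931.BigGrowth
import Groth.Agent.Vanish.K909.NefTens
import Groth.Agent.Krr.H478.ImIdeal
import Groth.Agent.Variety.K593.Goodman
import Groth.Agent.Variety.K593.AmpDiv
import Groth.Agent.Flat2C.BlowProper
import Groth.Agent.S2348
import Groth.Agent.S8859
import Groth.Agent.Resolve.K377.NormSch
import Groth.Agent.Variety.K798.ChowInt

/-!
# Bigness from a nef bundle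

`main`: let `X` be a projective variety, `A` ample, `G` a quasi-coherent module which is nef in the curve test, and
`g : G ⟶ M` a nonzero map to an invertible module. Then `A ⊗ M` is big.
-/

set_option autoImplicit false
universe u

open CategoryTheory CategoryTheory.Limits AlgebraicGeometry Opposite TopologicalSpace

namespace K432.BigNef

open Groth.Agent Groth.Agent.Fdesc.LocGen Groth.Agent.Grpsch.PicGrp K432.NefBasic K432.CurveDeg K931.Eff

/-- The growth condition in the two forms. -/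
theorem growth_conv (k : Type u) [Field k] {X : Scheme.{u}} [X.Over (Spec (CommRingCat.of k))]
    [IsProper (X ↘ Spec (CommRingCat.of k))] (L : X.Modules) (d : ℕ) :
    (∃ c : ℝ, 0 < c ∧ ∀ᶠ n : ℕ in Filter.atTop,
      c * (n : ℝ) ^ d < (Module.finrank k (Coh.HH X (CohB1.tensorPow L n) 0) : ℝ)) ↔
      K931.BigGrowth.Growth k L d := by
  constructor
  · rintro ⟨c, hc, h⟩
    obtain ⟨m₁, hm₁⟩ := Filter.eventually_atTop.1 h
    exact ⟨c, hc, m₁, fun m hm => (hm₁ m hm).le⟩
  · rintro ⟨C, hC, m₁, h⟩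
    refine ⟨C / 2, by positivity, ?_⟩
    filter_upwards [Filter.eventually_ge_atTop (max m₁ 1)] with n hn
    have h1 := h n ((le_max_left _ _).trans hn)
    have h0 : 0 < n := (le_max_right m₁ 1).trans hn
    have h2 : (0 : ℝ) < (n : ℝ) ^ d := by positivity
    refine lt_of_lt_of_le ?_ h1
    have h3 : 0 < C / 2 * (n : ℝ) ^ d := by positivity
    linarith

open Groth.Agent.Sga67.Sec Groth.Agent.Krr.H478.ImIdeal Groth.Agent.Krr.H478.Cosection in
/-- The image of a nonzero cosection. -/
theorem exists_image {X : Scheme.{u}} {N : X.Modules} (hN : Coh.IsQCoh N) (u : N ⟶ Coh.structureModule X)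
    (hu : u ≠ 0) : ∃ (J : X.IdealSheafData) (t : N ⟶ ClSub.idealMod J), Epi t ∧ J ≠ ⊥ := by
  obtain ⟨l, hl, -⟩ := exists_factor u (imIdeal hN u) (fun _ => rfl)
  refine ⟨imIdeal hN u, l, hl, fun h0 => hu ?_⟩
  apply hom_ext_of_locally
  intro x U hx
  obtain ⟨_, ⟨V, hV, rfl⟩, hxV, hVU⟩ := X.isBasis_affineOpens.exists_subset_of_mem_open hx U.2
  refine ⟨V, hVU, hxV, fun s => ?_⟩
  have h1 : Groth.Agent.Sga67.LocBasis.toO (appS u V s) ∈ (imIdeal hN u).ideal ⟨V, hV⟩ := ⟨s, rfl⟩
  rw [h0, Scheme.IdealSheafData.ideal_bot] at h1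
  exact h1

/-- A nonzero map to an invertible module, as an epimorphism onto an ideal times the module. -/
theorem exists_ideal {X : Scheme.{u}} {G M : X.Modules} (hG : Coh.IsQCoh G) (hM : PicF.IsInvertible M)
    (g : G ⟶ M) (hg : g ≠ 0) :
    ∃ (J : X.IdealSheafData) (t : CohB1.tensorMod (dual M) G ⟶ ClSub.idealMod J), Epi t ∧ J ≠ ⊥ := by
  have hd := isInvertible_dual hM
  have heq := K707.TensL.isEquivalence hd
  have hev := isIso_ev hM
  let u : CohB1.tensorMod G (dual M) ⟶ Coh.structureModule X := (K707.TensL.T (dual M)).map g ≫ ev M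
  have hu : u ≠ 0 := by
    intro h0
    have h1 : (K707.TensL.T (dual M)).map g = 0 := by
      have h3 : (K707.TensL.T (dual M)).map g ≫ ev M = 0 := h0
      exact (cancel_mono (ev M)).1 (h3.trans zero_comp.symm)
    exact hg ((K707.TensL.T (dual M)).map_injective (by rw [h1, Functor.map_zero]))
  obtain ⟨J, t, ht, hJ⟩ := exists_image (Ega2.TensGen.isQCoh_tensor hG hd) u hu
  exact ⟨J, (Ega2.Tens.swap (dual M) G).hom ≫ t, inferInstance, hJ⟩

theorem nef_of_isAmple {k : Type u} [Field k] {X : Scheme.{u}} (p : X ⟶ Spec (CommRingCat.of k)) [IsProper p]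
    {B : X.Modules} (hB : CohB1.IsAmple B) : Nef p B := fun C hC hdim => by
  have h1 : topologicalKrullDim C.subscheme = 1 := by rw [topologicalKrullDim_subscheme]; exact hdim
  exact (AmpCurve.dg_pos_of_isAmple (C.subschemeι ≫ p) h1 C.subschemeι hB).le

/-- Let `X` be a projective variety, `A` ample, `G` quasi-coherent and nef in the curve test, `G ⟶ M` a nonzero map to
an invertible module. Then `A ⊗ M` is big. -/
theorem big (k : Type u) [Field k] {X : Scheme.{u}} [X.Over (Spec (CommRingCat.of k))]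
    [IsProper (X ↘ Spec (CommRingCat.of k))] [IsIntegral X] {d : ℕ} (hdim : topologicalKrullDim X = d)
    {A G M L : X.Modules} (hA : CohB1.IsAmple A) (hG : Coh.IsQCoh G) (hM : PicF.IsInvertible M)
    (hL : PicF.IsInvertible L)
    (hnef : CNef (X ↘ Spec (CommRingCat.of k)) G) (g : G ⟶ M) (hg : g ≠ 0)
    (hLA : mk L hL = mk A hA.1 * mk M hM) :
    ∃ c : ℝ, 0 < c ∧ ∀ᶠ n : ℕ in Filter.atTop,
      c * (n : ℝ) ^ d < (Module.finrank k (Coh.HH X (CohB1.tensorPow L n) 0) : ℝ) := by
  have hXn : IsNoetherian X := K931.Basic.isNoetherian k X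
  have hXs : X.IsSeparated := K931.Basic.isSeparated k X
  obtain ⟨J, t, ht, hJ⟩ := exists_ideal hG hM g hg
  obtain ⟨X', b, hb⟩ := S8859.result X J
  have hfin : BlowUp.IsFiniteTypeIdeal J := fun V => by
    have := IsLocallyNoetherian.component_noetherian V
    exact IsNoetherian.noetherian _
  have hbp : IsProper b := Flat2C.BlowProper.isProper_of_isBlowUp hb hfin
  obtain ⟨hX', -, -⟩ := S2348.result J hJ b hb
  let _ : X'.Over (Spec (CommRingCat.of k)) := ⟨b ≫ (X ↘ Spec (CommRingCat.of k))⟩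
  have hbk : b ≫ (X ↘ Spec (CommRingCat.of k)) = X' ↘ Spec (CommRingCat.of k) := rfl
  have hX'p : IsProper (X' ↘ Spec (CommRingCat.of k)) := by rw [← hbk]; infer_instance
  have hX'n : IsNoetherian X' := K931.Basic.isNoetherian k X'
  have hX's : X'.IsSeparated := K931.Basic.isSeparated k X'
  -- the isomorphism locus
  have hU : (J.support.compl : Set X).Nonempty := by
    rw [Set.nonempty_iff_ne_empty]
    intro h0
    apply hJ
    rw [← Scheme.IdealSheafData.support_eq_top_iff]
    ext x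
    simp only [TopologicalSpace.Closeds.coe_top, Set.mem_univ, iff_true]
    by_contra hx
    have h1 : x ∈ (J.support.compl : Set X) := hx
    rw [h0] at h1
    exact h1
  have hiso : IsIso (b ∣_ J.support.compl) :=
    Divis.BlowUpFormal.isIso_morphismRestrict_compl_support hb _ disjoint_compl_left
  have hdim' : topologicalKrullDim X' = d := by
    rw [← hdim]
    exact K798.ChowInt.dim_eq_of_birational (X ↘ Spec (CommRingCat.of k)) b J.support.compl hU
  have hbir : RadPt.IsBirational b := by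
    refine K377.NormSch.isBirational b J.support.compl (J.support.compl.isOpen.dense hU) ?_
    refine (b ⁻¹ᵁ J.support.compl).isOpen.dense ?_
    obtain ⟨x, hx⟩ := hU
    obtain ⟨y, -⟩ := (b ∣_ J.support.compl).surjective ⟨x, hx⟩
    exact ⟨y.1, y.2⟩
  -- the exceptional ideal
  have hI : PicF.IsInvertible (ClSub.idealMod (J.comap b)) :=
    Dix.IdealModCartier.isInvertible_idealMod hb.1
  let ι : Pic X' := mk _ hI
  let α : Pic X' := pull b (mk A hA.1)
  let μ : Pic X' := pull b (mk M hM)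
  -- `ι μ` is nef
  have hN1 : Nef (b ≫ (X ↘ Spec (CommRingCat.of k)))
      (CohB1.tensorMod ((Scheme.Modules.pullback b).obj (dual (dual M))) (ClSub.idealMod (J.comap b))) :=
    K250.NefAmple.nef_twist (isInvertible_dual hM) hI (X ↘ Spec (CommRingCat.of k))
      (by
        have h1 := K104.Blow.epi_theta b J
        exact ⟨(Scheme.Modules.pullback b).map t ≫ Groth.Agent.Pic13.H945.IdealPull.theta b J, inferInstance⟩) hnef
  have hN1i : PicF.IsInvertible (CohB1.tensorMod ((Scheme.Modules.pullback b).obj (dual (dual M)))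
      (ClSub.idealMod (J.comap b))) :=
    isInvertible_tensorMod (isInvertible_pullback b (isInvertible_dual (isInvertible_dual hM))) hI
  have hN2 : K909.Kleiman.NefC k X' (ι * μ) := by
    have h1 := (K909.Kleiman.nef_iff_nefC k X' hN1i).1 (K250.NefAmple.nef_conv hN1i hN1)
    have h2 : mk _ hN1i = ι * μ := by
      rw [← mk_mul_mk (isInvertible_pullback b (isInvertible_dual (isInvertible_dual hM))) hI,
        ← pull_mk b (isInvertible_dual (isInvertible_dual hM)),
        ← inv_mk (isInvertible_dual hM), ← inv_mk hM, inv_inv, mul_comm]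
    rwa [h2] at h1
  -- the ample classes
  obtain ⟨a₀, ha₀⟩ := K104.Blow.exists_ample hb hA
  have hH1 : ∀ a, a₀ ≤ a → Amp (ι * α ^ a) := fun a ha => by
    have h1 := ha₀ a ha
    have h2 : PicF.IsInvertible ((Scheme.Modules.pullback b).obj (CohB1.tensorPow A a)) :=
      isInvertible_pullback b (isInvertible_tensorPow hA.1 a)
    have h3 : mk _ (isInvertible_tensorMod hI h2) = ι * α ^ a := by
      rw [← mk_mul_mk hI h2, ← pull_mk b (isInvertible_tensorPow hA.1 a), mk_tensorPow hA.1, map_pow]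
    rw [← h3, amp_mk]
    exact h1
  obtain ⟨m₁, -, hm₁⟩ := Amp.eventually ((amp_mk hA.1).2 hA) (mk M hM)
  have hB := hm₁ m₁ le_rfl
  have hN3 : K909.Kleiman.NefC k X' (α ^ m₁ * μ) := by
    have h1 : CohB1.IsAmple (rep (mk A hA.1 ^ m₁ * mk M hM)) := amp_rep hB
    have h2 := (nef_of_isAmple (X ↘ Spec (CommRingCat.of k)) h1).pullback h1.1 b
    have h3 := (K909.Kleiman.nef_iff_nefC k X' (isInvertible_pullback b h1.1)).1
      (K250.NefAmple.nef_conv (isInvertible_pullback b h1.1) h2)
    have h4 : mk _ (isInvertible_pullback b h1.1) = α ^ m₁ * μ := by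
      rw [← pull_mk b h1.1, mk_rep, map_mul, map_pow]
    rwa [h4] at h3
  -- ampleness of `α ι μ`
  have hamp : Amp (α * ι * μ) := by
    refine amp_of_pow (n := a₀ + m₁ + 1) (Nat.succ_pos _) ?_
    have h1 : K909.Kleiman.NefC k X' ((α ^ m₁ * μ) * (ι * μ) ^ (a₀ + m₁)) := hN3.mul k X' (hN2.pow k X' _)
    obtain ⟨N, hN, hNc⟩ := exists_mk ((α ^ m₁ * μ) * (ι * μ) ^ (a₀ + m₁))
    rw [hNc] at h1
    have h2 : CohB1.IsAmple (rep (ι * α ^ (a₀ + 1))) := amp_rep (hH1 (a₀ + 1) (Nat.le_succ _))
    have h3 := K909.Kleiman.isAmple_tensorPow_tensor k (K424.NakMain.nak k) X' d hdim'.le N _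
      ((K909.Kleiman.nef_iff_nefC k X' hN).2 h1) hN h2 1
    rw [← amp_mk h3.1] at h3
    have h4 : ∀ h5, mk (CohB1.tensorMod (CohB1.tensorPow N 1) (rep (ι * α ^ (a₀ + 1)))) h5 =
        (α * ι * μ) ^ (a₀ + m₁ + 1) := fun h5 => by
      rw [← mk_mul_mk (isInvertible_tensorPow hN 1) h2.1, mk_tensorPow hN, mk_rep, pow_one, ← hNc]
      have e1 : α ^ (a₀ + m₁ + 1) = α ^ m₁ * α ^ (a₀ + 1) := by
        rw [← pow_add]
        congr 1
        ring
      rw [mul_pow (α * ι) μ, mul_pow α ι, mul_pow ι μ, e1, pow_succ ι, pow_succ μ]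
      generalize ι ^ (a₀ + m₁) = x
      generalize μ ^ (a₀ + m₁) = y
      generalize α ^ m₁ = γ
      generalize α ^ (a₀ + 1) = δ
      simp only [mul_assoc, mul_comm, mul_left_comm]
    rw [h4] at h3
    exact h3
  -- `ι⁻¹` is effective
  have heff : Eff ι⁻¹ := by
    have hmono : Mono (ClSub.idealModι (J.comap b)) := inferInstance
    have h1 := (exists_mono_iff hI isInvertible_structureModule).1 ⟨ClSub.idealModι (J.comap b), hmono⟩
    rwa [← one_def, one_div] at h1
  -- bigness upstairs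
  have hL' : PicF.IsInvertible ((Scheme.Modules.pullback b).obj L) := isInvertible_pullback b hL
  have hbig : Big (mk _ hL') := by
    intro a ha
    obtain ⟨n₀, hn₀, h⟩ := hamp.eventually_eff a⁻¹
    refine ⟨n₀, hn₀, ?_⟩
    have h1 := (h n₀ le_rfl).mul (heff.pow n₀)
    have h2 : mk _ hL' = α * μ := by rw [← pull_mk b hL, hLA, map_mul]
    rw [h2]
    convert h1 using 1
    rw [mul_pow (α * ι) μ, mul_pow α ι, inv_pow, mul_pow, div_eq_mul_inv]
    generalize α ^ n₀ = x
    generalize ι ^ n₀ = y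
    generalize μ ^ n₀ = z
    rw [show x * y * z * a⁻¹ * y⁻¹ = x * z * a⁻¹ * (y * y⁻¹) by
      simp only [mul_assoc, mul_comm, mul_left_comm], mul_inv_cancel, mul_one]
  have hgr := K931.BigGrowth.growth_of_big k d hdim' (amp_rep hamp) hL' ((big_mk_iff hL').1 hbig)
  exact (BigBir.big_iff k b hbk hbir d hdim hdim' L hL).2 ((growth_conv k _ d).2 hgr)

end K432.BigNef
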