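import Groth.Agent.Variety.K432.NefBasic

/-!
# Contracted curves

* `exists_curve_in_closure`: the closure of a non-closed point contains an integral curve.
* `isFinite_of_no_contracted_curve`: a proper morphism of schemes over a field which contracts no integral curve is
  finite.
-/

set_option autoImplicit false
universe u

open AlgebraicGeometry CategoryTheory TopologicalSpace Limits

namespace K432.Contract

open Groth.Agent Groth.Agent.CycB K432.CurveLift K432.CurveNorm K432.CurveDeg K432.NefBasic

variable {k : Type u} [Field k]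

/-- The closure of a point of positive transcendence degree contains a point of transcendence degree one. -/
theorem exists_curve_in_closure {X : Scheme.{u}} (p : X ⟶ Spec (CommRingCat.of k)) [LocallyOfFiniteType p] (x : X)
    (hx : RelDim.rtd p x ≠ 0) : ∃ c : X, x ⤳ c ∧ topologicalKrullDim (closure {c} : Set X) = 1 := by
  obtain ⟨n, hn, hn'⟩ := exists_dim_closure p x
  have hn0 : n ≠ 0 := by
    rintro rfl
    exact hx (by rw [hn]; rfl)
  clear hn'
  induction n using Nat.strong_induction_on generalizing x with
  | _ n ih =>
    obtain h1 | h1 : n = 1 ∨ 2 ≤ n := by omega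
    · exact ⟨x, specializes_rfl, by rw [show (1 : WithBot ℕ∞) = (1 : ℕ) from rfl, dim_closure_iff p, hn, h1]⟩
    · have h2 : topologicalKrullDim (ptIdeal x).subscheme = n := by
        rw [topologicalKrullDim_subscheme, support_ptIdeal, dim_closure_iff p, hn]
      rw [CurvesB.DimPts.krullDim_eq] at h2
      obtain ⟨l, hl⟩ := Order.le_krullDim_iff.mp (show (2 : ℕ) ≤ Order.krullDim (ptIdeal x).subscheme by
        rw [h2]; exact_mod_cast h1)
      let y : Fin 3 → (ptIdeal x).subscheme := fun i => l.toFun (Fin.cast (by rw [hl]) i)
      have hy : ∀ i j : Fin 3, i < j → y j ⤳ y i ∧ y j ≠ y i := by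
        intro i j hij
        have : y i < y j := l.strictMono (Fin.lt_def.mpr (Fin.lt_def.mp hij))
        exact ⟨this.le, this.ne'⟩
      let z : Fin 3 → X := fun i => (ptIdeal x).subschemeι (y i)
      have hz : ∀ i j : Fin 3, i < j → RelDim.rtd p (z i) < RelDim.rtd p (z j) := by
        intro i j hij
        refine RelDim.rtd_lt_of_specializes p (((hy i j hij).1).map (ptIdeal x).subschemeι.continuous) (fun h => ?_)
          (Subsingleton.elim _ _)
        exact (hy i j hij).2 ((ptIdeal x).subschemeι.isEmbedding.injective h)
      have hxz : ∀ i, x ⤳ z i := by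
        intro i
        rw [specializes_iff_mem_closure, ← range_ptIdeal]
        exact ⟨y i, rfl⟩
      obtain ⟨m, hm, -⟩ := exists_dim_closure p (z 1)
      have h3 : RelDim.rtd p (z 1) ≠ 0 := (lt_of_le_of_lt (zero_le) (hz 0 1 (by decide))).ne'
      have h4 : m < n := by
        have h5 := hz 1 2 (by decide)
        have h6 : RelDim.rtd p (z 2) ≤ RelDim.rtd p x := by
          by_cases h : z 2 = x
          · rw [h]
          · exact (RelDim.rtd_lt_of_specializes p (hxz 2) (Ne.symm h) (Subsingleton.elim _ _)).le
        rw [hm] at h5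
        rw [hn] at h6
        exact_mod_cast h5.trans_le h6
      obtain ⟨c, hc, hc'⟩ := ih m h4 (z 1) h3 hm (by
        rintro rfl
        exact h3 (by rw [hm]; rfl))
      exact ⟨c, (hxz 1).trans hc, hc'⟩

/-- A fibre all of whose points are algebraic over the base point is discrete. -/
theorem discrete_fiber {X Y : Scheme.{u}} (f : X ⟶ Y) [LocallyOfFiniteType f] [QuasiCompact f] (y : Y)
    (h : ∀ x : X, f x = y → RelDim.rtd f x = 0) : Finite (f.fiber y) ∧ DiscreteTopology (f.fiber y) := by
  have hlft : LocallyOfFiniteType (f.fiberToSpecResidueField y) :=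
    inferInstanceAs (LocallyOfFiniteType (Limits.pullback.snd f (Y.fromSpecResidueField y)))
  have hN : IsLocallyNoetherian (f.fiber y) :=
    LocallyOfFiniteType.isLocallyNoetherian (f.fiberToSpecResidueField y)
  have e1 : ∀ t : f.fiber y, f (f.fiberι y t) = y := fun t => by
    have : f.fiberι y t ∈ Set.range (f.fiberι y) := ⟨t, rfl⟩
    rw [Scheme.Hom.range_fiberι] at this
    exact this
  have hdim : topologicalKrullDim (f.fiber y) ≤ 0 := by
    rw [CurvesB.DimPts.krullDim_eq, Order.krullDim_nonpos_iff_forall_isMax]
    intro z w hzw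
    have h1 : w ⤳ z := hzw
    by_contra hne
    have hne' : w ≠ z := by rintro rfl; exact hne le_rfl
    have h2 := RelDim.rtd_lt_of_specializes f (x := f.fiberι y z) (x' := f.fiberι y w)
      (h1.map (f.fiberι y).continuous) (fun h => hne' ((f.fiberι y).isEmbedding.injective h)) (by rw [e1, e1])
    rw [h _ (e1 _), h _ (e1 _)] at h2
    exact lt_irrefl _ h2
  have hA := IsLocallyArtinian.of_topologicalKrullDim_le_zero hdim
  have hc : CompactSpace (f.fiber y) := inferInstance
  have hA' : IsArtinianScheme (f.fiber y) := { }
  exact ⟨inferInstance, inferInstance⟩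

/-- A proper morphism, with algebraic residue field extensions over the closed points, is finite. -/
theorem isFinite_of_closedPoints {X Y : Scheme.{u}} [CompactSpace X] (f : X ⟶ Y) [IsProper f]
    (h : ∀ x : X, IsClosed {f x} → RelDim.rtd f x = 0) : IsFinite f := by
  have : LocallyQuasiFinite f := by
    rw [← Scheme.Hom.quasiFiniteLocus_eq_top_iff]
    by_contra hne
    have hcl : IsClosed ((f.quasiFiniteLocus : Set X)ᶜ) := f.quasiFiniteLocus.2.isClosed_compl
    have hnonempty : ((f.quasiFiniteLocus : Set X)ᶜ).Nonempty := by
      rw [Set.nonempty_compl]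
      intro h'
      exact hne (TopologicalSpace.Opens.ext h')
    obtain ⟨x, hx, hx'⟩ := hcl.exists_closed_singleton hnonempty
    refine hx ?_
    change f.QuasiFiniteAt x
    rw [Scheme.Hom.quasiFiniteAt_iff_isOpen_singleton_asFiber]
    have hy : IsClosed {f x} := by
      rw [← Set.image_singleton]
      exact f.isClosedMap _ hx'
    obtain ⟨-, h2⟩ := discrete_fiber f (f x) (fun x' hx' => h x' (by rw [hx']; exact hy))
    exact isOpen_discrete _
  exact IsFinite.of_isProper_of_locallyQuasiFinite f

/-- A proper morphism of proper schemes over a field which contracts no integral curve is finite. -/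
theorem isFinite_of_no_contracted_curve {X Y : Scheme.{u}} (p : Y ⟶ Spec (CommRingCat.of k))
    [LocallyOfFiniteType p] (f : X ⟶ Y) [IsProper f] [CompactSpace X]
    (h : ∀ c : X, topologicalKrullDim (closure {c} : Set X) = 1 → ∃ z ∈ closure {c}, f z ≠ f c) : IsFinite f := by
  refine isFinite_of_closedPoints f fun x hx => ?_
  by_contra hne
  have h1 : RelDim.rtd (f ≫ p) x ≠ 0 := by
    rw [RelDim.rtd_comp]
    intro h2
    exact hne (add_eq_zero.mp h2).2
  obtain ⟨c, hc, hc'⟩ := exists_curve_in_closure (f ≫ p) x h1
  obtain ⟨z, hz, hz'⟩ := h c hc'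
  have key : ∀ w, x ⤳ w → f w = f x := by
    intro w hw
    have h3 : f x ⤳ f w := hw.map f.continuous
    have h4 : f w ∈ closure {f x} := h3.mem_closure
    rw [hx.closure_eq] at h4
    exact h4
  exact hz' (by rw [key z (hc.trans (specializes_iff_mem_closure.mpr hz)), key c hc])

end K432.Contract
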