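import Groth.Agent.EGA2.K35.PE
import Groth.Agent.EGA2.K35.UnivIso
import Groth.Agent.EGA2.K35.EpiGn

/-!
# Projective bundles with their fundamental module

`IsPBun E p O1 φ`: `p : P ⟶ X` is the projective bundle of the quasi-coherent module `E` with fundamental module
`O1` and canonical map `φ : E ⟶ p_* O1` (universal property of `K35.Univ`).

* `pd r p φ hr : E ⟶ g_* r^* O1`, the datum pulled back along `r : T ⟶ P`, `r ≫ p = g`.
* `Mt ρ φ r hr`: the datum `(g, L, ρ)` is matched with the pullback of `φ` along `r`.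
* `IsPBun.exists_mt`, `Mt.eq`: existence and uniqueness.
* `IsPBun.epi`: the canonical map `p^* E ⟶ O1` is an epimorphism.
* `IsPBun.exists_mono`: an epimorphism `E ⟶ F` gives a monomorphism `P(F) ⟶ P(E)`.
* `IsPBun.exists_isPullback`: base change.
-/

set_option autoImplicit false
universe u

open AlgebraicGeometry CategoryTheory TopologicalSpace Limits Opposite

noncomputable section
namespace K432.PBun

open Groth.Agent.Fdesc.LocGen Groth.Agent.Ega2.Nv K43.VADef K42.VATens K35.Univ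

variable {X P T Z : Scheme.{u}}

/-- `p : P ⟶ X` is the projective bundle of `E`, with fundamental module `O1` and canonical map `φ`. -/
structure IsPBun (E : X.Modules) (p : P ⟶ X) (O1 : P.Modules)
    (φ : E ⟶ (Scheme.Modules.pushforward p).obj O1) : Prop where
  qcoh : Coh.IsQCoh E
  inv : PicF.IsInvertible O1
  univ : IsUniv p φ

/-- The datum pulled back along `r`. -/
def pd (r : T ⟶ P) (p : P ⟶ X) {E : X.Modules} {O1 : P.Modules} (φ : E ⟶ (Scheme.Modules.pushforward p).obj O1)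
    {g : T ⟶ X} (hr : r ≫ p = g) : E ⟶ (Scheme.Modules.pushforward g).obj ((Scheme.Modules.pullback r).obj O1) :=
  hr ▸ pullD r p φ

theorem pd_rfl (r : T ⟶ P) (p : P ⟶ X) {E : X.Modules} {O1 : P.Modules}
    (φ : E ⟶ (Scheme.Modules.pushforward p).obj O1) : pd r p φ rfl = pullD r p φ := rfl

/-- Naturality in `E`. -/
theorem pd_precomp (r : T ⟶ P) (p : P ⟶ X) {E F : X.Modules} {O1 : P.Modules} (e : E ⟶ F)
    (φ : F ⟶ (Scheme.Modules.pushforward p).obj O1) {g : T ⟶ X} (hr : r ≫ p = g) :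
    pd r p (e ≫ φ) hr = e ≫ pd r p φ hr := by
  subst hr
  rfl

/-- Naturality in `O1`. -/
theorem pd_map (r : T ⟶ P) (p : P ⟶ X) {E : X.Modules} {O1 O2 : P.Modules} (τ : O1 ⟶ O2)
    (φ : E ⟶ (Scheme.Modules.pushforward p).obj O1) {g : T ⟶ X} (hr : r ≫ p = g) :
    pd r p (φ ≫ (Scheme.Modules.pushforward p).map τ) hr =
      pd r p φ hr ≫ (Scheme.Modules.pushforward g).map ((Scheme.Modules.pullback r).map τ) := by
  subst hr
  change (φ ≫ (Scheme.Modules.pushforward p).map τ) ≫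
      (Scheme.Modules.pushforward p).map ((Scheme.Modules.pullbackPushforwardAdjunction r).unit.app O2) =
    (φ ≫ (Scheme.Modules.pushforward p).map ((Scheme.Modules.pullbackPushforwardAdjunction r).unit.app O1)) ≫
      (Scheme.Modules.pushforward p).map
        ((Scheme.Modules.pushforward r).map ((Scheme.Modules.pullback r).map τ))
  rw [Category.assoc, Category.assoc, ← Functor.map_comp, ← Functor.map_comp]
  congr 2
  exact (Scheme.Modules.pullbackPushforwardAdjunction r).unit.naturality τ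

theorem se_pd (r : T ⟶ P) (p : P ⟶ X) {E : X.Modules} {O1 : P.Modules}
    (φ : E ⟶ (Scheme.Modules.pushforward p).obj O1) {U : X.Opens} (t : Γ(E, U)) :
    se (r ≫ p) (pd r p φ rfl) t = pullSec r (se p φ t) := rfl

theorem hom_ext_se {g : T ⟶ X} {E : X.Modules} {L : T.Modules} {ρ ρ' : E ⟶ (Scheme.Modules.pushforward g).obj L}
    (h : ∀ (U : X.Opens) (t : Γ(E, U)), se g ρ t = se g ρ' t) : ρ = ρ' := by
  apply Scheme.Modules.hom_ext
  intro U
  ext t
  exact h U t

theorem se_map {g : T ⟶ X} {E : X.Modules} {L M : T.Modules} (ρ : E ⟶ (Scheme.Modules.pushforward g).obj L)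
    (τ : L ⟶ M) {U : X.Opens} (t : Γ(E, U)) :
    se g (ρ ≫ (Scheme.Modules.pushforward g).map τ) t = τ.app (g ⁻¹ᵁ U) (se g ρ t) := rfl

/-- Functoriality. -/
theorem pd_comp (a : T ⟶ Z) (r : Z ⟶ P) (p : P ⟶ X) {E : X.Modules} {O1 : P.Modules}
    (φ : E ⟶ (Scheme.Modules.pushforward p).obj O1) {q : Z ⟶ X} (hr : r ≫ p = q) {g : T ⟶ X} (ha : a ≫ q = g)
    (har : (a ≫ r) ≫ p = g) :
    pd (a ≫ r) p φ har =
      pd a q (pd r p φ hr) ha ≫ (Scheme.Modules.pushforward g).map ((Scheme.Modules.pullbackComp a r).hom.app O1) := by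
  subst hr
  subst ha
  refine hom_ext_se fun U t => ?_
  rw [se_map]
  exact (pullSec_comp' a r (M := O1) (se p φ t)).symm

theorem congr_hom_comp {c c' : T ⟶ P} (h : c = c') (M : P.Modules) :
    (Scheme.Modules.pullbackCongr h).hom.app M ≫ (Scheme.Modules.pullbackCongr h.symm).hom.app M = 𝟙 _ := by
  subst h
  have h1 : (Scheme.Modules.pullbackCongr (rfl : c = c)).hom.app M = 𝟙 _ := rfl
  rw [h1, Category.comp_id]

theorem pd_congr {p : P ⟶ X} {E : X.Modules} {O1 : P.Modules} (φ : E ⟶ (Scheme.Modules.pushforward p).obj O1)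
    {g : T ⟶ X} {c c' : T ⟶ P} (h : c = c') (hc : c ≫ p = g) (hc' : c' ≫ p = g) :
    pd c' p φ hc' = pd c p φ hc ≫ (Scheme.Modules.pushforward g).map
      ((Scheme.Modules.pullbackCongr h).hom.app O1) := by
  subst h
  have h1 : (Scheme.Modules.pullbackCongr (rfl : c = c)).hom.app O1 = 𝟙 _ := rfl
  rw [h1, CategoryTheory.Functor.map_id, Category.comp_id]

/-- The datum `(g, L, ρ)` is matched with the pullback of `φ` along `r`. -/
def Mt {g : T ⟶ X} {p : P ⟶ X} {E : X.Modules} {L : T.Modules} {O1 : P.Modules}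
    (ρ : E ⟶ (Scheme.Modules.pushforward g).obj L) (φ : E ⟶ (Scheme.Modules.pushforward p).obj O1)
    (r : T ⟶ P) (hr : r ≫ p = g) : Prop :=
  ∃ τ : (Scheme.Modules.pullback r).obj O1 ≅ L, pd r p φ hr ≫ (Scheme.Modules.pushforward g).map τ.hom = ρ

section

variable {g : T ⟶ X} {p : P ⟶ X} {E : X.Modules} {L : T.Modules} {O1 : P.Modules}
  {ρ : E ⟶ (Scheme.Modules.pushforward g).obj L} {φ : E ⟶ (Scheme.Modules.pushforward p).obj O1}
  {r : T ⟶ P} {hr : r ≫ p = g}

theorem mt_self (φ : E ⟶ (Scheme.Modules.pushforward p).obj O1) (r : T ⟶ P) (hr : r ≫ p = g) :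
    Mt (pd r p φ hr) φ r hr :=
  ⟨Iso.refl _, by rw [Iso.refl_hom, CategoryTheory.Functor.map_id, Category.comp_id]⟩

theorem Mt.comp (h : Mt ρ φ r hr) : Comp ρ φ r hr := by
  obtain ⟨τ, hτ⟩ := h
  subst hr
  subst hτ
  exact K35.UnivIso.comp_of_hom τ.hom fun V t => rfl

theorem mt_of_comp (hP : Gn p φ) (h : Comp ρ φ r hr) : Mt ρ φ r hr := by
  subst hr
  obtain ⟨τ, hτ⟩ := K35.UnivIso.exists_iso_of_comp hP h
  exact ⟨τ, hom_ext_se fun U t => hτ U t⟩

theorem IsPBun.exists_mt (h : IsPBun E p O1 φ) (hρ : Gn g ρ) : ∃ (r : T ⟶ P) (hr : r ≫ p = g), Mt ρ φ r hr := by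
  obtain ⟨r, hr, hc⟩ := exists_comp h.univ h.qcoh hρ
  exact ⟨r, hr, mt_of_comp h.univ.gn hc⟩

theorem Mt.eq (h : IsPBun E p O1 φ) (hρ : Gn g ρ) {r' : T ⟶ P} {hr' : r' ≫ p = g} (h1 : Mt ρ φ r hr)
    (h2 : Mt ρ φ r' hr') : r = r' :=
  Comp.eq h.univ hρ h1.comp h2.comp

theorem gn_pd (hφ : Gn p φ) (r : T ⟶ P) (hr : r ≫ p = g) : Gn g (pd r p φ hr) := by
  subst hr
  intro z
  obtain ⟨U, e, he⟩ := hφ (r z)
  refine ⟨U, e, ?_⟩
  have h1 : r ⁻¹ᵁ (nz p φ e) ≤ nz (r ≫ p) (pullD r p φ) e := by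
    have := (isGen_nv O1 (se p φ e)).pullSec r
    rw [← res_pullSec] at this
    exact (le_nv_iff _ _ (r.preimage_mono (nv_le _ _))).mpr this
  exact h1 he

/-- Every invertible quotient of `g^* E` comes from a morphism to the projective bundle. -/
theorem IsPBun.exists_of_epi (h : IsPBun E p O1 φ) (hL : PicF.IsInvertible L)
    (s : (Scheme.Modules.pullback g).obj E ⟶ L) (hs : Epi s) :
    ∃ (r : T ⟶ P) (_ : r ≫ p = g), Nonempty ((Scheme.Modules.pullback r).obj O1 ≅ L) := by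
  obtain ⟨r, hr, τ, -⟩ := h.exists_mt (gn_of_epi hL s)
  exact ⟨r, hr, ⟨τ⟩⟩

/-- The canonical map. -/
def IsPBun.can (_ : IsPBun E p O1 φ) : (Scheme.Modules.pullback p).obj E ⟶ O1 :=
  ((Scheme.Modules.pullbackPushforwardAdjunction p).homEquiv E O1).symm φ

instance IsPBun.epi (h : IsPBun E p O1 φ) : Epi h.can := K35.EpiGn.epi_of_gn h.univ.gn

theorem gn_precomp {F : X.Modules} (e : F ⟶ E) [Epi e] (hL : PicF.IsInvertible L) (hρ : Gn g ρ) : Gn g (e ≫ ρ) := by
  have h1 : Epi (((Scheme.Modules.pullbackPushforwardAdjunction g).homEquiv E L).symm ρ) :=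
    K35.EpiGn.epi_of_gn hρ
  have hla : (Scheme.Modules.pullback g).IsLeftAdjoint :=
    (Scheme.Modules.pullbackPushforwardAdjunction g).isLeftAdjoint
  have h2 : Epi ((Scheme.Modules.pullback g).map e) := inferInstance
  have h3 : ((Scheme.Modules.pullbackPushforwardAdjunction g).homEquiv F L)
      ((Scheme.Modules.pullback g).map e ≫
        ((Scheme.Modules.pullbackPushforwardAdjunction g).homEquiv E L).symm ρ) = e ≫ ρ := by
    rw [Adjunction.homEquiv_naturality_left, Equiv.apply_symm_apply]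
  rw [← h3]
  exact gn_of_epi hL _

end

/-- An epimorphism `E ⟶ F` gives a monomorphism `P(F) ⟶ P(E)` compatible with the fundamental modules. -/
theorem exists_mono {PE PF : Scheme.{u}} {E F : X.Modules} (e : E ⟶ F) [Epi e] {pE : PE ⟶ X} {pF : PF ⟶ X}
    {OE : PE.Modules} {OF : PF.Modules} {φE : E ⟶ (Scheme.Modules.pushforward pE).obj OE}
    {φF : F ⟶ (Scheme.Modules.pushforward pF).obj OF} (hE : IsPBun E pE OE φE) (hF : IsPBun F pF OF φF) :
    ∃ (r : PF ⟶ PE) (_ : r ≫ pE = pF) (_ : Mono r), Nonempty ((Scheme.Modules.pullback r).obj OE ≅ OF) := by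
  obtain ⟨r, hr, ω, hω⟩ := hE.exists_mt (gn_precomp e hF.inv hF.univ.gn)
  refine ⟨r, hr, ⟨fun {T} a b hab => ?_⟩, ⟨ω⟩⟩
  have hb : b ≫ pF = a ≫ pF := by rw [← hr, ← Category.assoc, ← hab, Category.assoc]
  -- the datum of `E` pulled back along `c ≫ r`
  have key : ∀ (c : T ⟶ PF) (hc : c ≫ pF = a ≫ pF) (hc' : (c ≫ r) ≫ pE = a ≫ pF),
      e ≫ pd c pF φF hc = pd (c ≫ r) pE φE hc' ≫ (Scheme.Modules.pushforward (a ≫ pF)).map
        ((Scheme.Modules.pullbackComp c r).inv.app OE ≫ (Scheme.Modules.pullback c).map ω.hom) := by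
    intro c hc hc'
    rw [← pd_precomp, ← hω, pd_map, pd_comp c r pE φE hr hc hc', Category.assoc, ← Functor.map_comp]
    simp
  have ha1 : (a ≫ r) ≫ pE = a ≫ pF := by rw [Category.assoc, hr]
  have hb1 : (b ≫ r) ≫ pE = a ≫ pF := by rw [Category.assoc, hr, hb]
  let τ : (Scheme.Modules.pullback b).obj OF ≅ (Scheme.Modules.pullback a).obj OF :=
    (Scheme.Modules.pullback b).mapIso ω.symm ≪≫ (Scheme.Modules.pullbackComp b r).app OE ≪≫
      (Scheme.Modules.pullbackCongr hab.symm).app OE ≪≫ (Scheme.Modules.pullbackComp a r).symm.app OE ≪≫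
      (Scheme.Modules.pullback a).mapIso ω
  refine Mt.eq hF (gn_pd hF.univ.gn a rfl) (mt_self φF a rfl) (⟨τ, ?_⟩ : Mt _ φF b hb)
  rw [← cancel_epi e, ← Category.assoc, key b hb hb1, key a rfl ha1, pd_congr φE hab ha1 hb1]
  simp only [Category.assoc, ← Functor.map_comp]
  congr 2
  have h1 := congr_hom_comp hab OE
  simp only [τ, Iso.trans_hom, Iso.app_hom, Iso.symm_hom, Functor.mapIso_hom, Functor.mapIso_symm,
    Functor.mapIso_inv, ← Functor.map_comp_assoc, Iso.hom_inv_id, CategoryTheory.Functor.map_id, Category.id_comp,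
    Iso.inv_hom_id_app_assoc, reassoc_of% h1]

section BaseChange

variable {X' : Scheme.{u}} (ψ : X' ⟶ X) {h : T ⟶ X'}

/-- The datum of `E` underlying a datum of `ψ^* E`. -/
def und {E : X.Modules} {L : T.Modules}
    (ρ : (Scheme.Modules.pullback ψ).obj E ⟶ (Scheme.Modules.pushforward h).obj L) :
    E ⟶ (Scheme.Modules.pushforward (h ≫ ψ)).obj L :=
  (Scheme.Modules.pullbackPushforwardAdjunction ψ).homEquiv E ((Scheme.Modules.pushforward h).obj L) ρ

theorem se_und {E : X.Modules} {L : T.Modules}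
    (ρ : (Scheme.Modules.pullback ψ).obj E ⟶ (Scheme.Modules.pushforward h).obj L) {U : X.Opens} (t : Γ(E, U)) :
    se (h ≫ ψ) (und ψ ρ) t = se h ρ (pullSec ψ t) :=
  homEquiv_app ψ ρ t

theorem und_injective {E : X.Modules} {L : T.Modules}
    {ρ ρ' : (Scheme.Modules.pullback ψ).obj E ⟶ (Scheme.Modules.pushforward h).obj L} (e : und ψ ρ = und ψ ρ') :
    ρ = ρ' :=
  ((Scheme.Modules.pullbackPushforwardAdjunction ψ).homEquiv E ((Scheme.Modules.pushforward h).obj L)).injective e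

theorem exists_und {E : X.Modules} {L : T.Modules} (ρ : E ⟶ (Scheme.Modules.pushforward (h ≫ ψ)).obj L) :
    ∃ ρ' : (Scheme.Modules.pullback ψ).obj E ⟶ (Scheme.Modules.pushforward h).obj L, und ψ ρ' = ρ :=
  ((Scheme.Modules.pullbackPushforwardAdjunction ψ).homEquiv E
    ((Scheme.Modules.pushforward h).obj L)).surjective ρ

theorem und_map {E : X.Modules} {L M : T.Modules}
    (ρ : (Scheme.Modules.pullback ψ).obj E ⟶ (Scheme.Modules.pushforward h).obj L) (τ : L ⟶ M) :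
    und ψ (ρ ≫ (Scheme.Modules.pushforward h).map τ) = und ψ ρ ≫ (Scheme.Modules.pushforward (h ≫ ψ)).map τ := by
  refine hom_ext_se fun U t => ?_
  rw [se_map, se_und, se_und, se_map]
  rfl

theorem und_pd {P' : Scheme.{u}} {E : X.Modules} {O1 : P'.Modules} {p' : P' ⟶ X'}
    (φ' : (Scheme.Modules.pullback ψ).obj E ⟶ (Scheme.Modules.pushforward p').obj O1) (a : T ⟶ P')
    (ha : a ≫ p' = h) (ha' : a ≫ (p' ≫ ψ) = h ≫ ψ) : und ψ (pd a p' φ' ha) = pd a (p' ≫ ψ) (und ψ φ') ha' := by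
  subst ha
  refine hom_ext_se fun U t => ?_
  rw [se_und]
  have h1 : se (a ≫ (p' ≫ ψ)) (pd a (p' ≫ ψ) (und ψ φ') rfl) t = pullSec a (se (p' ≫ ψ) (und ψ φ') t) := rfl
  rw [se_und] at h1
  exact h1.symm

theorem gn_of_und {E : X.Modules} {L : T.Modules}
    {ρ : (Scheme.Modules.pullback ψ).obj E ⟶ (Scheme.Modules.pushforward h).obj L} (hρ : Gn (h ≫ ψ) (und ψ ρ)) :
    Gn h ρ := by
  intro x
  obtain ⟨U, e, he⟩ := hρ x
  refine ⟨ψ ⁻¹ᵁ U, pullSec ψ e, ?_⟩
  have h1 : nz (h ≫ ψ) (und ψ ρ) e = nz h ρ (pullSec ψ e) := by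
    change nv L (se (h ≫ ψ) (und ψ ρ) e) = nv L (se h ρ (pullSec ψ e))
    rw [se_und]
    rfl
  rw [← h1]
  exact he

/-- **Base change of projective bundles.** -/
theorem exists_isPullback {P' : Scheme.{u}} {E : X.Modules} {p : P ⟶ X} {O1 : P.Modules}
    {φ : E ⟶ (Scheme.Modules.pushforward p).obj O1} (hP : IsPBun E p O1 φ) {p' : P' ⟶ X'} {O1' : P'.Modules}
    {φ' : (Scheme.Modules.pullback ψ).obj E ⟶ (Scheme.Modules.pushforward p').obj O1'}
    (hP' : IsPBun ((Scheme.Modules.pullback ψ).obj E) p' O1' φ') :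
    ∃ G : P' ⟶ P, IsPullback G p' p ψ ∧ Nonempty ((Scheme.Modules.pullback G).obj O1 ≅ O1') := by
  have hgn' : Gn (p' ≫ ψ) (und ψ φ') := by
    have h1 : Epi (((Scheme.Modules.pullbackPushforwardAdjunction p').homEquiv _ _).symm φ') :=
      K35.EpiGn.epi_of_gn hP'.univ.gn
    have h2 := gn_of_epi hP'.inv ((Scheme.Modules.pullbackComp p' ψ).inv.app E ≫
      ((Scheme.Modules.pullbackPushforwardAdjunction p').homEquiv _ _).symm φ')
    have h3 : (Scheme.Modules.pullbackPushforwardAdjunction (p' ≫ ψ)).homEquiv E O1'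
        ((Scheme.Modules.pullbackComp p' ψ).inv.app E ≫
        ((Scheme.Modules.pullbackPushforwardAdjunction p').homEquiv _ _).symm φ') = und ψ φ' := by
      refine hom_ext_se fun U t => ?_
      rw [se_und]
      refine (homEquiv_app (p' ≫ ψ) _ t).trans ?_
      change (((Scheme.Modules.pullbackPushforwardAdjunction p').homEquiv _ _).symm φ').app _
        (((Scheme.Modules.pullbackComp p' ψ).inv.app E).app _ (pullSec (p' ≫ ψ) t)) = _
      rw [pullSec_comp]
      exact K35.EpiGn.symm_app_pullSec p' φ' (pullSec ψ t)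
    rw [h3] at h2
    exact h2
  obtain ⟨G, hG, ω, hω⟩ := hP.exists_mt hgn'
  -- the datum of `ψ^* E` pulled back along `c`
  have key : ∀ {T : Scheme.{u}} (c : T ⟶ P') {b : T ⟶ X'} (hc : c ≫ p' = b) (hc' : (c ≫ G) ≫ p = b ≫ ψ),
      und ψ (pd c p' φ' hc) = pd (c ≫ G) p φ hc' ≫ (Scheme.Modules.pushforward (b ≫ ψ)).map
        ((Scheme.Modules.pullbackComp c G).inv.app O1 ≫ (Scheme.Modules.pullback c).map ω.hom) := by
    intro T c b hc hc'
    have h0 : c ≫ (p' ≫ ψ) = b ≫ ψ := by rw [← hc, Category.assoc]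
    rw [und_pd ψ φ' c hc h0, ← hω, pd_map, pd_comp c G p φ hG h0 hc', Category.assoc, ← Functor.map_comp]
    simp
  have hun : ∀ {T : Scheme.{u}} (c c' : T ⟶ P'), c ≫ G = c' ≫ G → c ≫ p' = c' ≫ p' → c = c' := by
    intro T c c' h1 h2
    have hc1 : (c ≫ G) ≫ p = (c ≫ p') ≫ ψ := by rw [Category.assoc, hG, Category.assoc]
    have hc1' : (c' ≫ G) ≫ p = (c ≫ p') ≫ ψ := by rw [← h1, hc1]
    let τ : (Scheme.Modules.pullback c').obj O1' ≅ (Scheme.Modules.pullback c).obj O1' :=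
      (Scheme.Modules.pullback c').mapIso ω.symm ≪≫ (Scheme.Modules.pullbackComp c' G).app O1 ≪≫
        (Scheme.Modules.pullbackCongr h1.symm).app O1 ≪≫ (Scheme.Modules.pullbackComp c G).symm.app O1 ≪≫
        (Scheme.Modules.pullback c).mapIso ω
    refine Mt.eq hP' (gn_pd hP'.univ.gn c rfl) (mt_self φ' c rfl) (⟨τ, ?_⟩ : Mt _ φ' c' h2.symm)
    apply und_injective ψ
    rw [und_map, key c' h2.symm hc1', key c rfl hc1, pd_congr φ h1 hc1 hc1']
    simp only [Category.assoc, ← Functor.map_comp]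
    congr 2
    have h3 := congr_hom_comp h1 O1
    simp only [τ, Iso.trans_hom, Iso.app_hom, Iso.symm_hom, Functor.mapIso_hom, Functor.mapIso_symm,
      Functor.mapIso_inv, ← Functor.map_comp_assoc, Iso.hom_inv_id, CategoryTheory.Functor.map_id, Category.id_comp,
      Iso.inv_hom_id_app_assoc, reassoc_of% h3]
  have hex : ∀ {T : Scheme.{u}} (a : T ⟶ P) (b : T ⟶ X'), a ≫ p = b ≫ ψ →
      ∃ c : T ⟶ P', c ≫ G = a ∧ c ≫ p' = b := by
    intro T a b w
    obtain ⟨ρ, hρ⟩ := exists_und ψ (pd a p φ w)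
    have hg1 : Gn (b ≫ ψ) (pd a p φ w) := gn_pd hP.univ.gn a w
    have hg2 : Gn b ρ := gn_of_und ψ (by rw [hρ]; exact hg1)
    obtain ⟨c, hc, τ, hτ⟩ := hP'.exists_mt hg2
    refine ⟨c, ?_, hc⟩
    have hc1 : (c ≫ G) ≫ p = b ≫ ψ := by rw [Category.assoc, hG, ← Category.assoc, hc]
    refine Mt.eq hP hg1 (?_ : Mt _ φ (c ≫ G) hc1) (mt_self φ a w)
    refine ⟨(Scheme.Modules.pullbackComp c G).symm.app O1 ≪≫ (Scheme.Modules.pullback c).mapIso ω ≪≫ τ, ?_⟩
    rw [← hρ, ← hτ, und_map, key c hc hc1, Category.assoc, ← Functor.map_comp]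
    simp
  refine ⟨G, ⟨⟨hG⟩, ⟨PullbackCone.IsLimit.mk _ (fun s => (hex s.fst s.snd s.condition).choose)
    (fun s => (hex s.fst s.snd s.condition).choose_spec.1)
    (fun s => (hex s.fst s.snd s.condition).choose_spec.2) fun s m h1 h2 => ?_⟩⟩, ⟨ω⟩⟩
  refine hun _ _ ?_ ?_
  · rw [h1]; exact (hex s.fst s.snd s.condition).choose_spec.1.symm
  · rw [h2]; exact (hex s.fst s.snd s.condition).choose_spec.2.symm

end BaseChange

end K432.PBun
end
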