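import Groth.Agent.Variety.K432.PBun
import Groth.Agent.EGA2.K35.ProjBundle
import Groth.Agent.EGA2.K32.ProjProper
import Groth.Agent.EGA2.K43.GrSym
import Groth.Agent.S8258
import Groth.Agent.S8284

/-!
# Projective bundles from relative homogeneous spectra of graded symmetric algebras

* `exists_isPBun`: relative Proj data of the graded symmetric algebra of `E` with its `O(1)` is a projective bundle
  in the sense of `IsPBun`, proper if `E` is of finite type.
* `exists_data`: existence of such data.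
-/

set_option autoImplicit false
universe u

open AlgebraicGeometry CategoryTheory TopologicalSpace Limits Opposite

namespace K432.PData

open K432.PBun

variable {X P : Scheme.{u}} {E : X.Modules}

/-- Relative Proj data of the graded symmetric algebra of `E` is a projective bundle. -/
theorem exists_isPBun (hE : Coh.IsQCoh E) (hE' : CohB1.IsFT E) {𝒮 : RelProj.QCGrAlg X} {j : E ⟶ 𝒮.toModule}
    {p : P ⟶ X} {chart : ∀ (U : X.Opens) (hU : IsAffineOpen U), (((p ⁻¹ᵁ U : P.Opens) : Scheme.{u}) ≅ Proj (𝒮.deg U hU))}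
    {O1 : P.Modules} {lam : ∀ (U : X.Opens) (hU : IsAffineOpen U),
      O1 ⟶ (Scheme.Modules.pushforward (RelProj.emb p chart U hU)).obj (GrTwist.twist (𝒮.deg U hU) 1)}
    (hj : RelProj.IsGrSymAlg E 𝒮 j) (hP : RelProj.IsRelProj 𝒮 p chart)
    (hL : RelProj.IsRelTwist 𝒮 p chart 1 O1 lam) :
    IsProper p ∧ ∃ φ : E ⟶ (Scheme.Modules.pushforward p).obj O1, IsPBun E p O1 φ :=
  ⟨Groth.Agent.EGA2.K32.ProjProper.isProper_of_isRelProj hP (K35.ProjBundle.isGenDegOne hE hj)
    (K35.ProjBundle.isFTDeg_one hE hE' hj), _,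
    ⟨hE, K43.CanMap.isInvertible hP hL (K35.PE.pack hE hj), K35.PE.isUniv_canMap hP hL hE hj⟩⟩

/-- Existence of relative Proj data of the graded symmetric algebra. -/
theorem exists_data (hE : Coh.IsQCoh E) :
    ∃ (𝒮 : RelProj.QCGrAlg X) (j : E ⟶ 𝒮.toModule) (P : Scheme.{u}) (p : P ⟶ X)
      (chart : ∀ (U : X.Opens) (hU : IsAffineOpen U),
          (((p ⁻¹ᵁ U : P.Opens) : Scheme.{u}) ≅ Proj (𝒮.deg U hU)))
      (O1 : P.Modules)
      (lam : ∀ (U : X.Opens) (hU : IsAffineOpen U),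
          O1 ⟶ (Scheme.Modules.pushforward (RelProj.emb p chart U hU)).obj (GrTwist.twist (𝒮.deg U hU) 1)),
      RelProj.IsGrSymAlg E 𝒮 j ∧ RelProj.IsRelProj 𝒮 p chart ∧ RelProj.IsRelTwist 𝒮 p chart 1 O1 lam := by
  obtain ⟨𝒮, j, hj⟩ := K43.GrSym.exists_grSym hE
  obtain ⟨P, p, chart, hP⟩ := Groth.Agent.S8258.result 𝒮
  obtain ⟨O1, lam, hL⟩ := Groth.Agent.S8284.result 𝒮 p chart hP 1
  exact ⟨𝒮, j, P, p, chart, O1, lam, hj, hP, hL⟩

end K432.PData
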