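import Groth.Agent.Variety.K432.SymPol
import Groth.Agent.ShStab.K849.FrobPull
import Groth.Agent.SDiv.K476.TensStalk
import Groth.Agent.Krr.H490.LocBasisPull
import Groth.Agent.Krr.H487.KerRank

/-!
# Polarisation at the generic stalk

`X` integral, `K` its function field.  A `K`-linear map `ψ : T_η → Sym_K(F_η)` which is integral at all points of `X`,
`F` locally free with dual `E`, is reduced by derivations (tensor products with `E`) and Frobenius pull-backs
to a non-zero morphism to `O_X`.
-/

set_option autoImplicit false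
set_option backward.isDefEq.respectTransparency false
universe u
open CategoryTheory CategoryTheory.Limits AlgebraicGeometry Opposite TopologicalSpace Module MvPolynomial

noncomputable section

namespace K432.Polar

open Groth.Agent K848.TF K849.Cst K849.FrobPull K432.SymPol K476.TensStalk

variable {X : Scheme.{u}} [IsIntegral X]

/-- Generic stalk. -/
abbrev St (F : X.Modules) : Type u := F.presheaf.stalk (genericPoint X)

/-- The local ring as a subring of the function field. -/
def RR (y : X) : Subring X.functionField := (X.presheaf.stalkSpecializes (gen y)).hom.range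

/-- The stalk in the generic stalk. -/
def LL (F : X.Modules) (y : X) : Set (St F) := Set.range (F.presheaf.stalkSpecializes (gen y))

theorem smul_mem_LL {F : X.Modules} {y : X} {r : X.functionField} (hr : r ∈ RR y) {v : St F} (hv : v ∈ LL F y) :
    r • v ∈ LL F y := by
  obtain ⟨r, rfl⟩ := hr
  obtain ⟨v, rfl⟩ := hv
  exact ⟨r • v, spec_smul F (gen y) r v⟩

theorem add_mem_LL {F : X.Modules} {y : X} {v w : St F} (hv : v ∈ LL F y) (hw : w ∈ LL F y) :
    v + w ∈ LL F y := by
  obtain ⟨v, rfl⟩ := hv
  obtain ⟨w, rfl⟩ := hw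
  exact ⟨v + w, map_add _ v w⟩

/-- An integral duality of generic stalks. -/
structure Pr (F E : X.Modules) where
  pr : St E →ₗ[X.functionField] (St F →ₗ[X.functionField] X.functionField)
  surj : Function.Surjective pr
  int : ∀ y, ∀ e ∈ LL E y, ∀ v ∈ LL F y, pr e v ∈ RR y

/-- Local bases of a module, at the generic stalk. -/
def HB (F : X.Modules) (r : ℕ) : Prop := ∀ y : X, ∃ c : Basis (Fin r) X.functionField (St F),
  (∀ i, c i ∈ LL F y) ∧ ∀ v ∈ LL F y, ∀ i, c.repr v i ∈ RR y

open Groth.Agent.Sga67.Sec Groth.Agent.Sga67.LocBasis Groth.Agent.Sga67.LocBasisStalk in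
theorem hB_of_rank {F : X.Modules} {r : ℕ} (hF : FlatMod.IsFinLocFreeOfRank r F) : HB F r := by
  intro y
  obtain ⟨U, hy, b, hb⟩ := (Krr.H487.KerRank.isFinLocFreeOfRank_iff _).mp hF y
  have hη : genericPoint X ∈ U := gen_mem hy
  let c : Basis (Fin r) X.functionField (St F) := Krr.H490.LocBasisPull.stalkBasis hb (genericPoint X) hη
  have hc : ∀ i, F.presheaf.stalkSpecializes (gen y) (ger F y hy (b i)) = c i := fun i => by
    rw [Krr.H490.LocBasisPull.stalkBasis_apply]
    exact germ_spec F (gen y) hy (b i)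
  refine ⟨c, fun i => ⟨_, hc i⟩, ?_⟩
  rintro _ ⟨m, rfl⟩ i
  obtain ⟨a, rfl⟩ := Krr.H490.LocBasisPull.ger_surjective hb y hy m
  have h1 : F.presheaf.stalkSpecializes (gen y) (∑ k, a k • ger F y hy (b k)) =
      ∑ k, (X.presheaf.stalkSpecializes (gen y) (a k) : X.functionField) • c k := by
    rw [map_sum]
    refine Finset.sum_congr rfl fun k _ => ?_
    rw [spec_smul, hc]
  rw [h1, Basis.repr_sum_self]
  exact ⟨a i, rfl⟩

omit [IsIntegral X] in
open Groth.Agent.Sga67.LocBasis in
theorem rank_pull {Y : Scheme.{u}} (f : Y ⟶ X) {F : X.Modules} {r : ℕ} (hF : FlatMod.IsFinLocFreeOfRank r F) :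
    FlatMod.IsFinLocFreeOfRank r ((Scheme.Modules.pullback f).obj F) := by
  refine (Krr.H487.KerRank.isFinLocFreeOfRank_iff _).mpr fun y => ?_
  obtain ⟨U, hy, b, hb⟩ := (Krr.H487.KerRank.isFinLocFreeOfRank_iff _).mp hF (f y)
  exact ⟨f ⁻¹ᵁ U, hy, _, Krr.H490.LocBasisPull.isLocBasis_psec f F le_rfl hb⟩

/-- Integrality of a map from a generic stalk to polynomials. -/
def Int' {T F : X.Modules} (ψ : St T →ₗ[X.functionField] SymmetricAlgebra X.functionField (St F)) : Prop :=
  ∀ y, ∀ t ∈ LL T y, ψ t ∈ S (RR y) (LL F y)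

/-- Contraction with `E`. -/
def step {T F E : X.Modules} (π : Pr F E)
    (ψ : St T →ₗ[X.functionField] SymmetricAlgebra X.functionField (St F)) :
    St (CohB1.tensorMod T E) →ₗ[X.functionField] SymmetricAlgebra X.functionField (St F) :=
  (TensorProduct.lift ((derL ∘ₗ π.pr).flip ∘ₗ ψ)) ∘ₗ (tensEquiv T E (genericPoint X)).symm.toLinearMap

theorem step_stmul {T F E : X.Modules} (π : Pr F E)
    (ψ : St T →ₗ[X.functionField] SymmetricAlgebra X.functionField (St F)) (t : St T) (e : St E) :
    step π ψ (stmul t e) = der (π.pr e) (ψ t) := by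
  have h : (tensEquiv T E (genericPoint X)).symm (stmul t e) = t ⊗ₜ e := by
    rw [stmul_def, LinearEquiv.symm_apply_apply]
  change TensorProduct.lift ((derL ∘ₗ π.pr).flip ∘ₗ ψ) ((tensEquiv T E (genericPoint X)).symm (stmul t e)) = _
  rw [h]
  rfl

theorem int_step {T F E : X.Modules} (π : Pr F E)
    {ψ : St T →ₗ[X.functionField] SymmetricAlgebra X.functionField (St F)} (hψ : Int' ψ) : Int' (step π ψ) := by
  rintro y _ ⟨z, rfl⟩
  induction z using stmul_induction with
  | h0 => rw [map_zero, map_zero]; exact Subring.zero_mem _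
  | h a b =>
    rw [stalkSpecializes_stmul, step_stmul]
    exact der_mem (π.int y _ ⟨b, rfl⟩) (hψ y _ ⟨a, rfl⟩)
  | ha u v hu hv => rw [map_add, map_add]; exact Subring.add_mem _ hu hv

/-- An integral functional. -/
def Fn (T : X.Modules) : Prop := ∃ c : St T →ₗ[X.functionField] X.functionField, c ≠ 0 ∧
  ∀ y, ∀ t ∈ LL T y, c t ∈ RR y

theorem fn_of_const {T F : X.Modules}
    {ψ : St T →ₗ[X.functionField] SymmetricAlgebra X.functionField (St F)} (hψ : Int' ψ) (h0 : ψ ≠ 0)
    (hc : ∀ t, ∃ c : X.functionField, ψ t = algebraMap _ _ c) : Fn T := by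
  refine ⟨(SymmetricAlgebra.algebraMapInv (R := X.functionField) (M := St F)).toLinearMap ∘ₗ ψ, fun h => h0 ?_,
    fun y t ht => inv_mem (hψ y t ht)⟩
  ext t
  obtain ⟨c, hc⟩ := hc t
  have h1 : SymmetricAlgebra.algebraMapInv (R := X.functionField) (M := St F) (ψ t) = 0 := congr($h t)
  rw [hc, AlgHom.commutes] at h1
  have h2 : c = 0 := h1
  rw [hc, h2, map_zero, LinearMap.zero_apply]

theorem const_of_totalDegree {F : X.Modules} {r : ℕ} (c₀ : Basis (Fin r) X.functionField (St F))
    {u : SymmetricAlgebra X.functionField (St F)}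
    (h : (SymmetricAlgebra.equivMvPolynomial c₀ u).totalDegree ≤ 0) :
    ∃ c : X.functionField, u = algebraMap _ _ c := by
  refine ⟨coeff 0 (SymmetricAlgebra.equivMvPolynomial c₀ u), ?_⟩
  apply (SymmetricAlgebra.equivMvPolynomial c₀).injective
  rw [AlgEquiv.commutes]
  exact totalDegree_eq_zero_iff_eq_C.1 (Nat.le_zero.1 h)

/-- Polarisation in characteristic zero. -/
theorem polar0 [CharZero X.functionField] (Q : X.Modules → Prop) {F E : X.Modules} {r : ℕ}
    (c₀ : Basis (Fin r) X.functionField (St F)) (π : Pr F E)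
    (hQ : ∀ T, Q T → Q (CohB1.tensorMod T E)) (n : ℕ) :
    ∀ (T : X.Modules) (_ : Q T) (ψ : St T →ₗ[X.functionField] SymmetricAlgebra X.functionField (St F)),
      ψ ≠ 0 → Int' ψ → (∀ t, (SymmetricAlgebra.equivMvPolynomial c₀ (ψ t)).totalDegree ≤ n) → ∃ T', Q T' ∧ Fn T' := by
  induction n with
  | zero =>
    intro T hT ψ h0 hi hd
    exact ⟨T, hT, fn_of_const hi h0 fun t => const_of_totalDegree c₀ (hd t)⟩
  | succ n ih =>
    intro T hT ψ h0 hi hd
    by_cases h : ∃ (e : St E) (t : St T), der (π.pr e) (ψ t) ≠ 0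
    · obtain ⟨e, t, het⟩ := h
      refine ih (CohB1.tensorMod T E) (hQ T hT) (step π ψ) (fun h => het ?_) (int_step π hi) fun z => ?_
      · rw [← step_stmul, h, LinearMap.zero_apply]
      · induction z using stmul_induction with
        | h0 => rw [map_zero, map_zero, totalDegree_zero]; exact Nat.zero_le _
        | h a b =>
          rw [step_stmul]
          refine (totalDegree_der c₀ _ _).trans ?_
          have := hd a
          omega
        | ha u v hu hv =>
          rw [map_add, map_add]
          exact (totalDegree_add _ _).trans (max_le hu hv)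
    · push Not at h
      refine ⟨T, hT, fn_of_const hi h0 fun t => const_of_der fun e => ?_⟩
      obtain ⟨e, rfl⟩ := π.surj e
      exact h e t

section frob

variable (p : ℕ) [hpp : Fact p.Prime] [FrobSch.IsCharP X p]

theorem psi_mem_LL (G : X.Modules) {y : X} {v : St G} (hv : v ∈ LL G y) : psi p G v ∈ LL (FP p G) y := by
  obtain ⟨v, rfl⟩ := hv
  exact ⟨can p G y v, can_spec p G (gen y) v⟩

theorem LL_frob_induction (G : X.Modules) {y : X} {P : St (FP p G) → Prop} (h0 : P 0)
    (ha : ∀ u v, P u → P v → P (u + v)) (hs : ∀ r ∈ RR y, ∀ v ∈ LL G y, P (r • psi p G v))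
    (v : St (FP p G)) (hv : v ∈ LL (FP p G) y) : P v := by
  obtain ⟨z, rfl⟩ := hv
  have h1 : z ∈ Submodule.span (X.presheaf.stalk y) (Set.range (can p G y)) := by
    rw [span_can]; trivial
  induction h1 using Submodule.closure_induction with
  | zero => rw [map_zero]; exact h0
  | add a b _ _ hx hy => rw [map_add]; exact ha _ _ hx hy
  | smul_mem r x hx =>
    obtain ⟨w, rfl⟩ := hx
    have h2 : (FP p G).presheaf.stalkSpecializes (gen y) (r • can p G y w) =
        (X.presheaf.stalkSpecializes (gen y) r : X.functionField) • psi p G (G.presheaf.stalkSpecializes (gen y) w) := by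
      rw [spec_smul, can_spec]
      rfl
    rw [h2]
    exact hs _ ⟨r, rfl⟩ _ ⟨w, rfl⟩

theorem charP_ff : CharP X.functionField p := by
  have h1 : (p : X.functionField) = 0 := by
    have h2 := congrArg (X.presheaf.germ ⊤ (genericPoint X) (Opens.mem_top _)).hom
      (FrobSch.natCast_eq_zero_app X p ⊤)
    simpa using h2
  exact (CharP.charP_iff_prime_eq_zero hpp.out).2 h1

variable {F E : X.Modules}

omit hpp [FrobSch.IsCharP X p] in
/-- Two additive maps, `p`-semilinear, agreeing on a basis, agree. -/
theorem semi_ext {V W : Type*} [AddCommGroup V] [Module X.functionField V] [AddCommGroup W] [Module X.functionField W]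
    {ι : Type*} (b : Basis ι X.functionField V) (f g : V →+ W)
    (hf : ∀ (c : X.functionField) v, f (c • v) = c ^ p • f v)
    (hg : ∀ (c : X.functionField) v, g (c • v) = c ^ p • g v) (h : ∀ i, f (b i) = g (b i)) (v : V) : f v = g v := by
  have h1 : v ∈ Submodule.span X.functionField (Set.range b) := by rw [b.span_eq]; trivial
  induction h1 using Submodule.closure_induction with
  | zero => rw [map_zero, map_zero]
  | add a b _ _ hx hy => rw [map_add, map_add, hx, hy]
  | smul_mem r x hx =>
    obtain ⟨i, rfl⟩ := hx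
    rw [hf, hg, h]

/-- The duality of the Frobenius pull-backs. -/
theorem exists_pr_frob (π : Pr F E) {r : ℕ} (b : Basis (Fin r) X.functionField (St F)) :
    Nonempty (Pr (FP p F) (FP p E)) := by
  classical
  have := charP_ff (X := X) p
  have : ExpChar X.functionField p := ExpChar.prime hpp.out
  obtain ⟨b', hb'⟩ := psi_basis p F b
  let d := Basis.ofVectorSpace X.functionField (St E)
  obtain ⟨d', hd'⟩ := psi_basis p E d
  let pr' : St (FP p E) →ₗ[X.functionField] (St (FP p F) →ₗ[X.functionField] X.functionField) :=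
    d'.constr X.functionField (fun j => b'.constr X.functionField (fun i => (π.pr (d j) (b i)) ^ p))
  have h1 : ∀ j v, pr' (psi p E (d j)) (psi p F v) = (π.pr (d j) v) ^ p := by
    intro j v
    refine semi_ext p b ((pr' (psi p E (d j))).toAddMonoidHom.comp (psi p F))
      ((frobenius X.functionField p).toAddMonoidHom.comp (π.pr (d j)).toAddMonoidHom) ?_ ?_ ?_ v
    · intro c v
      change pr' _ (psi p F (c • v)) = c ^ p • pr' _ (psi p F v)
      have : psi p F (c • v) = c ^ p • psi p F v := psi_smul p F c v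
      rw [this, map_smul]
    · intro c v
      change (π.pr (d j) (c • v)) ^ p = c ^ p • (π.pr (d j) v) ^ p
      rw [map_smul, smul_eq_mul, mul_pow, smul_eq_mul]
    · intro i
      change pr' (psi p E (d j)) (psi p F (b i)) = (π.pr (d j) (b i)) ^ p
      rw [← hd', ← hb', Basis.constr_basis, Basis.constr_basis]
  have h2 : ∀ e v, pr' (psi p E e) (psi p F v) = (π.pr e v) ^ p := by
    intro e v
    refine semi_ext p d (((LinearMap.applyₗ (psi p F v)).comp pr').toAddMonoidHom.comp (psi p E))
      ((frobenius X.functionField p).toAddMonoidHom.comp ((LinearMap.applyₗ v).comp π.pr).toAddMonoidHom) ?_ ?_ ?_ e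
    · intro c e
      change pr' (psi p E (c • e)) _ = c ^ p • pr' (psi p E e) _
      have : psi p E (c • e) = c ^ p • psi p E e := psi_smul p E c e
      rw [this, map_smul, LinearMap.smul_apply]
    · intro c e
      change (π.pr (c • e) v) ^ p = c ^ p • (π.pr e v) ^ p
      rw [map_smul, LinearMap.smul_apply, smul_eq_mul, mul_pow, smul_eq_mul]
    · intro j
      exact h1 j v
  refine ⟨⟨pr', fun l => ?_, ?_⟩⟩
  · choose e he using fun i => π.surj (b.coord i)
    refine ⟨∑ i, l (b' i) • psi p E (e i), b'.ext fun j => ?_⟩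
    rw [map_sum, LinearMap.sum_apply, Finset.sum_eq_single j]
    · rw [map_smul, LinearMap.smul_apply, hb', h2, he, Basis.coord_apply, Basis.repr_self, Finsupp.single_eq_same,
        one_pow, smul_eq_mul, mul_one]
    · intro i _ hij
      rw [map_smul, LinearMap.smul_apply, hb' j, h2, he, Basis.coord_apply, Basis.repr_self,
        Finsupp.single_eq_of_ne hij, zero_pow hpp.out.ne_zero, smul_zero]
    · exact fun h => absurd (Finset.mem_univ j) h
  · intro y e he v hv
    refine LL_frob_induction p F (P := fun v => pr' e v ∈ RR y) ?_ ?_ ?_ v hv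
    · rw [map_zero]; exact Subring.zero_mem _
    · intro u v hu hv; rw [map_add]; exact Subring.add_mem _ hu hv
    · intro r hr v hv
      rw [map_smul, smul_eq_mul]
      refine Subring.mul_mem _ hr ?_
      refine LL_frob_induction p E (P := fun e => pr' e (psi p F v) ∈ RR y) ?_ ?_ ?_ e he
      · rw [map_zero]; exact Subring.zero_mem _
      · intro u w hu hw; rw [map_add]; exact Subring.add_mem _ hu hw
      · intro r' hr' e he
        rw [map_smul, LinearMap.smul_apply, h2, smul_eq_mul]
        exact Subring.mul_mem _ hr' (Subring.pow_mem _ (π.int y _ he _ hv) _)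

/-- Polynomials killed by all derivations descend to the Frobenius pull-back. -/
theorem exists_descend {T : X.Modules} {r : ℕ} (hF : HB F r)
    (c₀ : Basis (Fin r) X.functionField (St F)) (c₀' : Basis (Fin r) X.functionField (St (FP p F)))
    (hc₀ : ∀ i, c₀' i = psi p F (c₀ i))
    {ψ : St T →ₗ[X.functionField] SymmetricAlgebra X.functionField (St F)} (hi : Int' ψ)
    (hd : ∀ (e : St F →ₗ[X.functionField] X.functionField) t, der e (ψ t) = 0) :
    ∃ ψ' : St T →ₗ[X.functionField] SymmetricAlgebra X.functionField (St (FP p F)),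
      (∀ t, θ p c₀ c₀' (ψ' t) = ψ t) ∧ Int' ψ' := by
  have := charP_ff (X := X) p
  have hinj : Function.Injective (θ p c₀ c₀') := θ_injective p (psi p F) (psi_smul p F) c₀ c₀' hc₀
  have h1 : ∀ t, ψ t ∈ LinearMap.range (θ p c₀ c₀').toLinearMap := fun t => by
    obtain ⟨u', -, h⟩ := exists_lift p (psi p F) (psi_smul p F) c₀ c₀' hc₀ c₀ c₀' hc₀ (R := ⊤) (Λ := Set.univ)
      (Λ' := Set.univ) (fun _ _ _ => trivial) (fun _ => trivial) (u := ψ t)
      (mem_of_coeff c₀ (Λ := Set.univ) (fun _ => trivial) (fun _ => trivial)) (fun e => hd e t)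
    exact ⟨u', h⟩
  let ψ' : St T →ₗ[X.functionField] SymmetricAlgebra X.functionField (St (FP p F)) :=
    (LinearEquiv.ofInjective (θ p c₀ c₀').toLinearMap hinj).symm.toLinearMap ∘ₗ
      LinearMap.codRestrict (LinearMap.range (θ p c₀ c₀').toLinearMap) ψ h1
  have h2 : ∀ t, θ p c₀ c₀' (ψ' t) = ψ t := fun t => by
    have := LinearEquiv.apply_symm_apply (LinearEquiv.ofInjective (θ p c₀ c₀').toLinearMap hinj)
      (LinearMap.codRestrict (LinearMap.range (θ p c₀ c₀').toLinearMap) ψ h1 t)
    exact congrArg Subtype.val this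
  refine ⟨ψ', h2, fun y t ht => ?_⟩
  obtain ⟨c, hc1, hc2⟩ := hF y
  obtain ⟨c', hc'⟩ := psi_basis p F c
  obtain ⟨u', hu', h⟩ := exists_lift p (psi p F) (psi_smul p F) c₀ c₀' hc₀ c c' hc' (R := RR y) (Λ := LL F y)
      (Λ' := LL (FP p F) y) hc2 (fun i => by rw [hc']; exact psi_mem_LL p F (hc1 i)) (hi y t ht) (fun e => hd e t)
  have h3 : ψ' t = u' := hinj ((h2 t).trans h.symm)
  rw [h3]
  exact hu'

/-- Polarisation in characteristic `p`. -/
theorem polarp (CN Q : X.Modules → Prop) (hCN : ∀ E, CN E → CN (FP p E))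
    (hQ : ∀ T E, Q T → CN E → Q (CohB1.tensorMod T E)) (r n : ℕ) :
    ∀ (F E : X.Modules) (_ : FlatMod.IsFinLocFreeOfRank r F) (_ : CN E) (_ : Pr F E)
      (c₀ : Basis (Fin r) X.functionField (St F)) (T : X.Modules) (_ : Q T)
      (ψ : St T →ₗ[X.functionField] SymmetricAlgebra X.functionField (St F)),
      ψ ≠ 0 → Int' ψ → (∀ t, (SymmetricAlgebra.equivMvPolynomial c₀ (ψ t)).totalDegree ≤ n) →
        ∃ T', Q T' ∧ Fn T' := by
  have := charP_ff (X := X) p
  induction n with
  | zero =>
    intro F E hF hE π c₀ T hT ψ h0 hi hd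
    exact ⟨T, hT, fn_of_const hi h0 fun t => const_of_totalDegree c₀ (hd t)⟩
  | succ n ih =>
    intro F E hF hE π c₀ T hT ψ h0 hi hd
    by_cases h : ∃ (e : St E) (t : St T), der (π.pr e) (ψ t) ≠ 0
    · obtain ⟨e, t, het⟩ := h
      refine ih F E hF hE π c₀ (CohB1.tensorMod T E) (hQ T E hT hE) (step π ψ) (fun h => het ?_) (int_step π hi)
        fun z => ?_
      · rw [← step_stmul, h, LinearMap.zero_apply]
      · induction z using stmul_induction with
        | h0 => rw [map_zero, map_zero, totalDegree_zero]; exact Nat.zero_le _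
        | h a b =>
          rw [step_stmul]
          refine (totalDegree_der c₀ _ _).trans ?_
          have := hd a
          omega
        | ha u v hu hv =>
          rw [map_add, map_add]
          exact (totalDegree_add _ _).trans (max_le hu hv)
    · push Not at h
      have hd0 : ∀ (e : St F →ₗ[X.functionField] X.functionField) t, der e (ψ t) = 0 := fun e t => by
        obtain ⟨e, rfl⟩ := π.surj e
        exact h e t
      obtain ⟨c₀', hc₀'⟩ := psi_basis p F c₀
      obtain ⟨ψ', h1, h2⟩ := exists_descend p (hB_of_rank hF) c₀ c₀' hc₀' hi hd0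
      obtain ⟨π'⟩ := exists_pr_frob p π c₀
      refine ih (FP p F) (FP p E) ?_ (hCN E hE) π' c₀' T hT ψ' (fun h => h0 ?_) h2 fun t => ?_
      · exact rank_pull _ hF
      · ext t
        rw [← h1, h, LinearMap.zero_apply, map_zero, LinearMap.zero_apply]
      · have h3 := totalDegree_θ p (psi p F) (psi_smul p F) c₀ c₀' hc₀' (ψ' t)
        rw [h1] at h3
        have h4 := hd t
        rw [h3] at h4
        have h5 := hpp.out.two_le
        by_contra hcon
        push Not at hcon
        nlinarith

end frob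

omit [IsIntegral X] in
theorem isTorsionFree_O : TorSh.IsTorsionFree (Coh.structureModule X) := by
  intro x
  have : Module.Free (X.presheaf.stalk x) ((Coh.structureModule X).presheaf.stalk x) :=
    Module.Free.of_equiv (Groth.Agent.Fdesc.StructMod.stalkEquiv x)
  infer_instance

/-- An integral functional comes from a morphism to the structure module. -/
theorem exists_hom_of_fn {T : X.Modules} (hT : Fn T) : ∃ φ : T ⟶ Coh.structureModule X, φ ≠ 0 := by
  obtain ⟨c, hc0, hc⟩ := hT
  let e : St T →ₗ[X.functionField] St (Coh.structureModule X) :=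
    (LinearMap.toSpanSingleton X.functionField _ (unitGerm (genericPoint X))) ∘ₗ c
  obtain ⟨φ, hφ⟩ := K849.Cst.exists_hom (M := T) (N := Coh.structureModule X)
    (Groth.Agent.Fdesc.StructMod.isQCoh_structureModule X) isTorsionFree_O e (fun y m => by
    obtain ⟨r, hr⟩ := hc y _ ⟨m, rfl⟩
    refine ⟨r • unitGerm y, ?_⟩
    rw [spec_smul, stalkSpecializes_unitGerm]
    change _ = c _ • unitGerm (genericPoint X)
    rw [← hr])
  refine ⟨φ, fun h => hc0 ?_⟩
  ext t
  have h1 : Groth.Agent.CycB.StalkExact.stalkLin φ (genericPoint X) t = c t • unitGerm (genericPoint X) := congr($hφ t)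
  rw [h] at h1
  obtain ⟨U, hU, s, rfl⟩ := T.presheaf.exists_germ_eq t
  rw [Groth.Agent.CycB.StalkExact.stalkLin_germ] at h1
  have h2 : ((Coh.structureModule X).presheaf.germ U (genericPoint X) hU) ((0 : T ⟶ Coh.structureModule X).app U s) = 0 :=
    map_zero _
  rw [h2] at h1
  have h3 := (isGen_unitGerm (X := X) (genericPoint X)).1 (a₁ := 0) (a₂ := c _) (by
    change (0 : X.presheaf.stalk (genericPoint X)) • _ = _
    rw [zero_smul]
    exact h1)
  exact h3.symm

end K432.Polar
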