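import Mathlib.LinearAlgebra.SymmetricAlgebra.Basis
import Mathlib.Algebra.MvPolynomial.PDeriv
import Mathlib.Algebra.MvPolynomial.Expand
import Mathlib.Algebra.CharP.Lemmas
import Mathlib.LinearAlgebra.Basis.VectorSpace
import Mathlib.Algebra.CharP.Algebra

/-!
# Polynomials on a vector space: derivations, lattices, `p`-th powers

`A = Sym_K(V)`; for a linear form `e` the derivation `der e`; for a subring `R ⊆ K` and `Λ ⊆ V` the subring
`S R Λ ⊆ A` generated by `R` and `Λ`.

* `der_mem`, `inv_mem`;
* `const_of_der` (characteristic zero), `exists_lift` (characteristic `p`): elements killed by all derivations.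
-/

set_option autoImplicit false

open MvPolynomial Module

namespace K432.SymPol

section mv

variable {K σ : Type*} [Field K]

theorem totalDegree_pderiv (i : σ) (f : MvPolynomial σ K) : (pderiv i f).totalDegree ≤ f.totalDegree - 1 := by
  classical
  rw [totalDegree, Finset.sup_le_iff]
  intro m hm
  rw [mem_support_iff, coeff_pderiv] at hm
  have h1 : coeff (m + Finsupp.single i 1) f ≠ 0 := fun h => hm (by rw [h, zero_mul])
  have h2 := le_totalDegree (mem_support_iff.2 h1)
  have h3 : ((m + Finsupp.single i 1).sum fun _ e => e) = (m.sum fun _ e => e) + 1 := by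
    rw [Finsupp.sum_add_index' (fun _ => rfl) (fun _ _ _ => rfl), Finsupp.sum_single_index rfl]
  omega

theorem mul_coeff_eq_zero {f : MvPolynomial σ K} (h : ∀ i, pderiv i f = 0) (m : σ →₀ ℕ) (i : σ) :
    (m i : K) * coeff m f = 0 := by
  classical
  by_cases hm : m i = 0
  · rw [hm, Nat.cast_zero, zero_mul]
  · have h1 : m = (m - Finsupp.single i 1) + Finsupp.single i 1 := by
      ext j
      rw [Finsupp.add_apply, Finsupp.tsub_apply, Finsupp.single_apply]
      split_ifs with hij
      · subst hij; omega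
      · omega
    have h2 := coeff_pderiv f (m - Finsupp.single i 1) (i := i)
    rw [h i, coeff_zero, ← h1] at h2
    have h3 : ((m - Finsupp.single i 1 : σ →₀ ℕ) i : K) + 1 = (m i : K) := by
      rw [Finsupp.tsub_apply, Finsupp.single_eq_same, Nat.cast_sub (by omega)]
      push_cast
      ring
    rw [h3, mul_comm] at h2
    exact h2.symm

theorem eq_C_of_pderiv [CharZero K] {f : MvPolynomial σ K} (h : ∀ i, pderiv i f = 0) : f = C (coeff 0 f) := by
  classical
  ext m
  rw [coeff_C]
  split_ifs with hm
  · rw [hm]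
  · obtain ⟨i, hi⟩ : ∃ i, m i ≠ 0 := by
      by_contra hcon
      push Not at hcon
      exact hm (Finsupp.ext fun i => (hcon i).symm)
    exact (mul_eq_zero.1 (mul_coeff_eq_zero h m i)).resolve_left (by exact_mod_cast hi)

theorem exists_expand (p : ℕ) [CharP K p] (hp : 0 < p) (R : Subring K) {f : MvPolynomial σ K}
    (h : ∀ i, pderiv i f = 0) (hR : ∀ m, coeff m f ∈ R) :
    ∃ g : MvPolynomial σ K, expand p g = f ∧ ∀ m, coeff m g ∈ R := by
  classical
  have hd : ∀ m ∈ f.support, ∀ i, p ∣ m i := fun m hm i => by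
    rw [← CharP.cast_eq_zero_iff K p]
    exact (mul_eq_zero.1 (mul_coeff_eq_zero h m i)).resolve_right (mem_support_iff.1 hm)
  refine ⟨∑ m ∈ f.support, monomial (m.mapRange (· / p) (Nat.zero_div p)) (coeff m f), ?_, fun m => ?_⟩
  · rw [map_sum]
    conv_rhs => rw [f.as_sum]
    refine Finset.sum_congr rfl fun m hm => ?_
    have h1 : p • m.mapRange (· / p) (Nat.zero_div p) = m := Finsupp.ext fun i => by
      rw [Finsupp.smul_apply, Finsupp.mapRange_apply, smul_eq_mul]
      exact Nat.mul_div_cancel' (hd m hm i)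
    rw [expand_monomial, h1]
  · rw [coeff_sum]
    refine Subring.sum_mem _ fun m' _ => ?_
    rw [coeff_monomial]
    split_ifs
    · exact hR m'
    · exact R.zero_mem

end mv

section der

variable {K V : Type*} [Field K] [AddCommGroup V] [Module K V]

/-- The derivation of polynomials in coordinates. -/
noncomputable def derB {σ : Type*} (b : Basis σ K V) (e : V →ₗ[K] K) :
    Derivation K (MvPolynomial σ K) (MvPolynomial σ K) := mkDerivation K (fun i => C (e (b i)))

/-- The derivation of `Sym_K(V)` attached to a linear form. -/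
noncomputable def der (e : V →ₗ[K] K) : SymmetricAlgebra K V →ₗ[K] SymmetricAlgebra K V :=
  (SymmetricAlgebra.equivMvPolynomial (Basis.ofVectorSpace K V)).symm.toLinearMap ∘ₗ
    (derB (Basis.ofVectorSpace K V) e).toLinearMap ∘ₗ
      (SymmetricAlgebra.equivMvPolynomial (Basis.ofVectorSpace K V)).toLinearMap

theorem der_def (e : V →ₗ[K] K) (u : SymmetricAlgebra K V) : der e u =
    (SymmetricAlgebra.equivMvPolynomial (Basis.ofVectorSpace K V)).symm
      (derB (Basis.ofVectorSpace K V) e (SymmetricAlgebra.equivMvPolynomial (Basis.ofVectorSpace K V) u)) := rfl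

theorem der_mul (e : V →ₗ[K] K) (u w : SymmetricAlgebra K V) : der e (u * w) = u * der e w + w * der e u := by
  rw [der_def, map_mul, Derivation.leibniz, map_add, smul_eq_mul, smul_eq_mul, map_mul, map_mul,
    AlgEquiv.symm_apply_apply, AlgEquiv.symm_apply_apply, der_def, der_def]

theorem der_algebraMap (e : V →ₗ[K] K) (c : K) : der e (algebraMap K _ c) = 0 := by
  rw [der_def, AlgEquiv.commutes, Derivation.map_algebraMap, map_zero]

theorem der_ι (e : V →ₗ[K] K) (v : V) : der e (SymmetricAlgebra.ι K V v) = algebraMap K _ (e v) := by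
  have h : (der e) ∘ₗ SymmetricAlgebra.ι K V = (Algebra.linearMap K (SymmetricAlgebra K V)) ∘ₗ e := by
    refine (Basis.ofVectorSpace K V).ext fun i => ?_
    rw [LinearMap.comp_apply, LinearMap.comp_apply, der_def, SymmetricAlgebra.equivMvPolynomial_ι_apply,
      derB, mkDerivation_X, Algebra.linearMap_apply]
    exact AlgEquiv.commutes _ _
  exact congr($h v)

theorem der_add (e e' : V →ₗ[K] K) (u : SymmetricAlgebra K V) : der (e + e') u = der e u + der e' u := by
  induction u using SymmetricAlgebra.induction with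
  | algebraMap r => rw [der_algebraMap, der_algebraMap, der_algebraMap, add_zero]
  | ι x => rw [der_ι, der_ι, der_ι, LinearMap.add_apply, map_add]
  | mul a b ha hb => rw [der_mul, der_mul, der_mul, ha, hb]; ring
  | add a b ha hb => rw [map_add, map_add, map_add, ha, hb]; ring

theorem der_smul (c : K) (e : V →ₗ[K] K) (u : SymmetricAlgebra K V) : der (c • e) u = c • der e u := by
  induction u using SymmetricAlgebra.induction with
  | algebraMap r => rw [der_algebraMap, der_algebraMap, smul_zero]
  | ι x => rw [der_ι, der_ι, LinearMap.smul_apply, smul_eq_mul, map_mul, Algebra.smul_def]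
  | mul a b ha hb => rw [der_mul, der_mul, ha, hb, smul_add, mul_smul_comm, mul_smul_comm]
  | add a b ha hb => rw [map_add, map_add, ha, hb, smul_add]

/-- `der` as a bilinear map. -/
noncomputable def derL : (V →ₗ[K] K) →ₗ[K] SymmetricAlgebra K V →ₗ[K] SymmetricAlgebra K V where
  toFun := der
  map_add' e e' := LinearMap.ext fun u => der_add e e' u
  map_smul' c e := LinearMap.ext fun u => der_smul c e u

@[simp] theorem derL_apply (e : V →ₗ[K] K) (u : SymmetricAlgebra K V) : derL e u = der e u := rfl

/-- `der` in the coordinates of any basis. -/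
theorem equiv_der {σ : Type*} (b : Basis σ K V) (e : V →ₗ[K] K) (u : SymmetricAlgebra K V) :
    SymmetricAlgebra.equivMvPolynomial b (der e u) = derB b e (SymmetricAlgebra.equivMvPolynomial b u) := by
  induction u using SymmetricAlgebra.induction with
  | algebraMap r => rw [der_algebraMap, map_zero, AlgEquiv.commutes, Derivation.map_algebraMap]
  | ι x =>
    have h : (SymmetricAlgebra.equivMvPolynomial b).toLinearMap ∘ₗ (der e) ∘ₗ SymmetricAlgebra.ι K V =
        (derB b e).toLinearMap ∘ₗ (SymmetricAlgebra.equivMvPolynomial b).toLinearMap ∘ₗ SymmetricAlgebra.ι K V := by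
      refine b.ext fun i => ?_
      change SymmetricAlgebra.equivMvPolynomial b (der e (SymmetricAlgebra.ι K V (b i))) =
        derB b e (SymmetricAlgebra.equivMvPolynomial b (SymmetricAlgebra.ι K V (b i)))
      rw [der_ι, AlgEquiv.commutes, SymmetricAlgebra.equivMvPolynomial_ι_apply, derB, mkDerivation_X]
      rfl
    exact congr($h x)
  | mul a c ha hc => rw [der_mul, map_add, map_mul, map_mul, ha, hc, map_mul, Derivation.leibniz, smul_eq_mul, smul_eq_mul]
  | add a c ha hc => rw [map_add, map_add, ha, hc, map_add, map_add]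

theorem derB_coord {σ : Type*} (b : Basis σ K V) (i : σ) (f : MvPolynomial σ K) :
    derB b (b.coord i) f = pderiv i f := by
  classical
  rw [derB, pderiv_def]
  congr 2
  funext j
  rw [Basis.coord_apply, Basis.repr_self, Finsupp.single_apply, Pi.single_apply]
  by_cases h : j = i
  · rw [if_pos h, if_pos h, C_1]
  · rw [if_neg h, if_neg h, C_0]

theorem totalDegree_der {σ : Type*} [Fintype σ] (b : Basis σ K V) (e : V →ₗ[K] K) (u : SymmetricAlgebra K V) :
    (SymmetricAlgebra.equivMvPolynomial b (der e u)).totalDegree ≤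
      (SymmetricAlgebra.equivMvPolynomial b u).totalDegree - 1 := by
  classical
  have h : e = ∑ i, e (b i) • b.coord i := by
    refine b.ext fun j => ?_
    rw [LinearMap.sum_apply, Finset.sum_eq_single j]
    · rw [LinearMap.smul_apply, Basis.coord_apply, Basis.repr_self, Finsupp.single_eq_same, smul_eq_mul, mul_one]
    · intro i _ hij
      rw [LinearMap.smul_apply, Basis.coord_apply, Basis.repr_self, Finsupp.single_eq_of_ne hij, smul_zero]
    · exact fun h => absurd (Finset.mem_univ j) h
  have h2 : der e u = ∑ i, e (b i) • der (b.coord i) u := by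
    conv_lhs => rw [h]
    rw [← derL_apply, map_sum, LinearMap.sum_apply]
    refine Finset.sum_congr rfl fun i _ => ?_
    rw [map_smul]
    rfl
  rw [h2, map_sum]
  refine totalDegree_finsetSum_le fun i _ => ?_
  rw [map_smul]
  refine (totalDegree_smul_le _ _).trans ?_
  rw [equiv_der, derB_coord]
  exact totalDegree_pderiv i _

end der

section lat

variable {K V : Type*} [Field K] [AddCommGroup V] [Module K V]

/-- The subring of `Sym_K(V)` generated by `R ⊆ K` and `Λ ⊆ V`. -/
def S (R : Subring K) (Λ : Set V) : Subring (SymmetricAlgebra K V) :=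
  Subring.closure (algebraMap K (SymmetricAlgebra K V) '' R ∪ SymmetricAlgebra.ι K V '' Λ)

theorem algebraMap_mem (R : Subring K) (Λ : Set V) {r : K} (hr : r ∈ R) : algebraMap K _ r ∈ S R Λ :=
  Subring.subset_closure (Or.inl ⟨r, hr, rfl⟩)

theorem ι_mem (R : Subring K) (Λ : Set V) {v : V} (hv : v ∈ Λ) : SymmetricAlgebra.ι K V v ∈ S R Λ :=
  Subring.subset_closure (Or.inr ⟨v, hv, rfl⟩)

theorem S_le {R : Subring K} {Λ : Set V} {T : Subring (SymmetricAlgebra K V)}
    (h1 : ∀ r ∈ R, algebraMap K _ r ∈ T) (h2 : ∀ v ∈ Λ, SymmetricAlgebra.ι K V v ∈ T) : S R Λ ≤ T := by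
  rw [S, Subring.closure_le]
  rintro _ (⟨r, hr, rfl⟩ | ⟨v, hv, rfl⟩)
  · exact h1 r hr
  · exact h2 v hv

theorem smul_mem (R : Subring K) (Λ : Set V) {r : K} (hr : r ∈ R) {u : SymmetricAlgebra K V} (hu : u ∈ S R Λ) :
    r • u ∈ S R Λ := by
  rw [Algebra.smul_def]
  exact Subring.mul_mem _ (algebraMap_mem R Λ hr) hu

/-- Derivations which are integral on `Λ` preserve `S R Λ`. -/
theorem der_mem {R : Subring K} {Λ : Set V} {e : V →ₗ[K] K} (he : ∀ v ∈ Λ, e v ∈ R) {u : SymmetricAlgebra K V}
    (hu : u ∈ S R Λ) : der e u ∈ S R Λ := by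
  unfold S at hu
  induction hu using Subring.closure_induction with
  | mem x hx =>
    obtain ⟨r, _, rfl⟩ | ⟨v, hv, rfl⟩ := hx
    · rw [der_algebraMap]; exact Subring.zero_mem _
    · rw [der_ι]; exact algebraMap_mem R Λ (he v hv)
  | zero => rw [map_zero]; exact Subring.zero_mem _
  | one => rw [← map_one (algebraMap K _), der_algebraMap]; exact Subring.zero_mem _
  | add x y _ _ hx hy => rw [map_add]; exact Subring.add_mem _ hx hy
  | neg x _ hx => rw [map_neg]; exact Subring.neg_mem _ hx
  | mul x y hx' hy' hx hy =>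
    rw [der_mul]
    exact Subring.add_mem _ (Subring.mul_mem _ hx' hy) (Subring.mul_mem _ hy' hx)

theorem inv_mem {R : Subring K} {Λ : Set V} {u : SymmetricAlgebra K V} (hu : u ∈ S R Λ) :
    (SymmetricAlgebra.algebraMapInv u : K) ∈ R := by
  have h : S R Λ ≤ R.comap (SymmetricAlgebra.algebraMapInv (R := K) (M := V)).toRingHom := by
    refine S_le (fun r hr => ?_) (fun v _ => ?_)
    · rw [Subring.mem_comap]
      change SymmetricAlgebra.algebraMapInv (algebraMap K _ r) ∈ R
      rw [AlgHom.commutes]
      exact hr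
    · rw [Subring.mem_comap]
      change SymmetricAlgebra.algebraMapInv (SymmetricAlgebra.ι K V v) ∈ R
      rw [SymmetricAlgebra.algebraMapInv_ι]
      exact R.zero_mem
  exact h hu

/-- The coefficients of an element of `S R Λ`, in a basis for which `Λ` has integral coordinates, are in `R`. -/
theorem coeff_mem {σ : Type*} [Fintype σ] (b : Basis σ K V) {R : Subring K} {Λ : Set V}
    (hb : ∀ v ∈ Λ, ∀ i, b.repr v i ∈ R) {u : SymmetricAlgebra K V} (hu : u ∈ S R Λ) (m : σ →₀ ℕ) :
    coeff m (SymmetricAlgebra.equivMvPolynomial b u) ∈ R := by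
  classical
  have h : S R Λ ≤ (MvPolynomial.map (σ := σ) R.subtype).range.comap
      (SymmetricAlgebra.equivMvPolynomial b).toAlgHom.toRingHom := by
    refine S_le (fun r hr => ?_) (fun v hv => ?_)
    · rw [Subring.mem_comap]
      refine ⟨C ⟨r, hr⟩, ?_⟩
      rw [map_C]
      exact ((SymmetricAlgebra.equivMvPolynomial b).commutes r).symm
    · rw [Subring.mem_comap]
      refine ⟨∑ i, C ⟨b.repr v i, hb v hv i⟩ * X i, ?_⟩
      rw [map_sum]
      change _ = SymmetricAlgebra.equivMvPolynomial b (SymmetricAlgebra.ι K V v)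
      conv_rhs => rw [← b.sum_repr v]
      rw [map_sum, map_sum]
      refine Finset.sum_congr rfl fun i _ => ?_
      rw [map_mul, map_C, map_X, map_smul, map_smul, SymmetricAlgebra.equivMvPolynomial_ι_apply, smul_eq_C_mul]
      rfl
  obtain ⟨g, hg⟩ := h hu
  have hg' : MvPolynomial.map R.subtype g = SymmetricAlgebra.equivMvPolynomial b u := hg
  rw [← hg', coeff_map]
  exact (coeff m g).2

/-- A polynomial with coefficients in `R` in a basis with members in `Λ` is in `S R Λ`. -/
theorem mem_of_coeff {σ : Type*} (b : Basis σ K V) {R : Subring K} {Λ : Set V} (hb : ∀ i, b i ∈ Λ)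
    {u : SymmetricAlgebra K V} (hu : ∀ m, coeff m (SymmetricAlgebra.equivMvPolynomial b u) ∈ R) : u ∈ S R Λ := by
  classical
  have h1 : u = (SymmetricAlgebra.equivMvPolynomial b).symm (SymmetricAlgebra.equivMvPolynomial b u) :=
    (AlgEquiv.symm_apply_apply _ _).symm
  rw [h1]
  generalize SymmetricAlgebra.equivMvPolynomial b u = f at hu
  rw [f.as_sum, map_sum]
  refine Subring.sum_mem _ fun m _ => ?_
  rw [monomial_eq, map_mul, Finsupp.prod, map_prod]
  refine Subring.mul_mem _ ?_ (Subring.prod_mem _ fun i _ => ?_)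
  · have : (SymmetricAlgebra.equivMvPolynomial b).symm (C (coeff m f)) = algebraMap K _ (coeff m f) :=
      AlgEquiv.commutes _ _
    rw [this]
    exact algebraMap_mem R Λ (hu m)
  · rw [map_pow, SymmetricAlgebra.equivMvPolynomial_symm_X]
    exact Subring.pow_mem _ (ι_mem R Λ (hb i)) _

/-- In characteristic zero an element killed by all derivations is a constant. -/
theorem const_of_der [CharZero K] {u : SymmetricAlgebra K V} (hu : ∀ e : V →ₗ[K] K, der e u = 0) :
    ∃ c : K, u = algebraMap K _ c := by
  let b := Basis.ofVectorSpace K V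
  have h1 : ∀ i, pderiv i (SymmetricAlgebra.equivMvPolynomial b u) = 0 := fun i => by
    rw [← derB_coord b, ← equiv_der, hu, map_zero]
  refine ⟨coeff 0 (SymmetricAlgebra.equivMvPolynomial b u), ?_⟩
  apply (SymmetricAlgebra.equivMvPolynomial b).injective
  rw [AlgEquiv.commutes]
  exact eq_C_of_pderiv h1

end lat

section frob

variable {K V V' : Type*} [Field K] [AddCommGroup V] [Module K V] [AddCommGroup V'] [Module K V']
variable (p : ℕ) [hpp : Fact p.Prime] [CharP K p] (fr : V →+ V') (hfr : ∀ (c : K) v, fr (c • v) = c ^ p • fr v)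

/-- The map `Sym(V') → Sym(V)` sending `fr v` to `v ^ p`. -/
noncomputable def θ {σ : Type*} (b : Basis σ K V) (b' : Basis σ K V') : SymmetricAlgebra K V' →ₐ[K] SymmetricAlgebra K V :=
  SymmetricAlgebra.lift (b'.constr K fun i => (SymmetricAlgebra.ι K V (b i)) ^ p)

include hpp hfr in
theorem θ_fr {σ : Type*} [Fintype σ] (b : Basis σ K V) (b' : Basis σ K V') (hb : ∀ i, b' i = fr (b i)) (v : V) :
    θ p b b' (SymmetricAlgebra.ι K V' (fr v)) = (SymmetricAlgebra.ι K V v) ^ p := by
  have : CharP (SymmetricAlgebra K V) p := charP_of_injective_algebraMap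
    (algebraMap K (SymmetricAlgebra K V)).injective p
  have : ExpChar (SymmetricAlgebra K V) p := ExpChar.prime hpp.out
  rw [θ, SymmetricAlgebra.lift_ι_apply]
  conv_lhs => rw [← b.sum_repr v]
  conv_rhs => rw [← b.sum_repr v]
  rw [map_sum, map_sum, map_sum, sum_pow_char]
  refine Finset.sum_congr rfl fun i _ => ?_
  rw [hfr, map_smul, ← hb, Basis.constr_basis, map_smul, smul_pow]

include hpp hfr in
theorem equiv_θ {σ τ : Type*} [Fintype σ] (b : Basis σ K V) (b' : Basis σ K V') (hb : ∀ i, b' i = fr (b i))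
    (c : Basis τ K V) (c' : Basis τ K V') (hc : ∀ i, c' i = fr (c i)) (u : SymmetricAlgebra K V') :
    SymmetricAlgebra.equivMvPolynomial c (θ p b b' u) =
      expand p (SymmetricAlgebra.equivMvPolynomial c' u) := by
  have h : ((SymmetricAlgebra.equivMvPolynomial c).toAlgHom.comp (θ p b b')) =
      (expand p).comp (SymmetricAlgebra.equivMvPolynomial c').toAlgHom := by
    apply SymmetricAlgebra.algHom_ext
    refine c'.ext fun i => ?_
    change SymmetricAlgebra.equivMvPolynomial c (θ p b b' (SymmetricAlgebra.ι K V' (c' i))) =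
      expand p (SymmetricAlgebra.equivMvPolynomial c' (SymmetricAlgebra.ι K V' (c' i)))
    rw [SymmetricAlgebra.equivMvPolynomial_ι_apply, expand_X, hc, θ_fr p fr hfr b b' hb, map_pow,
      SymmetricAlgebra.equivMvPolynomial_ι_apply]
  exact congr($h u)

include hpp hfr in
theorem θ_injective {σ : Type*} [Fintype σ] (b : Basis σ K V) (b' : Basis σ K V') (hb : ∀ i, b' i = fr (b i)) :
    Function.Injective (θ p b b') := by
  intro u w h
  apply (SymmetricAlgebra.equivMvPolynomial b').injective
  apply expand_injective (R := K) (σ := σ) hpp.out.pos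
  rw [← equiv_θ p fr hfr b b' hb b b' hb, ← equiv_θ p fr hfr b b' hb b b' hb, h]

include hpp hfr in
/-- An element of `S R Λ` killed by all derivations is a polynomial in the `v ^ p`, with integral coefficients. -/
theorem exists_lift {σ τ : Type*} [Fintype σ] [Fintype τ] (b : Basis σ K V) (b' : Basis σ K V')
    (hb : ∀ i, b' i = fr (b i)) (c : Basis τ K V) (c' : Basis τ K V') (hc : ∀ i, c' i = fr (c i))
    {R : Subring K} {Λ : Set V} {Λ' : Set V'} (h1 : ∀ v ∈ Λ, ∀ i, c.repr v i ∈ R) (h2 : ∀ i, c' i ∈ Λ')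
    {u : SymmetricAlgebra K V} (hu : u ∈ S R Λ) (hd : ∀ e : V →ₗ[K] K, der e u = 0) :
    ∃ u' ∈ S R Λ', θ p b b' u' = u := by
  have h3 : ∀ i, pderiv i (SymmetricAlgebra.equivMvPolynomial c u) = 0 := fun i => by
    rw [← derB_coord c, ← equiv_der, hd, map_zero]
  obtain ⟨g, hg, hgR⟩ := exists_expand p hpp.out.pos R h3 (coeff_mem c h1 hu)
  refine ⟨(SymmetricAlgebra.equivMvPolynomial c').symm g, mem_of_coeff c' h2 fun m => ?_, ?_⟩
  · rw [AlgEquiv.apply_symm_apply]
    exact hgR m
  · apply (SymmetricAlgebra.equivMvPolynomial c).injective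
    rw [equiv_θ p fr hfr b b' hb c c' hc, AlgEquiv.apply_symm_apply, hg]

include hpp hfr in
theorem totalDegree_θ {σ : Type*} [Fintype σ] (b : Basis σ K V) (b' : Basis σ K V') (hb : ∀ i, b' i = fr (b i))
    (u : SymmetricAlgebra K V') : (SymmetricAlgebra.equivMvPolynomial b (θ p b b' u)).totalDegree =
      (SymmetricAlgebra.equivMvPolynomial b' u).totalDegree * p := by
  rw [equiv_θ p fr hfr b b' hb b b' hb, totalDegree_expand]

end frob

end K432.SymPol
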